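import Mathlib

/-!
# Flatness descends along a faithfully flat map on the source

`A → B → C` with `B → C` faithfully flat and `A → C` flat: then `A → B` is flat.
Scheme version: `g : X ⟶ Y` flat surjective and `g ≫ f` flat: then `f` is flat.
-/

universe u
open TensorProduct CategoryTheory AlgebraicGeometry

namespace Groth.Agent.Lib.Helper40.FlatDescentSrc

theorem flat_of_faithfullyFlat_of_flat (A B C : Type*) [CommRing A] [CommRing B] [CommRing C]
    [Algebra A B] [Algebra B C] [Algebra A C] [IsScalarTower A B C] [Module.FaithfullyFlat B C]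
    [Module.Flat A C] : Module.Flat A B := by
  rw [Module.Flat.iff_lTensor_injectiveₛ]
  intro P _ _ N
  have h1 : Function.Injective (N.subtype.lTensor C) :=
    Module.Flat.lTensor_preserves_injective_linearMap _ Subtype.val_injective
  rw [← AlgebraTensorModule.coe_lTensor (A := B)]
  rw [← Module.FaithfullyFlat.lTensor_injective_iff_injective B C]
  have key := AlgebraTensorModule.lTensor_comp_cancelBaseChange (R := A) (A := B) (B := C)
    (M := C) N.subtype
  have h2 : Function.Injective ((AlgebraTensorModule.lTensor C C N.subtype) ∘ₗ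
      (AlgebraTensorModule.cancelBaseChange A B C C N).toLinearMap) := by
    rw [LinearMap.coe_comp]
    exact (h1.comp (AlgebraTensorModule.cancelBaseChange A B C C N).injective)
  rw [key] at h2
  rw [LinearMap.coe_comp, LinearEquiv.coe_coe] at h2
  exact Function.Injective.of_comp h2

/-- Ring hom version. -/
theorem ringHom_flat_of_comp {A B C : Type*} [CommRing A] [CommRing B] [CommRing C]
    [IsLocalRing B] [IsLocalRing C]
    (f : A →+* B) (g : B →+* C) [IsLocalHom g] (hg : g.Flat) (hgf : (g.comp f).Flat) :
    f.Flat := by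
  algebraize [f, g, g.comp f]
  have : Module.FaithfullyFlat B C := Module.FaithfullyFlat.of_flat_of_isLocalHom
  exact flat_of_faithfullyFlat_of_flat A B C

/-- If `g` is flat and surjective and `g ≫ f` is flat then `f` is flat. -/
theorem flat_of_comp_of_flat_surjective {X Y Z : Scheme.{u}} (g : X ⟶ Y) (f : Y ⟶ Z)
    [Flat g] [Surjective g] [Flat (g ≫ f)] : Flat f := by
  rw [Flat.iff_flat_stalkMap]
  intro y
  obtain ⟨x, rfl⟩ := g.surjective y
  have h1 : (g.stalkMap x).hom.Flat := Flat.stalkMap g x
  have h2 : ((g ≫ f).stalkMap x).hom.Flat := Flat.stalkMap (g ≫ f) x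
  rw [Scheme.Hom.stalkMap_comp] at h2
  exact ringHom_flat_of_comp (f.stalkMap (g x)).hom (g.stalkMap x).hom h1 h2

end Groth.Agent.Lib.Helper40.FlatDescentSrc
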