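import Mathlib
import Groth.Prelude.Def_QuotSh

/-!
# Elementary description of `QuotSh` (quotient sheaves of pre-relations on the big site of a scheme)

For any precoverage `K`:
* `epi_repMap_iff`: `QuotSh.repMap K q` is an epimorphism of sheaves iff `q` is locally surjective on
  points (`liftSieve q y ∈ QuotSh.J K S T` for every point `y : T ⟶ M`);
* `isQuotient_iff`: `QuotSh.IsQuotient K s t q` iff `s ≫ q = t ≫ q`, `q` is locally surjective on
  points and two points of `U` with the same image in `M` are locally equivalent for the equivalence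
  relation generated by the pre-relation (`eqvSieve s t a b ∈ QuotSh.J K S T`).
-/

set_option autoImplicit false
open CategoryTheory CategoryTheory.Limits AlgebraicGeometry Opposite
universe u

namespace Groth.Agent.Lib.Helper40.QuotShApi

variable (K : Precoverage Scheme.{u}) {S : Scheme.{u}}

/-- The representable presheaf of `V`, lifted one universe (`QuotSh.rep K V` is its sheafification). -/
abbrev yo (V : Over S) : (Over S)ᵒᵖ ⥤ Type (u + 1) := yoneda.obj V ⋙ uliftFunctor.{u + 1, u}

/-- The map of lifted representable presheaves induced by `g`. -/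
abbrev yoMap {V W : Over S} (g : V ⟶ W) : yo V ⟶ yo W :=
  Functor.whiskerRight (yoneda.map g) uliftFunctor.{u + 1, u}

section Quotient

variable {R U : Over S} (s t : R ⟶ U)

/-- The pre-relation on `T`-points of `U` defined by `s, t : R ⟶ U`. -/
def PRel (T : Over S) (a b : T ⟶ U) : Prop := ∃ r : T ⟶ R, r ≫ s = a ∧ r ≫ t = b

theorem PRel.comp {T T' : Over S} (g : T' ⟶ T) {a b : T ⟶ U} (h : PRel s t T a b) :
    PRel s t T' (g ≫ a) (g ≫ b) := by
  obtain ⟨r, rfl, rfl⟩ := h
  exact ⟨g ≫ r, Category.assoc _ _ _, Category.assoc _ _ _⟩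

theorem eqvGen_comp {T T' : Over S} (g : T' ⟶ T) {a b : T ⟶ U}
    (h : Relation.EqvGen (PRel s t T) a b) :
    Relation.EqvGen (PRel s t T') (g ≫ a) (g ≫ b) := by
  induction h with
  | rel x y hxy => exact Relation.EqvGen.rel _ _ (hxy.comp s t g)
  | refl x => exact Relation.EqvGen.refl _
  | symm x y _ ih => exact Relation.EqvGen.symm _ _ ih
  | trans x y z _ _ ih1 ih2 => exact Relation.EqvGen.trans _ _ _ ih1 ih2

/-- The presheaf quotient `T ↦ U(T)/∼` (lifted one universe). -/
def Q : (Over S)ᵒᵖ ⥤ Type (u + 1) where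
  obj T := ULift.{u + 1} (Quot (PRel s t T.unop))
  map {T T'} g := ↾(fun x => ⟨Quot.map (fun a => g.unop ≫ a) (fun _ _ h => h.comp s t g.unop) x.down⟩)
  map_id T := by
    ext ⟨x⟩
    induction x using Quot.inductionOn
    simp [Quot.map]
  map_comp {T T' T''} g g' := by
    ext ⟨x⟩
    induction x using Quot.inductionOn
    simp [Quot.map]

/-- The quotient map `h_U ⟶ Q`. -/
def Qπ : yo U ⟶ Q s t where
  app T := ↾(fun a => ⟨Quot.mk _ a.down⟩)
  naturality T T' g := by
    ext ⟨a⟩
    rfl

theorem Qπ_condition : yoMap s ≫ Qπ s t = yoMap t ≫ Qπ s t := by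
  ext T ⟨r⟩
  apply ULift.ext
  exact Quot.sound ⟨r, rfl, rfl⟩

/-- `Q s t` is the coequalizer of `h_s, h_t` in presheaves. -/
def QisColimit : IsColimit (Cofork.ofπ (Qπ s t) (Qπ_condition s t)) :=
  Cofork.IsColimit.mk _
    (fun c =>
      { app := fun T => ↾(fun x => Quot.lift (fun a => c.π.app T ⟨a⟩) (by
            rintro a b ⟨r, rfl, rfl⟩
            have := congrFun (congrArg (fun f => (ConcreteCategory.hom (f.app T) : _ → _)) c.condition) ⟨r⟩
            exact this) x.down)
        naturality := by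
          intro T T' g
          ext ⟨x⟩
          induction x using Quot.inductionOn with
          | h a =>
            have := congrFun (congrArg (fun f => (ConcreteCategory.hom f : _ → _)) (c.π.naturality g)) ⟨a⟩
            exact this })
    (fun c => by
      ext T ⟨a⟩
      rfl)
    (fun c m hm => by
      ext T ⟨x⟩
      induction x using Quot.inductionOn with
      | h a =>
        have := congrFun (congrArg (fun f => (ConcreteCategory.hom (f.app T) : _ → _)) hm) ⟨a⟩
        exact this)

variable {s t} in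
/-- The map `Q ⟶ h_M` induced by `q : U ⟶ M` with `s ≫ q = t ≫ q`. -/
def Qdesc {M : Over S} (q : U ⟶ M) (w : s ≫ q = t ≫ q) : Q s t ⟶ yo M where
  app T := ↾(fun x => ⟨Quot.lift (fun a => a ≫ q) (by
    rintro a b ⟨r, rfl, rfl⟩
    rw [Category.assoc, Category.assoc, w]) x.down⟩)
  naturality T T' g := by
    ext ⟨x⟩
    induction x using Quot.inductionOn with
    | h a =>
      apply ULift.ext
      exact Category.assoc _ _ _

variable {s t} in
theorem Qπ_desc {M : Over S} (q : U ⟶ M) (w : s ≫ q = t ≫ q) :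
    Qπ s t ≫ Qdesc q w = yoMap q := by
  ext T ⟨a⟩
  rfl

end Quotient

section Sheaf

variable {R U : Over S} (s t : R ⟶ U)

/-- The quotient sheaf is the sheafification of the presheaf quotient. -/
noncomputable def quotIso :
    QuotSh.quot K s t ≅ (presheafToSheaf (QuotSh.J K S) (Type (u + 1))).obj (Q s t) :=
  (colimit.isColimit _).coconePointUniqueUpToIso
    (isColimitCoforkMapOfIsColimit (presheafToSheaf (QuotSh.J K S) (Type (u + 1))) _ (QisColimit s t))

theorem quotπ_quotIso_hom :
    QuotSh.quotπ K s t ≫ (quotIso K s t).hom =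
      (presheafToSheaf (QuotSh.J K S) (Type (u + 1))).map (Qπ s t) :=
  (colimit.isColimit _).comp_coconePointUniqueUpToIso_hom
    (isColimitCoforkMapOfIsColimit (presheafToSheaf (QuotSh.J K S) (Type (u + 1))) _ (QisColimit s t))
    WalkingParallelPair.one

instance epi_quotπ : Epi (QuotSh.quotπ K s t) := by
  unfold QuotSh.quotπ
  exact coequalizer.π_epi

variable {s t} in
theorem quotπ_quotDesc {M : Over S} (q : U ⟶ M) (w : s ≫ q = t ≫ q) :
    QuotSh.quotπ K s t ≫ QuotSh.quotDesc K q w = QuotSh.repMap K q := by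
  unfold QuotSh.quotπ QuotSh.quotDesc
  exact coequalizer.π_desc _ _

variable {s t} in
theorem quotDesc_eq {M : Over S} (q : U ⟶ M) (w : s ≫ q = t ≫ q) :
    QuotSh.quotDesc K q w =
      (quotIso K s t).hom ≫ (presheafToSheaf (QuotSh.J K S) (Type (u + 1))).map (Qdesc q w) := by
  rw [← cancel_epi (QuotSh.quotπ K s t), quotπ_quotDesc, ← Category.assoc, quotπ_quotIso_hom,
    ← Functor.map_comp, Qπ_desc]

end Sheaf

section Criteria

variable {R U M : Over S}

/-- The sieve of `g : T' ⟶ T` along which the point `y : T ⟶ M` lifts through `q : U ⟶ M`. -/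
def liftSieve (q : U ⟶ M) {T : Over S} (y : T ⟶ M) : Sieve T where
  arrows T' g := ∃ x : T' ⟶ U, x ≫ q = g ≫ y
  downward_closed := by
    rintro T' T'' g ⟨x, hx⟩ h
    exact ⟨h ≫ x, by rw [Category.assoc, hx, Category.assoc]⟩

/-- The sieve of `g : T' ⟶ T` along which the points `a b : T ⟶ U` become equivalent for the
equivalence relation generated by the pre-relation `s, t`. -/
def eqvSieve (s t : R ⟶ U) {T : Over S} (a b : T ⟶ U) : Sieve T where
  arrows T' g := Relation.EqvGen (PRel s t T') (g ≫ a) (g ≫ b)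
  downward_closed := by
    rintro T' T'' g hg h
    have := eqvGen_comp s t h hg
    simpa only [Category.assoc] using this

theorem imageSieve_yoMap (q : U ⟶ M) {T : Over S} (y : T ⟶ M) :
    Presheaf.imageSieve (yoMap q) (U := T) (ULift.up y : (yo M).obj (op T)) = liftSieve q y := by
  ext T' g
  constructor
  · rintro ⟨⟨x⟩, hx⟩
    exact ⟨x, congrArg ULift.down hx⟩
  · rintro ⟨x, hx⟩
    exact ⟨⟨x⟩, ULift.ext _ _ hx⟩

theorem isLocallySurjective_yoMap_iff (q : U ⟶ M) :
    Presheaf.IsLocallySurjective (QuotSh.J K S) (yoMap q) ↔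
      ∀ (T : Over S) (y : T ⟶ M), liftSieve q y ∈ QuotSh.J K S T := by
  constructor
  · intro h T y
    rw [← imageSieve_yoMap]
    exact h.imageSieve_mem _
  · intro h
    refine ⟨fun {T} y => ?_⟩
    obtain ⟨y⟩ := y
    rw [imageSieve_yoMap]
    exact h T y

/-- `QuotSh.repMap K q` is an epimorphism of sheaves iff `q` is locally surjective on points. -/
theorem epi_repMap_iff (q : U ⟶ M) :
    Epi (QuotSh.repMap K q) ↔ ∀ (T : Over S) (y : T ⟶ M), liftSieve q y ∈ QuotSh.J K S T := by
  rw [← isLocallySurjective_yoMap_iff, ← Sheaf.isLocallySurjective_iff_epi,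
    Presheaf.isLocallySurjective_presheafToSheaf_map_iff]

theorem imageSieve_Qdesc {s t : R ⟶ U} (q : U ⟶ M) (w : s ≫ q = t ≫ q) {T : Over S} (y : T ⟶ M) :
    Presheaf.imageSieve (Qdesc q w) (U := T) (ULift.up y : (yo M).obj (op T)) = liftSieve q y := by
  ext T' g
  constructor
  · rintro ⟨⟨x⟩, hx⟩
    induction x using Quot.inductionOn with
    | h a => exact ⟨a, congrArg ULift.down hx⟩
  · rintro ⟨x, hx⟩
    exact ⟨⟨Quot.mk _ x⟩, ULift.ext _ _ hx⟩

theorem isLocallySurjective_Qdesc_iff {s t : R ⟶ U} (q : U ⟶ M) (w : s ≫ q = t ≫ q) :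
    Presheaf.IsLocallySurjective (QuotSh.J K S) (Qdesc q w) ↔
      ∀ (T : Over S) (y : T ⟶ M), liftSieve q y ∈ QuotSh.J K S T := by
  constructor
  · intro h T y
    rw [← imageSieve_Qdesc q w]
    exact h.imageSieve_mem _
  · intro h
    refine ⟨fun {T} y => ?_⟩
    obtain ⟨y⟩ := y
    rw [imageSieve_Qdesc]
    exact h T y

theorem equalizerSieve_Q (s t : R ⟶ U) {T : Over S} (a b : T ⟶ U) :
    Presheaf.equalizerSieve (D := Type (u + 1)) (FD := TypeCat.Fun) (CD := fun X => X)
      (F := Q s t) (X := op T) (ULift.up (Quot.mk (PRel s t T) a) : ULift.{u + 1} (Quot (PRel s t T)))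
      (ULift.up (Quot.mk (PRel s t T) b) : ULift.{u + 1} (Quot (PRel s t T))) =
      eqvSieve s t a b := by
  ext T' g
  constructor
  · intro h
    have h' : Quot.mk (PRel s t T') (g ≫ a) = Quot.mk (PRel s t T') (g ≫ b) := congrArg ULift.down h
    exact Quot.eqvGen_exact h'
  · intro h
    apply ULift.ext
    exact Quot.eqvGen_sound h

theorem isLocallyInjective_Qdesc_iff {s t : R ⟶ U} (q : U ⟶ M) (w : s ≫ q = t ≫ q) :
    Presheaf.IsLocallyInjective (QuotSh.J K S) (Qdesc q w) ↔
      ∀ (T : Over S) (a b : T ⟶ U), a ≫ q = b ≫ q → eqvSieve s t a b ∈ QuotSh.J K S T := by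
  constructor
  · intro h T a b hab
    rw [← equalizerSieve_Q]
    refine h.equalizerSieve_mem (X := op T)
      (ULift.up (Quot.mk (PRel s t T) a) : ULift.{u + 1} (Quot (PRel s t T)))
      (ULift.up (Quot.mk (PRel s t T) b) : ULift.{u + 1} (Quot (PRel s t T))) ?_
    apply ULift.ext
    exact hab
  · intro h
    refine ⟨fun {T} x y hxy => ?_⟩
    obtain ⟨x⟩ := x
    obtain ⟨y⟩ := y
    induction x using Quot.inductionOn with
    | h a =>
      induction y using Quot.inductionOn with
      | h b =>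
        rw [equalizerSieve_Q]
        exact h T.unop a b (congrArg ULift.down hxy)

/-- Elementary criterion for `QuotSh.IsQuotient`: `q` coequalizes `s, t`, is locally surjective on
points, and points of `U` with the same image in `M` are locally equivalent for the equivalence
relation generated by the pre-relation. -/
theorem isQuotient_iff (s t : R ⟶ U) (q : U ⟶ M) :
    QuotSh.IsQuotient K s t q ↔ s ≫ q = t ≫ q ∧
      (∀ (T : Over S) (y : T ⟶ M), liftSieve q y ∈ QuotSh.J K S T) ∧
      (∀ (T : Over S) (a b : T ⟶ U), a ≫ q = b ≫ q → eqvSieve s t a b ∈ QuotSh.J K S T) := by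
  have key : ∀ w : s ≫ q = t ≫ q, IsIso (QuotSh.quotDesc K q w) ↔
      (∀ (T : Over S) (a b : T ⟶ U), a ≫ q = b ≫ q → eqvSieve s t a b ∈ QuotSh.J K S T) ∧
      (∀ (T : Over S) (y : T ⟶ M), liftSieve q y ∈ QuotSh.J K S T) := by
    intro w
    rw [quotDesc_eq, isIso_comp_left_iff, ← GrothendieckTopology.W_iff,
      GrothendieckTopology.W_iff_isLocallyBijective,
      isLocallyInjective_Qdesc_iff, isLocallySurjective_Qdesc_iff]
  constructor
  · rintro ⟨w, h⟩
    obtain ⟨h1, h2⟩ := (key w).mp h
    exact ⟨w, h2, h1⟩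
  · rintro ⟨w, h2, h1⟩
    exact ⟨w, (key w).mpr ⟨h1, h2⟩⟩

end Criteria

end Groth.Agent.Lib.Helper40.QuotShApi
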