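import Mathlib

/-!
# fppf-local on the target from Zariski-local + fppf descent
-/

universe u
open CategoryTheory CategoryTheory.Limits AlgebraicGeometry MorphismProperty

namespace Groth.Agent.Lib.Helper40.FppfLocal

set_option backward.isDefEq.respectTransparency.types false in
/-- Members of an fppf covering family: jointly surjective, flat, locally of finite
presentation. -/
theorem exists_of_mem_fppfPrecoverage {X : Scheme.{u}} {R : Presieve X}
    (hR : R ∈ Scheme.fppfPrecoverage X) :
    (∀ x : X, ∃ (Y : Scheme.{u}) (g : Y ⟶ X), R g ∧ x ∈ Set.range g) ∧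
      ∀ ⦃Y : Scheme.{u}⦄ (g : Y ⟶ X), R g → Flat g ∧ LocallyOfFinitePresentation g := by
  obtain ⟨E, rfl⟩ := Precoverage.mem_iff_exists_zeroHypercover.mp hR
  have hE := E.mem₀
  unfold Scheme.fppfPrecoverage at hE
  rw [Scheme.ofArrows_mem_precoverage_iff] at hE
  refine ⟨fun x => ?_, ?_⟩
  · obtain ⟨i, hi⟩ := hE.1 x
    exact ⟨_, E.f i, ⟨i⟩, hi⟩
  · rintro Y g ⟨i⟩
    exact hE.2 i

set_option backward.isDefEq.respectTransparency.types false in
/-- A property which is stable under base change, Zariski-local on the target and satisfies fppf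
descent is local on the target for the fppf precoverage. -/
theorem isLocalAtTarget_fppf (P : MorphismProperty Scheme.{u}) [P.IsStableUnderBaseChange]
    [IsZariskiLocalAtTarget P]
    [P.DescendsAlong (@Surjective ⊓ @Flat ⊓ @LocallyOfFinitePresentation)] :
    P.IsLocalAtTarget Scheme.fppfPrecoverage := by
  have hri : P.RespectsIso := MorphismProperty.IsStableUnderBaseChange.respectsIso
  refine { pullbackSnd := ?_, of_forall_pullbackSnd := ?_ }
  · intro X Y f R U g hR hg hf _
    exact P.pullback_snd _ _ hf
  · intro X Y f R hR h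
    obtain ⟨hsurj, hprop⟩ := exists_of_mem_fppfPrecoverage hR
    apply IsZariskiLocalAtTarget.of_forall_exists_morphismRestrict
    intro x
    obtain ⟨U, g, hg, hx⟩ := hsurj x
    obtain ⟨hfl, hfp⟩ := hprop g hg
    let V : X.Opens := ⟨Set.range g, g.isOpenMap.isOpen_range⟩
    have hV : Set.range g ⊆ Set.range V.ι := by
      rw [Scheme.Opens.range_ι]
      exact subset_rfl
    let g' : U ⟶ V := IsOpenImmersion.lift V.ι g hV
    have hg' : g' ≫ V.ι = g := IsOpenImmersion.lift_fac _ _ _
    refine ⟨V, hx, ?_⟩
    have hQ : (@Surjective ⊓ @Flat ⊓ @LocallyOfFinitePresentation : MorphismProperty Scheme.{u}) g' := by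
      refine ⟨⟨⟨fun v => ?_⟩, ?_⟩, ?_⟩
      · obtain ⟨u, hu⟩ : v.1 ∈ Set.range g := v.2
        refine ⟨u, ?_⟩
        apply V.ι.injective
        rw [← Scheme.Hom.comp_apply, hg']
        exact hu
      · exact MorphismProperty.of_postcomp (W := @Flat) (W' := @IsOpenImmersion) g' V.ι
          inferInstance (by rw [hg']; exact hfl)
      · exact MorphismProperty.of_postcomp (W := @LocallyOfFinitePresentation)
          (W' := @IsOpenImmersion) g' V.ι inferInstance (by rw [hg']; exact hfp)
    apply MorphismProperty.of_pullback_snd_of_descendsAlong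
      (Q := @Surjective ⊓ @Flat ⊓ @LocallyOfFinitePresentation) (f := f ∣_ V) (g := g') hQ
    have hpaste : IsPullback (pullback.fst (f ∣_ V) g' ≫ (f ⁻¹ᵁ V).ι) (pullback.snd (f ∣_ V) g')
        f (g' ≫ V.ι) :=
      ((IsPullback.of_hasPullback (f ∣_ V) g').flip.paste_vert
        (isPullback_morphismRestrict f V)).flip
    rw [hg'] at hpaste
    have hP := h (g := g) hg
    have e : hpaste.isoPullback.hom ≫ pullback.snd f g = pullback.snd (f ∣_ V) g' :=
      hpaste.isoPullback_hom_snd
    rw [← e]
    exact (P.cancel_left_of_respectsIso _ _).mpr hP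

end Groth.Agent.Lib.Helper40.FppfLocal
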