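import Mathlib
import Groth.Agent.Lib.Helper40.FppfLocal

/-!
# Concrete properties that are local on the target for the fppf precoverage
-/

universe u
open CategoryTheory CategoryTheory.Limits AlgebraicGeometry MorphismProperty

namespace Groth.Agent.Lib.Helper40.FppfLocal

set_option backward.isDefEq.respectTransparency.types false in
theorem locallyOfFiniteType_isLocalAtTarget_fppf :
    MorphismProperty.IsLocalAtTarget (@LocallyOfFiniteType : MorphismProperty Scheme.{u})
      Scheme.fppfPrecoverage :=
  isLocalAtTarget_fppf _

set_option backward.isDefEq.respectTransparency.types false in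
theorem locallyOfFinitePresentation_isLocalAtTarget_fppf :
    MorphismProperty.IsLocalAtTarget (@LocallyOfFinitePresentation : MorphismProperty Scheme.{u})
      Scheme.fppfPrecoverage :=
  isLocalAtTarget_fppf _

set_option backward.isDefEq.respectTransparency.types false in
theorem smooth_isLocalAtTarget_fppf :
    MorphismProperty.IsLocalAtTarget (@Smooth : MorphismProperty Scheme.{u})
      Scheme.fppfPrecoverage :=
  isLocalAtTarget_fppf _

set_option backward.isDefEq.respectTransparency.types false in
theorem etale_isLocalAtTarget_fppf :
    MorphismProperty.IsLocalAtTarget (@Etale : MorphismProperty Scheme.{u})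
      Scheme.fppfPrecoverage :=
  isLocalAtTarget_fppf _

set_option backward.isDefEq.respectTransparency.types false in
theorem formallyUnramified_isLocalAtTarget_fppf :
    MorphismProperty.IsLocalAtTarget (@FormallyUnramified : MorphismProperty Scheme.{u})
      Scheme.fppfPrecoverage :=
  isLocalAtTarget_fppf _

set_option backward.isDefEq.respectTransparency.types false in
theorem surjective_isLocalAtTarget_fppf :
    MorphismProperty.IsLocalAtTarget (@Surjective : MorphismProperty Scheme.{u})
      Scheme.fppfPrecoverage :=
  isLocalAtTarget_fppf _

set_option backward.isDefEq.respectTransparency.types false in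
theorem universallyClosed_isLocalAtTarget_fppf :
    MorphismProperty.IsLocalAtTarget (@UniversallyClosed : MorphismProperty Scheme.{u})
      Scheme.fppfPrecoverage :=
  isLocalAtTarget_fppf _

set_option backward.isDefEq.respectTransparency.types false in
theorem universallyOpen_isLocalAtTarget_fppf :
    MorphismProperty.IsLocalAtTarget (@UniversallyOpen : MorphismProperty Scheme.{u})
      Scheme.fppfPrecoverage :=
  isLocalAtTarget_fppf _

set_option backward.isDefEq.respectTransparency.types false in
theorem universallyInjective_isLocalAtTarget_fppf :
    MorphismProperty.IsLocalAtTarget (@UniversallyInjective : MorphismProperty Scheme.{u})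
      Scheme.fppfPrecoverage :=
  isLocalAtTarget_fppf _

set_option backward.isDefEq.respectTransparency.types false in
theorem isOpenImmersion_isLocalAtTarget_fppf :
    MorphismProperty.IsLocalAtTarget (@IsOpenImmersion : MorphismProperty Scheme.{u})
      Scheme.fppfPrecoverage :=
  isLocalAtTarget_fppf _

set_option backward.isDefEq.respectTransparency.types false in
theorem isomorphisms_isLocalAtTarget_fppf :
    MorphismProperty.IsLocalAtTarget (MorphismProperty.isomorphisms Scheme.{u})
      Scheme.fppfPrecoverage :=
  isLocalAtTarget_fppf _

end Groth.Agent.Lib.Helper40.FppfLocal
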