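import Mathlib
import Groth.Prelude.Def_QuotSh
import Groth.Agent.Lib.Helper40.QuotShApi
import Groth.Agent.Lib.Helper40.FlatDescentSrc
import Groth.Agent.Lib.Helper40.FppfLocalInst

/-!
# Effective quotients and `QuotSh.IsQuotient`

* covering sieves of the big site `QuotSh.J K S` versus `K`-covering families;
* for an equivalence relation `s, t : R ⇉ U`, the pre-relation on points is an equivalence relation;
* `isQuotient_of_isKernelPair`, `isKernelPair_of_isQuotient` (subcanonical topology),
  and descent of properties of `q` from properties of `t`.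
-/

set_option autoImplicit false
open CategoryTheory CategoryTheory.Limits AlgebraicGeometry Opposite
universe u

namespace Groth.Agent.Lib.Helper40.QuotShApi

variable (K : Precoverage Scheme.{u}) {S : Scheme.{u}}

section Sieves

/-- A sieve on `T` containing a morphism `g` such that `{g.left}` is a `K`-covering is a covering of
the big site. -/
theorem mem_J_of_singleton {T V : Over S} (R : Sieve T) (g : V ⟶ T) (hg : R g)
    (hK : Presieve.singleton g.left ∈ K T.left) : R ∈ QuotSh.J K S T := by
  rw [GrothendieckTopology.mem_over_iff]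
  have hcov : Sieve.generate (Presieve.singleton g.left) ∈ K.toGrothendieck T.left :=
    Precoverage.generate_mem_toGrothendieck hK
  refine GrothendieckTopology.superset_covering _ ?_ hcov
  rw [Sieve.generate_le_iff]
  rintro _ _ ⟨⟩
  exact ⟨V, g, 𝟙 _, hg, (Category.id_comp _).symm⟩

/-- A covering sieve of `T` in the big site contains a `K`-covering family of `T.left`. -/
theorem exists_precover_of_mem_J [K.IsStableUnderComposition] [K.IsStableUnderBaseChange]
    [K.HasIsos] {T : Over S} (R' : Sieve T) (h : R' ∈ QuotSh.J K S T) :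
    ∃ R ∈ K T.left, ∀ ⦃Y : Scheme.{u}⦄ (g : Y ⟶ T.left), R g →
      R' (Over.homMk g : Over.mk (g ≫ T.hom) ⟶ T) := by
  rw [GrothendieckTopology.mem_over_iff] at h
  obtain ⟨R, hR, hle⟩ := Precoverage.mem_toGrothendieck_iff_of_isStableUnderComposition.mp h
  exact ⟨R, hR, fun Y g hg => (Sieve.overEquiv_iff _ _).mp (hle _ g hg)⟩

end Sieves

section Eqv

variable {R U : Over S} (s t : R ⟶ U)

/-- For an equivalence relation `s, t : R ⇉ U`, the pre-relation on `T`-points is an equivalence
relation. -/
theorem pRel_equivalence [IsEquivalenceRelation s t] (T : Over S) : Equivalence (PRel s t T) := by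
  obtain ⟨⟨e⟩⟩ := (inferInstance : IsEquivalenceRelation s t)
  refine ⟨fun a => ?_, ?_, ?_⟩
  · exact ⟨a ≫ e.r, by rw [Category.assoc, e.reflexivity₁, Category.comp_id],
      by rw [Category.assoc, e.reflexivity₂, Category.comp_id]⟩
  · rintro a b ⟨ρ, rfl, rfl⟩
    exact ⟨ρ ≫ e.s, by rw [Category.assoc, e.symmetry₁], by rw [Category.assoc, e.symmetry₂]⟩
  · rintro a b c ⟨ρ₁, rfl, h1⟩ ⟨ρ₂, h2, rfl⟩
    have hc : ρ₁ ≫ t = ρ₂ ≫ s := by rw [h1, h2]
    let l : T ⟶ e.c.pt := PullbackCone.IsLimit.lift e.isLimit ρ₁ ρ₂ hc
    have l1 : l ≫ e.c.fst = ρ₁ := PullbackCone.IsLimit.lift_fst e.isLimit ρ₁ ρ₂ hc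
    have l2 : l ≫ e.c.snd = ρ₂ := PullbackCone.IsLimit.lift_snd e.isLimit ρ₁ ρ₂ hc
    refine ⟨l ≫ e.t, ?_, ?_⟩
    · rw [Category.assoc, e.transitivity₁, ← Category.assoc, l1]
    · rw [Category.assoc, e.transitivity₂, ← Category.assoc, l2]

theorem eqvGen_pRel_iff [IsEquivalenceRelation s t] {T : Over S} (a b : T ⟶ U) :
    Relation.EqvGen (PRel s t T) a b ↔ PRel s t T a b :=
  (pRel_equivalence s t T).eqvGen_iff

theorem pRel_unique [IsEquivalenceRelation s t] {T : Over S} {r r' : T ⟶ R}
    (h1 : r ≫ s = r' ≫ s) (h2 : r ≫ t = r' ≫ t) : r = r' := by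
  obtain ⟨⟨e⟩⟩ := (inferInstance : IsEquivalenceRelation s t)
  exact e.right_cancellation _ _ h1 h2

theorem exists_iso_symm [IsEquivalenceRelation s t] :
    ∃ σ : R ≅ R, σ.hom ≫ s = t ∧ σ.hom ≫ t = s := by
  obtain ⟨⟨e⟩⟩ := (inferInstance : IsEquivalenceRelation s t)
  have h : e.s ≫ e.s = 𝟙 R := by
    apply e.right_cancellation
    · rw [Category.assoc, e.symmetry₁, e.symmetry₂, Category.id_comp]
    · rw [Category.assoc, e.symmetry₂, e.symmetry₁, Category.id_comp]
  exact ⟨⟨e.s, e.s, h, h⟩, e.symmetry₁, e.symmetry₂⟩

/-- A property respecting isomorphisms holds for `t.left` iff it holds for `s.left`. -/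
theorem property_left_iff [IsEquivalenceRelation s t] (P' : MorphismProperty Scheme.{u})
    [P'.RespectsIso] : P' t.left ↔ P' s.left := by
  obtain ⟨σ, h1, -⟩ := exists_iso_symm s t
  have : t.left = ((Over.forget S).mapIso σ).hom ≫ s.left := by
    rw [← h1]
    rfl
  rw [this]
  exact P'.cancel_left_of_respectsIso ((Over.forget S).mapIso σ).hom s.left

set_option backward.isDefEq.respectTransparency.types false in
theorem flat_left_iff [IsEquivalenceRelation s t] : Flat t.left ↔ Flat s.left :=
  property_left_iff s t @Flat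

set_option backward.isDefEq.respectTransparency.types false in
theorem lfp_left_iff [IsEquivalenceRelation s t] :
    LocallyOfFinitePresentation t.left ↔ LocallyOfFinitePresentation s.left :=
  property_left_iff s t @LocallyOfFinitePresentation

set_option backward.isDefEq.respectTransparency.types false in
theorem etale_left_iff [IsEquivalenceRelation s t] : Etale t.left ↔ Etale s.left :=
  property_left_iff s t @Etale

theorem surjective_left_iff [IsEquivalenceRelation s t] :
    Surjective t.left ↔ Surjective s.left :=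
  property_left_iff s t @Surjective

end Eqv

section KernelPair

variable {R U M : Over S} {s t : R ⟶ U} {q : U ⟶ M}

/-- A kernel pair with locally surjective quotient map is a quotient sheaf. -/
theorem isQuotient_of_isKernelPair (hk : IsKernelPair q s t)
    (hq : ∀ (T : Over S) (y : T ⟶ M), liftSieve q y ∈ QuotSh.J K S T) :
    QuotSh.IsQuotient K s t q := by
  rw [isQuotient_iff]
  refine ⟨hk.w, hq, fun T a b hab => ?_⟩
  have htop : eqvSieve s t a b = ⊤ := by
    ext T' g
    simp only [Sieve.top_apply, iff_true]
    exact Relation.EqvGen.rel _ _ ⟨hk.lift (g ≫ a) (g ≫ b) (by rw [Category.assoc, Category.assoc, hab]),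
      hk.lift_fst _ _ _, hk.lift_snd _ _ _⟩
  rw [htop]
  exact GrothendieckTopology.top_mem _ _

/-- Points of `U` with the same image in the quotient are related (subcanonical topology,
equivalence relation). -/
theorem exists_rel_of_isQuotient [(QuotSh.J K S).Subcanonical] [IsEquivalenceRelation s t]
    (h : QuotSh.IsQuotient K s t q) {T : Over S} (a b : T ⟶ U) (hab : a ≫ q = b ≫ q) :
    ∃ r : T ⟶ R, r ≫ s = a ∧ r ≫ t = b := by
  rw [isQuotient_iff] at h
  obtain ⟨w, -, hinj⟩ := h
  have hSv := hinj T a b hab
  have hex : ∀ ⦃T' : Over S⦄ (g : T' ⟶ T), eqvSieve s t a b g → PRel s t T' (g ≫ a) (g ≫ b) :=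
    fun T' g hg => (eqvGen_pRel_iff s t _ _).mp hg
  choose ρ hρ1 hρ2 using hex
  have hR : Presieve.IsSheaf (QuotSh.J K S) (yoneda.obj R) :=
    GrothendieckTopology.Subcanonical.isSheaf_of_isRepresentable _
  have hU : Presieve.IsSheaf (QuotSh.J K S) (yoneda.obj U) :=
    GrothendieckTopology.Subcanonical.isSheaf_of_isRepresentable _
  let x : Presieve.FamilyOfElements (yoneda.obj R) (eqvSieve s t a b).arrows :=
    fun T' g hg => ρ g hg
  have hx : x.Compatible := by
    intro Y₁ Y₂ Z g₁ g₂ f₁ f₂ h₁ h₂ hcomm
    show g₁ ≫ ρ f₁ h₁ = g₂ ≫ ρ f₂ h₂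
    apply pRel_unique s t
    · rw [Category.assoc, Category.assoc, hρ1, hρ1, ← Category.assoc, ← Category.assoc, hcomm]
    · rw [Category.assoc, Category.assoc, hρ2, hρ2, ← Category.assoc, ← Category.assoc, hcomm]
  let r : T ⟶ R := (hR _ hSv).amalgamate x hx
  have hr : ∀ ⦃T' : Over S⦄ (g : T' ⟶ T) (hg : eqvSieve s t a b g), g ≫ r = ρ g hg :=
    fun T' g hg => (hR _ hSv).valid_glue hx g hg
  refine ⟨r, ?_, ?_⟩
  · apply (hU _ hSv).isSeparatedFor.ext
    intro T' g hg
    show g ≫ r ≫ s = g ≫ a
    rw [← Category.assoc, hr g hg, hρ1]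
  · apply (hU _ hSv).isSeparatedFor.ext
    intro T' g hg
    show g ≫ r ≫ t = g ≫ b
    rw [← Category.assoc, hr g hg, hρ2]

/-- For a subcanonical topology, a quotient sheaf of an equivalence relation represented by `q`
has `R` as kernel pair. -/
theorem isKernelPair_of_isQuotient [(QuotSh.J K S).Subcanonical] [IsEquivalenceRelation s t]
    (h : QuotSh.IsQuotient K s t q) : IsKernelPair q s t := by
  have w : s ≫ q = t ≫ q := h.choose
  have key := fun (T : Over S) (a b : T ⟶ U) (hab : a ≫ q = b ≫ q) =>
    exists_rel_of_isQuotient K h a b hab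
  choose l hl1 hl2 using key
  refine ⟨⟨w⟩, ⟨PullbackCone.IsLimit.mk w (fun c => l _ c.fst c.snd c.condition)
    (fun c => hl1 _ _ _ _) (fun c => hl2 _ _ _ _) ?_⟩⟩
  intro c m hm1 hm2
  apply pRel_unique s t
  · rw [hm1, hl1]
  · rw [hm2, hl2]

end KernelPair

section Descent

variable {R U M : Over S} {s t : R ⟶ U} {q : U ⟶ M}

/-- If `q` is locally surjective on points, it has sections over a `K`-covering family of `M`. -/
theorem exists_precover_sections [K.IsStableUnderComposition] [K.IsStableUnderBaseChange]
    [K.HasIsos] (hq : ∀ (T : Over S) (y : T ⟶ M), liftSieve q y ∈ QuotSh.J K S T) :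
    ∃ Rc ∈ K M.left, ∀ ⦃Y : Scheme.{u}⦄ (g : Y ⟶ M.left), Rc g →
      ∃ x : Y ⟶ U.left, x ≫ q.left = g := by
  obtain ⟨Rc, hRc, h⟩ := exists_precover_of_mem_J K _ (hq M (𝟙 M))
  refine ⟨Rc, hRc, fun Y g hg => ?_⟩
  obtain ⟨x, hx⟩ := h g hg
  refine ⟨x.left, ?_⟩
  have := congrArg (fun k => k.left) hx
  simpa using this

/-- A property which is stable under base change and `K`-local on the target passes from `t` to
`q`, when `(s, t)` is the kernel pair of `q` and `q` is locally surjective on points. -/
theorem property_of_isKernelPair [K.IsStableUnderComposition] [K.IsStableUnderBaseChange]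
    [K.HasIsos] (P' : MorphismProperty Scheme.{u}) [P'.IsStableUnderBaseChange]
    [P'.IsLocalAtTarget K] (hk : IsKernelPair q s t)
    (hq : ∀ (T : Over S) (y : T ⟶ M), liftSieve q y ∈ QuotSh.J K S T) (ht : P' t.left) :
    P' q.left := by
  obtain ⟨Rc, hRc, hsec⟩ := exists_precover_sections K hq
  have hkS : IsPullback s.left t.left q.left q.left := hk.map (Over.forget S)
  apply MorphismProperty.IsLocalAtTarget.of_forall_pullbackSnd (K := K) hRc
  intro Y g _ hg
  obtain ⟨x, hx⟩ := hsec g hg
  have hpaste : IsPullback (pullback.fst t.left x ≫ s.left) (pullback.snd t.left x) q.left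
      (x ≫ q.left) := (IsPullback.of_hasPullback t.left x).paste_horiz hkS
  rw [hx] at hpaste
  have h1 : P' (pullback.snd t.left x) := P'.pullback_snd _ _ ht
  have e : hpaste.isoPullback.hom ≫ pullback.snd q.left g = pullback.snd t.left x :=
    hpaste.isoPullback_hom_snd
  rw [← e] at h1
  exact (P'.cancel_left_of_respectsIso _ _).mp h1

end Descent

section Instances

/-- Flatness descends along flat surjective morphisms. -/
instance flat_descendsAlong_fppf :
    MorphismProperty.DescendsAlong (@Flat : MorphismProperty Scheme.{u})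
      (@Surjective ⊓ @Flat ⊓ @LocallyOfFinitePresentation) where
  of_isPullback {A X Y Z fst snd f g} sq hf hfst := by
    have hf1 : Surjective f := hf.1.1
    have hf2 : Flat f := hf.1.2
    have h1 : Flat snd := MorphismProperty.of_isPullback sq hf2
    have h2 : Surjective snd := MorphismProperty.of_isPullback sq hf1
    have h3 : Flat fst := hfst
    have h4 : Flat (snd ≫ g) := by
      rw [← sq.w]
      infer_instance
    exact FlatDescentSrc.flat_of_comp_of_flat_surjective snd g

set_option backward.isDefEq.respectTransparency.types false in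
theorem flat_isLocalAtTarget_fppf :
    MorphismProperty.IsLocalAtTarget (@Flat : MorphismProperty Scheme.{u})
      Scheme.fppfPrecoverage :=
  FppfLocal.isLocalAtTarget_fppf _

end Instances

section Etale

set_option backward.isDefEq.respectTransparency.types false in
theorem etalePrecoverage_le_fppfPrecoverage :
    Scheme.etalePrecoverage.{u} ≤ Scheme.fppfPrecoverage.{u} := by
  unfold Scheme.etalePrecoverage Scheme.fppfPrecoverage
  exact Scheme.precoverage_mono fun X Y f (hf : Etale f) ↦ ⟨inferInstance, inferInstance⟩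

set_option backward.isDefEq.respectTransparency.types false in
instance etalePrecoverage_isStableUnderComposition :
    Precoverage.IsStableUnderComposition Scheme.etalePrecoverage.{u} := by
  unfold Scheme.etalePrecoverage; infer_instance

set_option backward.isDefEq.respectTransparency.types false in
instance etalePrecoverage_isStableUnderBaseChange :
    Precoverage.IsStableUnderBaseChange Scheme.etalePrecoverage.{u} := by
  unfold Scheme.etalePrecoverage; infer_instance

set_option backward.isDefEq.respectTransparency.types false in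
instance etalePrecoverage_hasIsos : Precoverage.HasIsos Scheme.etalePrecoverage.{u} := by
  unfold Scheme.etalePrecoverage; infer_instance

set_option backward.isDefEq.respectTransparency.types false in
instance fppfPrecoverage_hasIsos : Precoverage.HasIsos Scheme.fppfPrecoverage.{u} := by
  unfold Scheme.fppfPrecoverage
  have h0 : (@Flat ⊓ @LocallyOfFinitePresentation :
      MorphismProperty Scheme.{u}).ContainsIdentities :=
    ⟨fun X => ⟨inferInstance, inferInstance⟩⟩
  infer_instance

instance etale_subcanonical : (Scheme.etalePrecoverage.{u}).toGrothendieck.Subcanonical :=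
  GrothendieckTopology.Subcanonical.of_le (K := Scheme.fppfTopology)
    (Precoverage.toGrothendieck_mono etalePrecoverage_le_fppfPrecoverage)

set_option backward.isDefEq.respectTransparency.types false in
theorem singleton_mem_etalePrecoverage {X Y : Scheme.{u}} (f : X ⟶ Y) [Etale f] [Surjective f] :
    Presieve.singleton f ∈ Scheme.etalePrecoverage Y := by
  unfold Scheme.etalePrecoverage
  rw [Scheme.singleton_mem_precoverage_iff]
  exact ⟨f.surjective, inferInstance⟩

theorem etale_isLocalAtTarget_etale :
    MorphismProperty.IsLocalAtTarget (@Etale : MorphismProperty Scheme.{u})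
      Scheme.etalePrecoverage :=
  @MorphismProperty.IsLocalAtTarget.of_le _ _ _ _ _
    FppfLocal.etale_isLocalAtTarget_fppf.{u} etalePrecoverage_le_fppfPrecoverage

theorem surjective_isLocalAtTarget_etale :
    MorphismProperty.IsLocalAtTarget (@Surjective : MorphismProperty Scheme.{u})
      Scheme.etalePrecoverage :=
  @MorphismProperty.IsLocalAtTarget.of_le _ _ _ _ _
    FppfLocal.surjective_isLocalAtTarget_fppf.{u} etalePrecoverage_le_fppfPrecoverage

end Etale

end Groth.Agent.Lib.Helper40.QuotShApi
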