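import Mathlib
import Groth.Prelude.Def_QuotSh
import Groth.Agent.Lib.Helper40.QuotShApi
import Groth.Agent.Lib.Helper40.QuotShEff

/-!
# Descending a section of a quotient sheaf along a covering

`existsUnique_quotSection`: if `p : Z ⟶ T` is locally surjective on points (for the topology of `K`)
and `a : Z ⟶ U` sends the kernel pair of `p` into the pre-relation `s, t : R ⇉ U`, then
`h_Z ⟶ h_U ⟶ U/R` descends uniquely to a section `h_T ⟶ U/R`.
-/

set_option autoImplicit false
open CategoryTheory CategoryTheory.Limits AlgebraicGeometry Opposite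
universe u

namespace Groth.Agent.Lib.Helper40.QuotShApi

variable (K : Precoverage Scheme.{u}) {S : Scheme.{u}}

theorem repMap_comp {V W X : Over S} (f : V ⟶ W) (g : W ⟶ X) :
    QuotSh.repMap K (f ≫ g) = QuotSh.repMap K f ≫ QuotSh.repMap K g := by
  change (presheafToSheaf _ _).map _ = (presheafToSheaf _ _).map _ ≫ (presheafToSheaf _ _).map _
  rw [← Functor.map_comp, ← Functor.whiskerRight_comp, ← yoneda.map_comp]

theorem existsUnique_quotSection {R U T Z : Over S} (s t : R ⟶ U) (p : Z ⟶ T) (a : Z ⟶ U)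
    (hp : ∀ (T' : Over S) (y : T' ⟶ T), liftSieve p y ∈ QuotSh.J K S T')
    (hZZ : ∀ (T' : Over S) (z₁ z₂ : T' ⟶ Z), z₁ ≫ p = z₂ ≫ p →
      ∃ r : T' ⟶ R, r ≫ s = z₁ ≫ a ∧ r ≫ t = z₂ ≫ a) :
    ∃! σ : QuotSh.rep K T ⟶ QuotSh.quot K s t,
      QuotSh.repMap K a ≫ QuotSh.quotπ K s t = QuotSh.repMap K p ≫ σ := by
  have hk : IsKernelPair p (pullback.fst p p) (pullback.snd p p) := IsPullback.of_hasPullback p p
  obtain ⟨w, hiso⟩ := isQuotient_of_isKernelPair K hk hp
  obtain ⟨r, hr1, hr2⟩ := hZZ _ (pullback.fst p p) (pullback.snd p p) pullback.condition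
  have hcond : QuotSh.repMap K (pullback.fst p p) ≫ QuotSh.repMap K a ≫ QuotSh.quotπ K s t =
      QuotSh.repMap K (pullback.snd p p) ≫ QuotSh.repMap K a ≫ QuotSh.quotπ K s t := by
    rw [← Category.assoc, ← Category.assoc, ← repMap_comp, ← repMap_comp, ← hr1, ← hr2,
      repMap_comp, repMap_comp, Category.assoc, Category.assoc, QuotSh.quot_condition]
  have hepi : Epi (QuotSh.repMap K p) := (epi_repMap_iff K p).mpr hp
  let d : QuotSh.quot K (pullback.fst p p) (pullback.snd p p) ⟶ QuotSh.quot K s t :=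
    coequalizer.desc (QuotSh.repMap K a ≫ QuotSh.quotπ K s t) hcond
  have hd : QuotSh.quotπ K (pullback.fst p p) (pullback.snd p p) ≫ d =
      QuotSh.repMap K a ≫ QuotSh.quotπ K s t := by
    unfold QuotSh.quotπ
    exact coequalizer.π_desc _ _
  refine ⟨inv (QuotSh.quotDesc K p w) ≫ d, ?_, ?_⟩
  · change _ = _ ≫ _ ≫ _
    rw [← quotπ_quotDesc K p w, Category.assoc, IsIso.hom_inv_id_assoc, hd]
  · intro σ' hσ'
    rw [← cancel_epi (QuotSh.repMap K p), ← hσ']
    rw [← quotπ_quotDesc K p w, Category.assoc, IsIso.hom_inv_id_assoc, hd]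

end Groth.Agent.Lib.Helper40.QuotShApi

namespace Groth.Agent.Lib.Helper40.QuotShApi

variable {S : Scheme.{u}}

/-- An fppf covering `p : Z ⟶ T` over `S` is locally surjective on points for the fppf topology. -/
theorem liftSieve_mem_fppf {T Z : Over S} (p : Z ⟶ T) [Flat p.left] [Surjective p.left]
    [LocallyOfFinitePresentation p.left] (T' : Over S) (y : T' ⟶ T) :
    liftSieve p y ∈ QuotSh.J Scheme.fppfPrecoverage S T' := by
  refine mem_J_of_singleton _ _ (pullback.snd p y) ⟨pullback.fst p y, pullback.condition⟩ ?_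
  have hpb : IsPullback (pullback.fst p y).left (pullback.snd p y).left p.left y.left :=
    (IsPullback.of_hasPullback p y).map (Over.forget S)
  have h1 : Flat (pullback.snd p y).left := MorphismProperty.of_isPullback hpb inferInstance
  have h2 : Surjective (pullback.snd p y).left := MorphismProperty.of_isPullback hpb inferInstance
  have h3 : LocallyOfFinitePresentation (pullback.snd p y).left :=
    MorphismProperty.of_isPullback hpb inferInstance
  exact (pullback.snd p y).left.singleton_mem_fppfPrecoverage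

end Groth.Agent.Lib.Helper40.QuotShApi
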