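import Mathlib
import Groth.Prelude.Def_Grpd
import Groth.Prelude.Def_Mor2

/-!
# Groupoid schemes: inverse is an involution, the composition square is cartesian,
and the rank of `s` is invariant
-/

set_option autoImplicit false
universe u
open CategoryTheory CategoryTheory.Limits AlgebraicGeometry

namespace Groth.Agent.Lib.Helper40.GrpdRank

variable {S : Scheme.{u}} (G : Grpd.GroupoidScheme S)

/-- Composition on `T`-points. -/
noncomputable def m {T : Scheme.{u}} (a b : T ⟶ G.R) (h : a ≫ G.s = b ≫ G.t) : T ⟶ G.R :=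
  pullback.lift a b h ≫ G.c

lemma m_congr {T : Scheme.{u}} {a a' b b' : T ⟶ G.R} (ha : a = a') (hb : b = b')
    (h : a ≫ G.s = b ≫ G.t) (h' : a' ≫ G.s = b' ≫ G.t) : m G a b h = m G a' b' h' := by
  subst ha hb; rfl

lemma m_s {T : Scheme.{u}} (a b : T ⟶ G.R) (h : a ≫ G.s = b ≫ G.t) :
    m G a b h ≫ G.s = b ≫ G.s := G.comp_s a b h

lemma m_t {T : Scheme.{u}} (a b : T ⟶ G.R) (h : a ≫ G.s = b ≫ G.t) :
    m G a b h ≫ G.t = a ≫ G.t := G.comp_t a b h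

lemma m_assoc {T : Scheme.{u}} (a b d : T ⟶ G.R) (h₁ : a ≫ G.s = b ≫ G.t)
    (h₂ : b ≫ G.s = d ≫ G.t) (h₃ : m G a b h₁ ≫ G.s = d ≫ G.t)
    (h₄ : a ≫ G.s = m G b d h₂ ≫ G.t) :
    m G (m G a b h₁) d h₃ = m G a (m G b d h₂) h₄ := G.assoc a b d h₁ h₂

lemma m_e {T : Scheme.{u}} (a : T ⟶ G.R) (h : a ≫ G.s = (a ≫ G.s ≫ G.e) ≫ G.t) :
    m G a (a ≫ G.s ≫ G.e) h = a := G.comp_e a

lemma e_m {T : Scheme.{u}} (a : T ⟶ G.R) (h : (a ≫ G.t ≫ G.e) ≫ G.s = a ≫ G.t) :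
    m G (a ≫ G.t ≫ G.e) a h = a := G.e_comp a

lemma m_i {T : Scheme.{u}} (a : T ⟶ G.R) (h : a ≫ G.s = (a ≫ G.i) ≫ G.t) :
    m G a (a ≫ G.i) h = a ≫ G.t ≫ G.e := G.comp_i a

lemma i_m {T : Scheme.{u}} (a : T ⟶ G.R) (h : (a ≫ G.i) ≫ G.s = a ≫ G.t) :
    m G (a ≫ G.i) a h = a ≫ G.s ≫ G.e := G.i_comp a

lemma i_s' {T : Scheme.{u}} (a : T ⟶ G.R) : (a ≫ G.i) ≫ G.s = a ≫ G.t := by
  rw [Category.assoc, G.i_s]

lemma i_t' {T : Scheme.{u}} (a : T ⟶ G.R) : (a ≫ G.i) ≫ G.t = a ≫ G.s := by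
  rw [Category.assoc, G.i_t]

lemma whisk_se {T : Scheme.{u}} {x y : T ⟶ G.R} (h : x ≫ G.s = y ≫ G.s) :
    x ≫ G.s ≫ G.e = y ≫ G.s ≫ G.e := by
  calc x ≫ G.s ≫ G.e = (x ≫ G.s) ≫ G.e := (Category.assoc _ _ _).symm
    _ = (y ≫ G.s) ≫ G.e := by rw [h]
    _ = y ≫ G.s ≫ G.e := Category.assoc _ _ _

lemma whisk_st {T : Scheme.{u}} {x y : T ⟶ G.R} (h : x ≫ G.s = y ≫ G.t) :
    x ≫ G.s ≫ G.e = y ≫ G.t ≫ G.e := by
  calc x ≫ G.s ≫ G.e = (x ≫ G.s) ≫ G.e := (Category.assoc _ _ _).symm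
    _ = (y ≫ G.t) ≫ G.e := by rw [h]
    _ = y ≫ G.t ≫ G.e := Category.assoc _ _ _

lemma se_t {T : Scheme.{u}} (d : T ⟶ G.R) : d ≫ G.s = (d ≫ G.s ≫ G.e) ≫ G.t := by
  simp only [Category.assoc, G.e_t, Category.comp_id]

lemma te_s {T : Scheme.{u}} (a : T ⟶ G.R) : (a ≫ G.t ≫ G.e) ≫ G.s = a ≫ G.t := by
  simp only [Category.assoc, G.e_s, Category.comp_id]

/-- A left inverse of a left inverse of `a` is `a`. -/
lemma left_inv_unique {T : Scheme.{u}} (a b d : T ⟶ G.R)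
    (hbs : b ≫ G.s = a ≫ G.t) (hbt : b ≫ G.t = a ≫ G.s)
    (hds : d ≫ G.s = b ≫ G.t)
    (h1 : m G b a hbs = a ≫ G.s ≫ G.e) (h2 : m G d b hds = b ≫ G.s ≫ G.e) : d = a := by
  have hds' : d ≫ G.s = a ≫ G.s := hds.trans hbt
  have hA : d ≫ G.s = (d ≫ G.s ≫ G.e) ≫ G.t := se_t G d
  have hB : d ≫ G.s = (m G b a hbs) ≫ G.t := by rw [m_t, hds]
  have hC : m G d b hds ≫ G.s = a ≫ G.t := (m_s G d b hds).trans hbs
  have hD : (a ≫ G.t ≫ G.e) ≫ G.s = a ≫ G.t := te_s G a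
  calc d = m G d (d ≫ G.s ≫ G.e) hA := (m_e G d hA).symm
    _ = m G d (m G b a hbs) hB := m_congr G rfl ((whisk_se G hds').trans h1.symm) hA hB
    _ = m G (m G d b hds) a hC := (m_assoc G d b a hds hbs hC hB).symm
    _ = m G (a ≫ G.t ≫ G.e) a hD := m_congr G (h2.trans (whisk_st G hbs)) rfl hC hD
    _ = a := e_m G a hD

lemma inv_inv {T : Scheme.{u}} (a : T ⟶ G.R) : (a ≫ G.i) ≫ G.i = a :=
  left_inv_unique G a (a ≫ G.i) ((a ≫ G.i) ≫ G.i) (i_s' G a) (i_t' G a) (i_s' G (a ≫ G.i))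
    (i_m G a _) (i_m G (a ≫ G.i) _)

lemma i_comp_i : G.i ≫ G.i = 𝟙 G.R := by
  have := inv_inv G (𝟙 G.R)
  rwa [Category.id_comp] at this

instance : IsIso G.i := ⟨⟨G.i, i_comp_i G, i_comp_i G⟩⟩

/-- `φ ≫ c` is the composition of the two components of `φ`. -/
lemma comp_c {W : Scheme.{u}} (φ : W ⟶ pullback G.s G.t)
    (h : (φ ≫ pullback.fst G.s G.t) ≫ G.s = (φ ≫ pullback.snd G.s G.t) ≫ G.t) :
    φ ≫ G.c = m G (φ ≫ pullback.fst G.s G.t) (φ ≫ pullback.snd G.s G.t) h := by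
  have hφ : φ = pullback.lift (φ ≫ pullback.fst G.s G.t) (φ ≫ pullback.snd G.s G.t) h := by
    apply pullback.hom_ext
    · exact (pullback.lift_fst _ _ _).symm
    · exact (pullback.lift_snd _ _ _).symm
  exact congrArg (fun ψ => ψ ≫ G.c) hφ

lemma uniq_aux {W : Scheme.{u}} (α β γ : W ⟶ G.R) (hαβ : α ≫ G.s = β ≫ G.t)
    (hγ : γ = m G α β hαβ) (h1 : γ ≫ G.s = (β ≫ G.i) ≫ G.t) : α = m G γ (β ≫ G.i) h1 := by
  subst hγ
  have hA : α ≫ G.s = (α ≫ G.s ≫ G.e) ≫ G.t := se_t G α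
  have hB : β ≫ G.s = (β ≫ G.i) ≫ G.t := (i_t' G β).symm
  have hC : α ≫ G.s = m G β (β ≫ G.i) hB ≫ G.t := hαβ.trans (m_t G β (β ≫ G.i) hB).symm
  calc α = m G α (α ≫ G.s ≫ G.e) hA := (m_e G α hA).symm
    _ = m G α (m G β (β ≫ G.i) hB) hC :=
        m_congr G rfl ((whisk_st G hαβ).trans (m_i G β hB).symm) hA hC
    _ = m G (m G α β hαβ) (β ≫ G.i) h1 := (m_assoc G α β (β ≫ G.i) hαβ hB h1 hC).symm

lemma c_s : G.c ≫ G.s = pullback.snd G.s G.t ≫ G.s := by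
  have h := G.comp_s (pullback.fst G.s G.t) (pullback.snd G.s G.t) pullback.condition
  have hid : pullback.lift (pullback.fst G.s G.t) (pullback.snd G.s G.t) pullback.condition =
      𝟙 _ := by
    apply pullback.hom_ext
    · rw [pullback.lift_fst, Category.id_comp]
    · rw [pullback.lift_snd, Category.id_comp]
  rw [hid, Category.id_comp] at h
  exact h

/-- The square `(c, pr₂) : R ×_{s,t} R ⟶ R ×_{s,s} R` is cartesian. -/
lemma isPullback_c : IsPullback G.c (pullback.snd G.s G.t) G.s G.s := by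
  suffices hlim : IsLimit (PullbackCone.mk G.c (pullback.snd G.s G.t) (c_s G)) from
    IsPullback.of_isLimit hlim
  refine PullbackCone.IsLimit.mk (c_s G)
    (fun k => pullback.lift
      (m G k.fst (k.snd ≫ G.i) (k.condition.trans (i_t' G k.snd).symm)) k.snd
      ((m_s G _ _ _).trans (i_s' G k.snd))) ?_ ?_ ?_
  · intro k
    have h1 : k.fst ≫ G.s = (k.snd ≫ G.i) ≫ G.t := k.condition.trans (i_t' G k.snd).symm
    have h2 : m G k.fst (k.snd ≫ G.i) h1 ≫ G.s = k.snd ≫ G.t :=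
      (m_s G _ _ _).trans (i_s' G k.snd)
    have h3 : (k.snd ≫ G.i) ≫ G.s = k.snd ≫ G.t := i_s' G k.snd
    have h4 : k.fst ≫ G.s = m G (k.snd ≫ G.i) k.snd h3 ≫ G.t :=
      k.condition.trans ((m_t G _ _ h3).trans (i_t' G k.snd)).symm
    have h5 : k.fst ≫ G.s = (k.fst ≫ G.s ≫ G.e) ≫ G.t := se_t G k.fst
    show m G (m G k.fst (k.snd ≫ G.i) h1) k.snd h2 = k.fst
    calc m G (m G k.fst (k.snd ≫ G.i) h1) k.snd h2
        = m G k.fst (m G (k.snd ≫ G.i) k.snd h3) h4 := m_assoc G _ _ _ h1 h3 h2 h4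
      _ = m G k.fst (k.fst ≫ G.s ≫ G.e) h5 :=
          m_congr G rfl ((i_m G k.snd h3).trans (whisk_se G k.condition.symm)) h4 h5
      _ = k.fst := m_e G k.fst h5
  · intro k
    exact pullback.lift_snd _ _ _
  · intro k m' hm1 hm2
    have hαβ : (m' ≫ pullback.fst G.s G.t) ≫ G.s = (m' ≫ pullback.snd G.s G.t) ≫ G.t := by
      rw [Category.assoc, Category.assoc, pullback.condition]
    have hγ : k.fst = m G (m' ≫ pullback.fst G.s G.t) (m' ≫ pullback.snd G.s G.t) hαβ :=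
      hm1.symm.trans (comp_c G m' hαβ)
    have h1' : k.fst ≫ G.s = ((m' ≫ pullback.snd G.s G.t) ≫ G.i) ≫ G.t := by
      rw [hm2]; exact k.condition.trans (i_t' G k.snd).symm
    have hα := uniq_aux G (m' ≫ pullback.fst G.s G.t) (m' ≫ pullback.snd G.s G.t) k.fst
      hαβ hγ h1'
    apply pullback.hom_ext
    · refine hα.trans ((m_congr G rfl (by rw [hm2]) h1' _).trans (pullback.lift_fst _ _ _).symm)
    · exact hm2.trans (pullback.lift_snd _ _ _).symm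

variable [IsFinite G.s] [Flat G.s]

/-- The rank of `s` is the same at the source and at the target of an arrow. -/
lemma finrank_s_eq (ρ : G.R) :
    Scheme.Hom.finrank G.s (G.s ρ) = Scheme.Hom.finrank G.s (G.t ρ) := by
  have h1 : Scheme.Hom.finrank (pullback.snd G.s G.t) ρ = Scheme.Hom.finrank G.s (G.s ρ) :=
    Scheme.Hom.finrank_of_isPullback G.c (pullback.snd G.s G.t) G.s G.s (isPullback_c G) ρ
  have h2 : Scheme.Hom.finrank (pullback.snd G.s G.t) ρ = Scheme.Hom.finrank G.s (G.t ρ) :=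
    Scheme.Hom.finrank_pullback_snd G.s G.t ρ
  exact h1.symm.trans h2

lemma finrank_t_eq : Scheme.Hom.finrank G.t = Scheme.Hom.finrank G.s := by
  have h : Scheme.Hom.finrank (G.i ≫ G.s) = Scheme.Hom.finrank G.s :=
    Scheme.Hom.finrank_comp_left_of_isIso G.i G.s
  rw [G.i_s] at h
  exact h

instance : Surjective G.s := ⟨fun x => ⟨G.e x, by
  rw [← Scheme.Hom.comp_apply, G.e_s]; rfl⟩⟩

lemma one_le_finrank_s (x : G.U) : 1 ≤ Scheme.Hom.finrank G.s x :=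
  (Scheme.Hom.one_le_finrank_iff_surjective (f := G.s)).mpr inferInstance x

variable [LocallyOfFinitePresentation G.s]

/-- The open stratum where `s` has rank `r`. -/
noncomputable def V (r : ℕ) : G.U.Opens :=
  ⟨{x | Scheme.Hom.finrank G.s x = r}, (Scheme.Hom.isLocallyConstant_finrank G.s).isOpen_fiber r⟩

lemma mem_V {r : ℕ} {x : G.U} : x ∈ V G r ↔ Scheme.Hom.finrank G.s x = r := Iff.rfl

lemma ι_mem_V (r : ℕ) (y : (V G r).toScheme) : Scheme.Hom.finrank G.s ((V G r).ι y) = r := by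
  have : (V G r).ι y ∈ (V G r : Set G.U) := by
    rw [← Scheme.Opens.range_ι]; exact ⟨y, rfl⟩
  exact this

lemma finrank_restrict {X Y : Scheme.{u}} (f : X ⟶ Y) [Flat f] [IsFinite f] (U : Y.Opens)
    (y : U.toScheme) : Scheme.Hom.finrank (f ∣_ U) y = Scheme.Hom.finrank f (U.ι y) :=
  Scheme.Hom.finrank_of_isPullback (f ⁻¹ᵁ U).ι (f ∣_ U) f U.ι
    (isPullback_morphismRestrict f U).flip y

theorem main [IsFinite G.t] [Flat G.t] [LocallyOfFinitePresentation G.t] :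
    ∃ V : ℕ → G.U.Opens, V 0 = ⊥ ∧ (∀ r r', r ≠ r' → Disjoint (V r) (V r')) ∧
      (⨆ r, V r) = ⊤ ∧ ∀ r, G.s ⁻¹ᵁ V r = G.t ⁻¹ᵁ V r ∧
        Mor2.IsFinLocFreeOfDeg r (G.s ∣_ V r) ∧ Mor2.IsFinLocFreeOfDeg r (G.t ∣_ V r) := by
  refine ⟨V G, ?_, ?_, ?_, ?_⟩
  · refine le_antisymm (fun x hx => ?_) bot_le
    have h1 := one_le_finrank_s G x
    have h0 : Scheme.Hom.finrank G.s x = 0 := hx
    omega
  · intro r r' hne W h1 h2 x hx
    exact (hne (((mem_V G).mp (h1 hx)).symm.trans ((mem_V G).mp (h2 hx)))).elim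
  · refine eq_top_iff.mpr (fun x _ => ?_)
    exact TopologicalSpace.Opens.mem_iSup.mpr ⟨Scheme.Hom.finrank G.s x, rfl⟩
  · intro r
    refine ⟨?_, ?_, ?_⟩
    · refine TopologicalSpace.Opens.ext (Set.ext fun ρ => ?_)
      show Scheme.Hom.finrank G.s (G.s ρ) = r ↔ Scheme.Hom.finrank G.s (G.t ρ) = r
      rw [finrank_s_eq G ρ]
    · refine ⟨⟨IsZariskiLocalAtTarget.restrict (P := @IsFinite) inferInstance _,
        IsZariskiLocalAtTarget.restrict (P := @Flat) inferInstance _,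
        IsZariskiLocalAtTarget.restrict (P := @LocallyOfFinitePresentation) inferInstance _⟩,
        fun y => ?_⟩
      rw [finrank_restrict G.s (V G r) y]
      exact ι_mem_V G r y
    · refine ⟨⟨IsZariskiLocalAtTarget.restrict (P := @IsFinite) inferInstance _,
        IsZariskiLocalAtTarget.restrict (P := @Flat) inferInstance _,
        IsZariskiLocalAtTarget.restrict (P := @LocallyOfFinitePresentation) inferInstance _⟩,
        fun y => ?_⟩
      rw [finrank_restrict G.t (V G r) y, finrank_t_eq G]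
      exact ι_mem_V G r y

end Groth.Agent.Lib.Helper40.GrpdRank
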