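import Mathlib
import Groth.Agent.Lib.Helper40.GrpdRank

/-!
# Groupoid schemes: right translation between fibres of `s`
-/

set_option autoImplicit false
universe u
open CategoryTheory CategoryTheory.Limits AlgebraicGeometry

namespace Groth.Agent.Lib.Helper40.GrpdRank

variable {S : Scheme.{u}} (G : Grpd.GroupoidScheme S)

/-- Composition on points is natural in the test scheme. -/
lemma comp_m {T T' : Scheme.{u}} (τ : T' ⟶ T) (a b : T ⟶ G.R) (h : a ≫ G.s = b ≫ G.t)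
    (h' : (τ ≫ a) ≫ G.s = (τ ≫ b) ≫ G.t) :
    τ ≫ m G a b h = m G (τ ≫ a) (τ ≫ b) h' := by
  have hl : τ ≫ pullback.lift a b h = pullback.lift (τ ≫ a) (τ ≫ b) h' := by
    apply pullback.hom_ext
    · rw [Category.assoc, pullback.lift_fst, pullback.lift_fst]
    · rw [Category.assoc, pullback.lift_snd, pullback.lift_snd]
  calc τ ≫ m G a b h = (τ ≫ pullback.lift a b h) ≫ G.c := (Category.assoc _ _ _).symm
    _ = pullback.lift (τ ≫ a) (τ ≫ b) h' ≫ G.c := by rw [hl]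

section trans

variable {K : Scheme.{u}}

lemma tr_h1 (x : K ⟶ G.U) (g : K ⟶ G.R) (hgt : g ≫ G.t = x) :
    pullback.fst G.s x ≫ G.s = (pullback.snd G.s x ≫ g) ≫ G.t := by
  rw [Category.assoc, hgt]; exact pullback.condition

/-- Right translation by `g : y → x` from the fibre of `s` over `x` to the fibre over `y`. -/
noncomputable def tr (x y : K ⟶ G.U) (g : K ⟶ G.R) (hgt : g ≫ G.t = x) (hgs : g ≫ G.s = y) :
    pullback G.s x ⟶ pullback G.s y :=
  pullback.lift (m G (pullback.fst G.s x) (pullback.snd G.s x ≫ g) (tr_h1 G x g hgt))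
    (pullback.snd G.s x)
    (by rw [m_s, Category.assoc, hgs])

lemma tr_fst (x y : K ⟶ G.U) (g : K ⟶ G.R) (hgt : g ≫ G.t = x) (hgs : g ≫ G.s = y) :
    tr G x y g hgt hgs ≫ pullback.fst G.s y =
    m G (pullback.fst G.s x) (pullback.snd G.s x ≫ g) (tr_h1 G x g hgt) :=
  pullback.lift_fst _ _ _

lemma tr_snd (x y : K ⟶ G.U) (g : K ⟶ G.R) (hgt : g ≫ G.t = x) (hgs : g ≫ G.s = y) :
    tr G x y g hgt hgs ≫ pullback.snd G.s y = pullback.snd G.s x :=
  pullback.lift_snd _ _ _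

/-- Translating by `g` then by `g'` is the identity when `g ∘ g' = e (t g)`. -/
lemma tr_comp (x y : K ⟶ G.U) (g : K ⟶ G.R) (hgt : g ≫ G.t = x) (hgs : g ≫ G.s = y)
    (g' : K ⟶ G.R) (hgt' : g' ≫ G.t = y) (hgs' : g' ≫ G.s = x)
    (hgg : g ≫ G.s = g' ≫ G.t) (H : m G g g' hgg = g ≫ G.t ≫ G.e) :
    tr G x y g hgt hgs ≫ tr G y x g' hgt' hgs' = 𝟙 _ := by
  apply pullback.hom_ext
  · have hA : (tr G x y g hgt hgs ≫ pullback.fst G.s y) ≫ G.s =
        (tr G x y g hgt hgs ≫ pullback.snd G.s y ≫ g') ≫ G.t := by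
      rw [Category.assoc, Category.assoc, Category.assoc, hgt']
      rw [pullback.condition]
    have hB : m G (pullback.fst G.s x) (pullback.snd G.s x ≫ g) (tr_h1 G x g hgt) ≫ G.s =
        (pullback.snd G.s x ≫ g') ≫ G.t := by
      rw [m_s, Category.assoc, Category.assoc, hgs, hgt']
    have hC : (pullback.snd G.s x ≫ g) ≫ G.s = (pullback.snd G.s x ≫ g') ≫ G.t := by
      rw [Category.assoc, Category.assoc, hgg]
    have hD : pullback.fst G.s x ≫ G.s =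
        m G (pullback.snd G.s x ≫ g) (pullback.snd G.s x ≫ g') hC ≫ G.t := by
      rw [m_t]; exact tr_h1 G x g hgt
    have hE : pullback.fst G.s x ≫ G.s =
        (pullback.fst G.s x ≫ G.s ≫ G.e) ≫ G.t := se_t G _
    have hF : pullback.snd G.s x ≫ g ≫ G.t ≫ G.e = pullback.fst G.s x ≫ G.s ≫ G.e := by
      calc pullback.snd G.s x ≫ g ≫ G.t ≫ G.e
          = (pullback.snd G.s x ≫ g ≫ G.t) ≫ G.e := by simp only [Category.assoc]
        _ = (pullback.snd G.s x ≫ x) ≫ G.e := by rw [hgt]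
        _ = (pullback.fst G.s x ≫ G.s) ≫ G.e := by rw [pullback.condition]
        _ = pullback.fst G.s x ≫ G.s ≫ G.e := Category.assoc _ _ _
    calc (tr G x y g hgt hgs ≫ tr G y x g' hgt' hgs') ≫ pullback.fst G.s x
        = tr G x y g hgt hgs ≫ (tr G y x g' hgt' hgs' ≫ pullback.fst G.s x) :=
          Category.assoc _ _ _
      _ = tr G x y g hgt hgs ≫
            m G (pullback.fst G.s y) (pullback.snd G.s y ≫ g') (tr_h1 G y g' hgt') := by
          rw [tr_fst]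
      _ = m G (tr G x y g hgt hgs ≫ pullback.fst G.s y)
            (tr G x y g hgt hgs ≫ pullback.snd G.s y ≫ g') hA := comp_m G _ _ _ _ hA
      _ = m G (m G (pullback.fst G.s x) (pullback.snd G.s x ≫ g) (tr_h1 G x g hgt))
            (pullback.snd G.s x ≫ g') hB :=
          m_congr G (tr_fst G x y g hgt hgs)
            (by rw [← Category.assoc, tr_snd]) hA hB
      _ = m G (pullback.fst G.s x)
            (m G (pullback.snd G.s x ≫ g) (pullback.snd G.s x ≫ g') hC) hD :=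
          m_assoc G _ _ _ (tr_h1 G x g hgt) hC hB hD
      _ = m G (pullback.fst G.s x) (pullback.fst G.s x ≫ G.s ≫ G.e) hE := by
          refine m_congr G rfl ?_ hD hE
          rw [← comp_m G (pullback.snd G.s x) g g' hgg hC, H]
          exact hF
      _ = pullback.fst G.s x := m_e G _ hE
      _ = 𝟙 _ ≫ pullback.fst G.s x := (Category.id_comp _).symm
  · calc (tr G x y g hgt hgs ≫ tr G y x g' hgt' hgs') ≫ pullback.snd G.s x
        = tr G x y g hgt hgs ≫ (tr G y x g' hgt' hgs' ≫ pullback.snd G.s x) :=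
          Category.assoc _ _ _
      _ = tr G x y g hgt hgs ≫ pullback.snd G.s y := by rw [tr_snd]
      _ = pullback.snd G.s x := tr_snd G x y g hgt hgs
      _ = 𝟙 _ ≫ pullback.snd G.s x := (Category.id_comp _).symm

/-- Right translation is an isomorphism. -/
noncomputable def trIso (x y : K ⟶ G.U) (g : K ⟶ G.R) (hgt : g ≫ G.t = x) (hgs : g ≫ G.s = y) :
    pullback G.s x ≅ pullback G.s y where
  hom := tr G x y g hgt hgs
  inv := tr G y x (g ≫ G.i) ((i_t' G g).trans hgs) ((i_s' G g).trans hgt)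
  hom_inv_id := tr_comp G x y g hgt hgs (g ≫ G.i) _ _ (i_t' G g).symm (m_i G g _)
  inv_hom_id := by
    refine tr_comp G y x (g ≫ G.i) _ _ g hgt hgs (i_s' G g) ?_
    rw [i_m G g (i_s' G g)]
    exact (whisk_st G (i_t' G g).symm).symm ▸ rfl

end trans

theorem main_trans (r r' : G.R) (h : G.t r = G.t r') :
    ∃ (k : Type u) (_ : Field k) (a b : Spec (CommRingCat.of k) ⟶ G.U)
      (φ : pullback G.s a ≅ pullback G.s b) (p : ↑(pullback G.s a)),
      a (IsLocalRing.closedPoint k) = G.s r ∧ b (IsLocalRing.closedPoint k) = G.s r' ∧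
      φ.hom ≫ pullback.snd G.s b = pullback.snd G.s a ∧ pullback.fst G.s a p = r ∧
      pullback.fst G.s b (φ.hom p) = r' := by
  obtain ⟨z, hz1, hz2⟩ := Scheme.Pullback.exists_preimage_pullback (f := G.t) (g := G.t) r r' h
  let k : Type u := (pullback G.t G.t).residueField z
  let κ : Spec (CommRingCat.of k) ⟶ pullback G.t G.t := (pullback G.t G.t).fromSpecResidueField z
  have hκ : ∀ c : Spec (CommRingCat.of k), κ c = z :=
    fun c => Scheme.fromSpecResidueField_apply z c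
  let ρ : Spec (CommRingCat.of k) ⟶ G.R := κ ≫ pullback.fst G.t G.t
  let ρ' : Spec (CommRingCat.of k) ⟶ G.R := κ ≫ pullback.snd G.t G.t
  have hρ : ρ ≫ G.t = ρ' ≫ G.t := by
    simp only [ρ, ρ', Category.assoc, pullback.condition]
  have hρc : ∀ c : Spec (CommRingCat.of k), ρ c = r := fun c => by
    show (κ ≫ pullback.fst G.t G.t) c = r
    rw [Scheme.Hom.comp_apply, hκ c, hz1]
  have hρ'c : ∀ c : Spec (CommRingCat.of k), ρ' c = r' := fun c => by
    show (κ ≫ pullback.snd G.t G.t) c = r'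
    rw [Scheme.Hom.comp_apply, hκ c, hz2]
  have hg : (ρ ≫ G.i) ≫ G.s = ρ' ≫ G.t := (i_s' G ρ).trans hρ
  let g : Spec (CommRingCat.of k) ⟶ G.R := m G (ρ ≫ G.i) ρ' hg
  have hgt : g ≫ G.t = ρ ≫ G.s := (m_t G _ _ hg).trans (i_t' G ρ)
  have hgs : g ≫ G.s = ρ' ≫ G.s := m_s G _ _ hg
  -- ρ ∘ g = ρ'
  have hρg : ρ ≫ G.s = g ≫ G.t := hgt.symm
  have hmρg : m G ρ g hρg = ρ' := by
    have h1 : ρ ≫ G.s = (ρ ≫ G.i) ≫ G.t := (i_t' G ρ).symm
    have h2 : m G ρ (ρ ≫ G.i) h1 ≫ G.s = ρ' ≫ G.t := (m_s G _ _ h1).trans hg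
    have h3 : (ρ' ≫ G.t ≫ G.e) ≫ G.s = ρ' ≫ G.t := te_s G ρ'
    calc m G ρ g hρg = m G (m G ρ (ρ ≫ G.i) h1) ρ' h2 :=
          (m_assoc G ρ (ρ ≫ G.i) ρ' h1 hg h2 hρg).symm
      _ = m G (ρ' ≫ G.t ≫ G.e) ρ' h3 := by
          refine m_congr G ?_ rfl h2 h3
          rw [m_i G ρ h1]
          calc ρ ≫ G.t ≫ G.e = (ρ ≫ G.t) ≫ G.e := (Category.assoc _ _ _).symm
            _ = (ρ' ≫ G.t) ≫ G.e := by rw [hρ]
            _ = ρ' ≫ G.t ≫ G.e := Category.assoc _ _ _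
      _ = ρ' := e_m G ρ' h3
  let σ : Spec (CommRingCat.of k) ⟶ pullback G.s (ρ ≫ G.s) :=
    pullback.lift ρ (𝟙 _) (by rw [Category.id_comp])
  refine ⟨k, inferInstance, ρ ≫ G.s, ρ' ≫ G.s, trIso G (ρ ≫ G.s) (ρ' ≫ G.s) g hgt hgs,
    σ (IsLocalRing.closedPoint k), ?_, ?_, ?_, ?_, ?_⟩
  · rw [Scheme.Hom.comp_apply, hρc]
  · rw [Scheme.Hom.comp_apply, hρ'c]
  · exact tr_snd G _ _ g hgt hgs
  · rw [← Scheme.Hom.comp_apply]
    have : σ ≫ pullback.fst G.s (ρ ≫ G.s) = ρ := pullback.lift_fst _ _ _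
    rw [this, hρc]
  · show pullback.fst G.s (ρ' ≫ G.s) ((tr G (ρ ≫ G.s) (ρ' ≫ G.s) g hgt hgs) (σ _)) = r'
    rw [← Scheme.Hom.comp_apply, ← Scheme.Hom.comp_apply]
    have hσ1 : σ ≫ pullback.fst G.s (ρ ≫ G.s) = ρ := pullback.lift_fst _ _ _
    have hσ2 : σ ≫ pullback.snd G.s (ρ ≫ G.s) = 𝟙 _ := pullback.lift_snd _ _ _
    have hA : (σ ≫ pullback.fst G.s (ρ ≫ G.s)) ≫ G.s =
        (σ ≫ pullback.snd G.s (ρ ≫ G.s) ≫ g) ≫ G.t := by
      rw [hσ1, ← Category.assoc, hσ2, Category.id_comp]; exact hρg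
    have : (σ ≫ tr G (ρ ≫ G.s) (ρ' ≫ G.s) g hgt hgs) ≫ pullback.fst G.s (ρ' ≫ G.s) = ρ' := by
      calc (σ ≫ tr G (ρ ≫ G.s) (ρ' ≫ G.s) g hgt hgs) ≫ pullback.fst G.s (ρ' ≫ G.s)
          = σ ≫ (tr G (ρ ≫ G.s) (ρ' ≫ G.s) g hgt hgs ≫ pullback.fst G.s (ρ' ≫ G.s)) :=
            Category.assoc _ _ _
        _ = σ ≫ m G (pullback.fst G.s (ρ ≫ G.s)) (pullback.snd G.s (ρ ≫ G.s) ≫ g)
              (tr_h1 G (ρ ≫ G.s) g hgt) := by rw [tr_fst]
        _ = m G (σ ≫ pullback.fst G.s (ρ ≫ G.s)) (σ ≫ pullback.snd G.s (ρ ≫ G.s) ≫ g) hA :=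
            comp_m G σ _ _ _ hA
        _ = m G ρ g hρg := m_congr G hσ1 (by rw [← Category.assoc, hσ2, Category.id_comp]) hA hρg
        _ = ρ' := hmρg
    have this' : σ ≫ tr G (ρ ≫ G.s) (ρ' ≫ G.s) g hgt hgs ≫ pullback.fst G.s (ρ' ≫ G.s) = ρ' :=
      (Category.assoc _ _ _).symm.trans this
    rw [this', hρ'c]

end Groth.Agent.Lib.Helper40.GrpdRank
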