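import Mathlib
import Groth.Prelude.Def_AlgSp

/-!
# Basic lemmas on fppf sheaves over `S` and representable morphisms (`AlgSp`)
-/

universe u
open CategoryTheory CategoryTheory.Limits AlgebraicGeometry Opposite

namespace Groth.Agent.Lib.Helper40.AlgSpBasic

open AlgSp

variable {S : Scheme.{u}}

/-- Two maps of sheaves agree if they agree on all points `h_T ⟶ G`. -/
theorem hom_ext_yon {G F : Sp S} (a b : G ⟶ F)
    (h : ∀ (T : Over S) (x : (yon S).obj T ⟶ G), x ≫ a = x ≫ b) : a = b := by
  apply Sheaf.hom_ext
  ext ⟨T⟩ s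
  have h1 := h T ((J S).uliftYonedaEquiv.symm s)
  have h2 := congrArg (J S).uliftYonedaEquiv h1
  rw [GrothendieckTopology.uliftYonedaEquiv_comp, GrothendieckTopology.uliftYonedaEquiv_comp,
    Equiv.apply_symm_apply] at h2
  exact h2

/-- A morphism of sheaves which is representable by monomorphisms of schemes is a monomorphism. -/
theorem mono_of_repWith {P : MorphismProperty Scheme.{u}}
    (hP : P ≤ MorphismProperty.monomorphisms Scheme.{u}) {F₂ F : Sp S} (f : F₂ ⟶ F)
    (hf : RepWith P f) : Mono f := by
  refine ⟨fun {G} a b hab => ?_⟩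
  apply hom_ext_yon
  intro T x
  have hr : Representable f := hf.rep
  set a' := x ≫ a with ha'
  set b' := x ≫ b with hb'
  set c := a' ≫ f with hc
  have hbc : b' ≫ f = c := by
    rw [hc, ha', hb', Category.assoc, Category.assoc, hab]
  have hmono : Mono (hr.snd c) := by
    have : Mono (hr.snd c).left := hP _ (hf.property_snd c)
    exact Over.mono_of_mono_left _
  let α := hr.lift (g := c) a' (𝟙 T) (by rw [CategoryTheory.Functor.map_id, Category.id_comp])
  let β := hr.lift (g := c) b' (𝟙 T) (by rw [CategoryTheory.Functor.map_id, Category.id_comp, hbc])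
  have hαβ : α = β := by
    rw [← cancel_mono (hr.snd c)]
    rw [hr.lift_snd, hr.lift_snd]
  have e1 : (yon S).map α ≫ hr.fst c = a' := hr.lift_fst _ _ _
  have e2 : (yon S).map β ≫ hr.fst c = b' := hr.lift_fst _ _ _
  rw [← e1, ← e2, hαβ]

end Groth.Agent.Lib.Helper40.AlgSpBasic

namespace Groth.Agent.Lib.Helper40.AlgSpBasic

open AlgSp

variable {S : Scheme.{u}}

/-- The sieve generated by a single flat, lfp, surjective morphism over `S` is an fppf covering. -/
theorem generate_singleton_mem_J {U V : Over S} (g : V ⟶ U) (h1 : Flat g.left)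
    (h2 : LocallyOfFinitePresentation g.left) (h3 : Surjective g.left) :
    Sieve.generate (Presieve.singleton g) ∈ (J S) U := by
  rw [J_eq, GrothendieckTopology.mem_over_iff, Sieve.overEquiv_generate]
  have hcov : Sieve.generate (Presieve.singleton g.left) ∈ Scheme.fppfTopology U.left :=
    Precoverage.generate_mem_toGrothendieck g.left.singleton_mem_fppfPrecoverage
  refine GrothendieckTopology.superset_covering Scheme.fppfTopology ?_ hcov
  rw [Sieve.generate_le_iff]
  rintro _ _ ⟨⟩
  exact ⟨V.left, 𝟙 _, g.left, ⟨V, g, 𝟙 _, Presieve.singleton.mk, (Category.id_comp _).symm⟩,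
    Category.id_comp _⟩

/-- A sieve containing a flat, lfp, surjective morphism is an fppf covering. -/
theorem mem_J_of_mem {U V : Over S} (R : Sieve U) (g : V ⟶ U) (hg : R g) (h1 : Flat g.left)
    (h2 : LocallyOfFinitePresentation g.left) (h3 : Surjective g.left) : R ∈ (J S) U := by
  refine GrothendieckTopology.superset_covering (J S) ?_ (generate_singleton_mem_J g h1 h2 h3)
  rw [Sieve.generate_le_iff]
  rintro _ _ ⟨⟩
  exact hg

end Groth.Agent.Lib.Helper40.AlgSpBasic
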