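import Mathlib
import Groth.Prelude.Def_AlgSp
import Groth.Agent.Lib.Helper40.AlgSpBasic

/-!
# fppf-locality on the base for representable morphisms of sheaves (`AlgSp`)
-/

universe u
open CategoryTheory CategoryTheory.Limits AlgebraicGeometry Opposite

namespace Groth.Agent.Lib.Helper40.AlgSpBasic

open AlgSp

variable {S : Scheme.{u}}

set_option backward.isDefEq.respectTransparency.types false in
theorem fppf_hasIsos : Precoverage.HasIsos Scheme.fppfPrecoverage.{u} := by
  unfold Scheme.fppfPrecoverage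
  have h0 : (@Flat ⊓ @LocallyOfFinitePresentation :
      MorphismProperty Scheme.{u}).ContainsIdentities :=
    ⟨fun X => ⟨inferInstance, inferInstance⟩⟩
  infer_instance

/-- A covering sieve for the fppf topology contains an fppf covering family. -/
theorem exists_precover_of_mem_fppfTopology {X : Scheme.{u}} {R : Sieve X}
    (h : R ∈ Scheme.fppfTopology X) : ∃ R₀ ∈ Scheme.fppfPrecoverage X, R₀ ≤ R := by
  have := fppf_hasIsos.{u}
  exact Precoverage.mem_toGrothendieck_iff_of_isStableUnderComposition.mp h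

/-- A covering sieve of `U` in the big fppf site of `S` contains an fppf covering family of
`U.left`. -/
theorem exists_precover_of_mem_J {U : Over S} (R' : Sieve U) (h : R' ∈ (J S) U) :
    ∃ R ∈ Scheme.fppfPrecoverage U.left, ∀ ⦃Y : Scheme.{u}⦄ (g : Y ⟶ U.left), R g →
      R' (Over.homMk g : Over.mk (g ≫ U.hom) ⟶ U) := by
  rw [J_eq, GrothendieckTopology.mem_over_iff] at h
  obtain ⟨R, hR, hle⟩ := exists_precover_of_mem_fppfTopology h
  refine ⟨R, hR, fun Y g hg => ?_⟩
  exact (Sieve.overEquiv_iff _ _).mp (hle _ g hg)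

/-- Two pullbacks of `a` along the same map: compare the second projections. If `a` pulled back
along `h_{gU} ≫ g₀` is `V' ⟶ U'` and `a` pulled back along `g₀` is `V ⟶ U`, then `V' ⟶ U'` is the
base change of `V ⟶ U` along `gU`. -/
theorem exists_isPullback_of_isPullback {F G : Sp S} {a : F ⟶ G} {U V U' V' : Over S}
    {g₀ : (yon S).obj U ⟶ G} {fst : (yon S).obj V ⟶ F} {snd : V ⟶ U}
    (sq : IsPullback fst ((yon S).map snd) a g₀) (gU : U' ⟶ U)
    {fst' : (yon S).obj V' ⟶ F} {snd' : V' ⟶ U'}
    (sq' : IsPullback fst' ((yon S).map snd') a ((yon S).map gU ≫ g₀)) :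
    ∃ φ : V' ⟶ V, IsPullback φ snd' snd gU ∧ (yon S).map φ ≫ fst = fst' := by
  have hc : fst' ≫ a = ((yon S).map snd' ≫ (yon S).map gU) ≫ g₀ := by
    rw [sq'.w, Category.assoc]
  let φ : V' ⟶ V := (yon S).preimage (sq.lift fst' ((yon S).map snd' ≫ (yon S).map gU) hc)
  have h1 : (yon S).map φ ≫ fst = fst' := by
    rw [Functor.map_preimage, sq.lift_fst]
  have h2 : (yon S).map φ ≫ (yon S).map snd = (yon S).map snd' ≫ (yon S).map gU := by
    rw [Functor.map_preimage, sq.lift_snd]
  have h3 : φ ≫ snd = snd' ≫ gU := by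
    apply (yon S).map_injective
    rw [Functor.map_comp, Functor.map_comp, h2]
  have big : IsPullback ((yon S).map φ ≫ fst) ((yon S).map snd') a ((yon S).map gU ≫ g₀) := by
    rw [h1]
    exact sq'
  have hmid : IsPullback ((yon S).map φ) ((yon S).map snd') ((yon S).map snd) ((yon S).map gU) :=
    IsPullback.of_right big h2 sq
  exact ⟨φ, IsPullback.of_map (yon S) h3 hmid, h1⟩

/-- fppf-locality on the base: if for every `g₀ : h_U ⟶ G` there is a covering sieve of `U` such
that over each member some pullback of `a` has `P`, then `a` has `P`. -/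
theorem repWith_of_locally {F G : Sp S} (a : F ⟶ G) (ha : Representable a)
    (P : MorphismProperty Scheme.{u}) [P.IsStableUnderBaseChange]
    [P.IsLocalAtTarget Scheme.fppfPrecoverage]
    (H : ∀ ⦃U : Over S⦄ (g₀ : (yon S).obj U ⟶ G), ∃ R' ∈ (J S) U,
      ∀ ⦃U' : Over S⦄ (gU : U' ⟶ U), R' gU →
        ∃ (V' : Over S) (fst' : (yon S).obj V' ⟶ F) (snd' : V' ⟶ U'),
          IsPullback fst' ((yon S).map snd') a ((yon S).map gU ≫ g₀) ∧ P snd'.left) :
    RepWith P a := by
  refine ⟨ha, ?_⟩
  intro U V g₀ fst snd sq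
  obtain ⟨R', hR', hloc⟩ := H g₀
  obtain ⟨R, hR, hRR'⟩ := exists_precover_of_mem_J R' hR'
  have hri : P.RespectsIso := MorphismProperty.IsStableUnderBaseChange.respectsIso
  have key : ∀ (U' : Over S) (gU : U' ⟶ U), R' gU → P (pullback.snd snd.left gU.left) := by
    intro U' gU hgU
    obtain ⟨V', fst', snd', sq', hP'⟩ := hloc gU hgU
    obtain ⟨φ, hpb, -⟩ := exists_isPullback_of_isPullback sq gU sq'
    have hpb' : IsPullback φ.left snd'.left snd.left gU.left := hpb.map (Over.forget S)
    have e : hpb'.isoPullback.hom ≫ pullback.snd snd.left gU.left = snd'.left :=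
      hpb'.isoPullback_hom_snd
    rw [← e] at hP'
    exact (P.cancel_left_of_respectsIso _ _).mp hP'
  show P snd.left
  refine MorphismProperty.IsLocalAtTarget.of_forall_pullbackSnd (K := Scheme.fppfPrecoverage) hR ?_
  intro U₁ g _ hg
  exact key _ _ (hRR' g hg)

end Groth.Agent.Lib.Helper40.AlgSpBasic
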