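import Mathlib

/-!
# Small scheme-level helpers
-/

universe u
open CategoryTheory AlgebraicGeometry

namespace Groth.Agent.Lib.Helper40.SchemeMisc

/-- fpqc morphisms are effective epimorphisms (explicit-argument version of the Mathlib
instance, for morphisms on which instance search fails, e.g. `Over.Hom.left`). -/
theorem effectiveEpi_of_fpqc {X Y : Scheme.{u}} (f : X ⟶ Y) (h1 : QuasiCompact f)
    (h2 : Surjective f) (h3 : Flat f) : EffectiveEpi f := inferInstance

/-- fppf morphisms are effective epimorphisms. -/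
theorem effectiveEpi_of_fppf {X Y : Scheme.{u}} (f : X ⟶ Y) (h1 : LocallyOfFinitePresentation f)
    (h2 : Surjective f) (h3 : Flat f) : EffectiveEpi f := inferInstance

/-- If `e` is an effective epimorphism, `i` is a monomorphism and `e ≫ g` factors through `i`,
then `g` factors through `i`. -/
theorem exists_factor_of_effectiveEpi {C : Type*} [Category C] {T' T H G : C} (e : T' ⟶ T)
    [EffectiveEpi e] (i : H ⟶ G) [Mono i] (g : T ⟶ G) (h' : T' ⟶ H) (hh' : h' ≫ i = e ≫ g) :
    ∃ d : T ⟶ H, d ≫ i = g ∧ e ≫ d = h' := by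
  have hcompat : ∀ {Z : C} (g₁ g₂ : Z ⟶ T'), g₁ ≫ e = g₂ ≫ e → g₁ ≫ h' = g₂ ≫ h' := by
    intro Z g₁ g₂ hg12
    rw [← cancel_mono i, Category.assoc, Category.assoc, hh', ← Category.assoc, hg12,
      Category.assoc]
  refine ⟨EffectiveEpi.desc e h' hcompat, ?_, EffectiveEpi.fac _ _ _⟩
  have : Epi e := inferInstance
  rw [← cancel_epi e, ← Category.assoc, EffectiveEpi.fac, hh']

end Groth.Agent.Lib.Helper40.SchemeMisc
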