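import Mathlib

set_option autoImplicit false
universe u

namespace Groth.Agent.Lib.Helper40

open TensorProduct

/-- A commutative ring is von Neumann regular (elementwise form). -/
def IsVNR (A : Type*) [CommRing A] : Prop := ∀ a : A, ∃ b : A, a = a * a * b

theorem IsVNR.isReduced {A : Type*} [CommRing A] (h : IsVNR A) : IsReduced A := by
  rw [isReduced_iff_pow_one_lt 2 (by norm_num)]
  intro x hx
  obtain ⟨b, hb⟩ := h x
  rw [hb, ← pow_two, hx, zero_mul]

theorem IsVNR.isMaximal_of_isPrime {A : Type*} [CommRing A] (h : IsVNR A) (p : Ideal A)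
    [hp : p.IsPrime] : p.IsMaximal := by
  rw [Ideal.isMaximal_iff]
  refine ⟨fun h1 => hp.ne_top ((Ideal.eq_top_iff_one p).mpr h1), fun J x hpJ hxp hxJ => ?_⟩
  obtain ⟨b, hb⟩ := h x
  have h0 : x * (1 - x * b) = 0 := by
    have : x * (1 - x * b) = x - x * x * b := by ring
    rw [this, ← hb, sub_self]
  have h1 : 1 - x * b ∈ p := by
    have := hp.mem_or_mem (h0 ▸ p.zero_mem : x * (1 - x * b) ∈ p)
    tauto
  have h2 : (1 - x * b) + x * b ∈ J := J.add_mem (hpJ h1) (J.mul_mem_right _ hxJ)
  simpa using h2

theorem IsVNR.isField_localization {A : Type*} [CommRing A] (h : IsVNR A) (p : Ideal A)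
    [hp : p.IsPrime] : IsField (Localization.AtPrime p) := by
  rw [IsLocalRing.isField_iff_maximalIdeal_eq, eq_bot_iff]
  intro y hy
  obtain ⟨a, s, rfl⟩ := IsLocalization.exists_mk'_eq p.primeCompl y
  rw [Ideal.mem_bot]
  obtain ⟨b, hb⟩ := h a
  have h0 : a * (1 - a * b) = 0 := by
    have : a * (1 - a * b) = a - a * a * b := by ring
    rw [this, ← hb, sub_self]
  have hap : a ∈ p := by
    by_contra hap
    have : IsUnit (IsLocalization.mk' (Localization.AtPrime p) a s) := by
      have h1 : IsUnit (algebraMap A (Localization.AtPrime p) a) :=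
        IsLocalization.map_units (Localization.AtPrime p) (⟨a, hap⟩ : p.primeCompl)
      have h2 : IsLocalization.mk' (Localization.AtPrime p) a s *
          algebraMap A (Localization.AtPrime p) s = algebraMap A (Localization.AtPrime p) a :=
        IsLocalization.mk'_spec _ _ _
      exact isUnit_of_mul_isUnit_left (h2 ▸ h1)
    exact (IsLocalRing.mem_maximalIdeal _).mp hy this
  have h1 : (1 - a * b) ∈ p.primeCompl := by
    intro h1
    have : (1 - a * b) + a * b ∈ p := p.add_mem h1 (p.mul_mem_right _ hap)
    exact hp.ne_top ((Ideal.eq_top_iff_one p).mpr (by simpa using this))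
  rw [IsLocalization.mk'_eq_zero_iff]
  exact ⟨⟨_, h1⟩, by simpa [mul_comm] using h0⟩

/-- If all localizations at primes are fields, every module is flat. -/
theorem flat_of_isField_localization {A : Type u} [CommRing A]
    (h : ∀ (p : Ideal A) [p.IsPrime], IsField (Localization.AtPrime p))
    (M : Type*) [AddCommGroup M] [Module A M] : Module.Flat A M := by
  apply Module.flat_of_localized_maximal
  intro P hP
  let _ : Field (Localization.AtPrime P) := (h P).toField
  have : Module.Flat (Localization.AtPrime P) (LocalizedModule P.primeCompl M) := inferInstance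
  exact Module.Flat.trans A (Localization.AtPrime P) (LocalizedModule P.primeCompl M)

/-- If every module is flat, the ring is von Neumann regular. -/
theorem isVNR_of_forall_flat {A : Type u} [CommRing A]
    (h : ∀ (M : Type u) [AddCommGroup M] [Module A M], Module.Flat A M) : IsVNR A := by
  intro a
  set I : Ideal A := Ideal.span {a} with hI
  have haI : a ∈ I := Ideal.subset_span rfl
  have hflat : Module.Flat A (A ⧸ I) := h (A ⧸ I)
  have hinj : Function.Injective (LinearMap.rTensor (A ⧸ I) (Submodule.subtype I)) :=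
    Module.Flat.rTensor_preserves_injective_linearMap _ (Submodule.injective_subtype I)
  have h0 : (⟨a, haI⟩ : I) ⊗ₜ[A] (1 : A ⧸ I) = 0 := by
    apply hinj
    rw [map_zero, LinearMap.rTensor_tmul, Submodule.subtype_apply]
    have : (a : A) ⊗ₜ[A] (1 : A ⧸ I) = (1 : A) ⊗ₜ[A] (a • (1 : A ⧸ I)) := by
      rw [← TensorProduct.smul_tmul, smul_eq_mul, mul_one]
    rw [this]
    have : a • (1 : A ⧸ I) = 0 := by
      rw [Algebra.smul_def, mul_one, Ideal.Quotient.algebraMap_eq,
        Ideal.Quotient.eq_zero_iff_mem]
      exact haI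
    rw [this, TensorProduct.tmul_zero]
  have h1 : (Submodule.Quotient.mk (⟨a, haI⟩ : I) : I ⧸ (I • (⊤ : Submodule A I))) = 0 := by
    have := congrArg (TensorProduct.tensorQuotEquivQuotSMul I I) h0
    have h1 : (1 : A ⧸ I) = Ideal.Quotient.mk I 1 := rfl
    rw [map_zero, h1, TensorProduct.tensorQuotEquivQuotSMul_tmul_mk,
      one_smul] at this
    exact this
  rw [Submodule.Quotient.mk_eq_zero] at h1
  have h2 : a ∈ (I • (⊤ : Submodule A I)).map (Submodule.subtype I) :=
    ⟨⟨a, haI⟩, h1, rfl⟩
  rw [Submodule.map_smul'', Submodule.map_top, Submodule.range_subtype, smul_eq_mul, hI,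
    Ideal.span_singleton_mul_span_singleton, Ideal.mem_span_singleton'] at h2
  obtain ⟨b, hb⟩ := h2
  exact ⟨b, hb.symm.trans (by ring)⟩

/-- Reduced + every prime maximal implies the localizations at primes are fields. -/
theorem isField_localization_of_isReduced {A : Type*} [CommRing A] [IsReduced A]
    (hmax : ∀ p : Ideal A, p.IsPrime → p.IsMaximal) (p : Ideal A) [hp : p.IsPrime] :
    IsField (Localization.AtPrime p) := by
  have hpmin : p ∈ minimalPrimes A := by
    refine ⟨⟨hp, bot_le⟩, fun q hq hqp => ?_⟩
    have := hmax q hq.1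
    exact (this.eq_of_le hp.ne_top hqp).ge
  have := Ring.KrullDimLE.of_isLocalization p hpmin (Localization.AtPrime p)
  have : IsReduced (Localization.AtPrime p) := inferInstance
  exact Ring.KrullDimLE.isField_of_isReduced

end Groth.Agent.Lib.Helper40
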