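import Mathlib
import Groth.Prelude.Def_AlgGrp

/-!
# Point calculus for actions of group objects of `Over S` (`AlgGrp.Action`)

`smul a g x := lift g x ≫ a.act` for `T`-points `g : T ⟶ G`, `x : T ⟶ X`, with the action laws
`one_smul`, `mul_smul`, naturality `comp_smul`, and `comp_orbitMap`.
-/

set_option autoImplicit false
open CategoryTheory CategoryTheory.Limits AlgebraicGeometry MonoidalCategory
open CartesianMonoidalCategory MonObj
universe u

namespace Groth.Agent.Lib.Helper40.ActPts

variable {S : Scheme.{u}} {G X : Over S} [GrpObj G]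

/-- The action on `T`-points. -/
noncomputable def smul (a : AlgGrp.Action G X) {T : Over S} (g : T ⟶ G) (x : T ⟶ X) : T ⟶ X :=
  lift g x ≫ a.act

theorem smul_def (a : AlgGrp.Action G X) {T : Over S} (g : T ⟶ G) (x : T ⟶ X) :
    smul a g x = lift g x ≫ a.act := rfl

theorem comp_smul (a : AlgGrp.Action G X) {T' T : Over S} (t : T' ⟶ T) (g : T ⟶ G) (x : T ⟶ X) :
    t ≫ smul a g x = smul a (t ≫ g) (t ≫ x) := by
  simp only [smul_def, ← Category.assoc, comp_lift]

theorem one_smul (a : AlgGrp.Action G X) {T : Over S} (x : T ⟶ X) :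
    smul a (1 : T ⟶ G) x = x := by
  have h : lift (1 : T ⟶ G) x = lift (toUnit T) x ≫ (η[G] ▷ X) := by
    rw [lift_whiskerRight, CategoryTheory.Hom.one_def]
  rw [smul_def, h, Category.assoc, a.one_act]
  simp

theorem mul_smul (a : AlgGrp.Action G X) {T : Over S} (g g' : T ⟶ G) (x : T ⟶ X) :
    smul a (g * g') x = smul a g (smul a g' x) := by
  have h : lift (g * g') x = lift (lift g g') x ≫ (μ[G] ▷ X) := by
    rw [lift_whiskerRight]
    rfl
  rw [smul_def, h, Category.assoc, a.mul_act]
  simp only [smul_def, ← Category.assoc, lift_lift_associator_hom, lift_whiskerLeft]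

theorem comp_orbitMap (a : AlgGrp.Action G X) (o : 𝟙_ (Over S) ⟶ X) {T : Over S} (g : T ⟶ G) :
    g ≫ a.orbitMap o = smul a g (toUnit T ≫ o) := by
  unfold AlgGrp.Action.orbitMap
  rw [smul_def, ← Category.assoc, comp_lift, Category.comp_id, ← Category.assoc]
  congr 3
  exact toUnit_unique _ _

theorem whiskerLeft_comp_act (a : AlgGrp.Action G X) {Y T : Over S} (f : Y ⟶ X) (g : T ⟶ G)
    (y : T ⟶ Y) : lift g y ≫ (G ◁ f) ≫ a.act = smul a g (y ≫ f) := by
  rw [smul_def, ← Category.assoc, lift_whiskerLeft]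

end Groth.Agent.Lib.Helper40.ActPts
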