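import Mathlib

/-!
# Point calculus for actions of group objects in a cartesian monoidal category

For `act : G ⊗ X ⟶ X` satisfying the unit and multiplication laws: `lift 1 x ≫ act = x` and
`lift (g * g') x ≫ act = lift g (lift g' x ≫ act) ≫ act`; and a freeness criterion for the shear
map `(g, x) ↦ (g x, x)` to be injective on points.
-/

set_option autoImplicit false
open CategoryTheory CategoryTheory.Limits MonoidalCategory
open CartesianMonoidalCategory MonObj
universe v u

namespace Groth.Agent.Lib.Helper40.ActPtsGen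

variable {C : Type u} [Category.{v} C] [CartesianMonoidalCategory C] {G X : C} [GrpObj G]
  (act : G ⊗ X ⟶ X)

omit [GrpObj G] in
theorem comp_lift_act {T' T : C} (t : T' ⟶ T) (g : T ⟶ G) (x : T ⟶ X) :
    t ≫ lift g x ≫ act = lift (t ≫ g) (t ≫ x) ≫ act := by
  rw [← Category.assoc, comp_lift]

theorem one_smul (one_act : (η[G] ▷ X) ≫ act = (λ_ X).hom) {T : C} (x : T ⟶ X) :
    lift (1 : T ⟶ G) x ≫ act = x := by
  have h : lift (1 : T ⟶ G) x = lift (toUnit T) x ≫ (η[G] ▷ X) := by
    rw [lift_whiskerRight, CategoryTheory.Hom.one_def]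
  rw [h, Category.assoc, one_act]
  simp

theorem mul_smul (mul_act : (μ[G] ▷ X) ≫ act = (α_ G G X).hom ≫ (G ◁ act) ≫ act) {T : C}
    (g g' : T ⟶ G) (x : T ⟶ X) :
    lift (g * g') x ≫ act = lift g (lift g' x ≫ act) ≫ act := by
  have h : lift (g * g') x = lift (lift g g') x ≫ (μ[G] ▷ X) := by
    rw [lift_whiskerRight]
    rfl
  rw [h, Category.assoc, mul_act]
  simp only [← Category.assoc, lift_lift_associator_hom, lift_whiskerLeft]

/-- If only the unit fixes a point (on `T`-points), the shear map is injective on `T`-points. -/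
theorem shear_injective_of_free (one_act : (η[G] ▷ X) ≫ act = (λ_ X).hom)
    (mul_act : (μ[G] ▷ X) ≫ act = (α_ G G X).hom ≫ (G ◁ act) ≫ act) {T : C}
    (hfree : ∀ (g : T ⟶ G) (x : T ⟶ X), lift g x ≫ act = x → g = 1)
    (u v : T ⟶ G ⊗ X) (huv : u ≫ lift act (snd G X) = v ≫ lift act (snd G X)) : u = v := by
  have hx : u ≫ snd G X = v ≫ snd G X := by
    have := congrArg (fun k => k ≫ snd X X) huv
    simpa using this
  have hact : u ≫ act = v ≫ act := by
    have := congrArg (fun k => k ≫ fst X X) huv
    simpa using this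
  have eu : u = lift (u ≫ fst G X) (u ≫ snd G X) := by
    apply CartesianMonoidalCategory.hom_ext <;> simp
  have ev : v = lift (v ≫ fst G X) (u ≫ snd G X) := by
    apply CartesianMonoidalCategory.hom_ext
    · simp
    · simp [hx]
  rw [eu, ev] at hact
  have key : lift ((v ≫ fst G X)⁻¹ * (u ≫ fst G X)) (u ≫ snd G X) ≫ act = u ≫ snd G X := by
    rw [mul_smul act mul_act, hact, ← mul_smul act mul_act, inv_mul_cancel,
      one_smul act one_act]
  have h1 := hfree _ _ key
  have h2 : u ≫ fst G X = v ≫ fst G X := by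
    have := inv_mul_eq_one.mp h1
    exact this.symm
  rw [eu, ev, h2]

end Groth.Agent.Lib.Helper40.ActPtsGen
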