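import Mathlib

set_option autoImplicit false
universe u v

namespace Groth.Agent.Lib.Helper40.AdicLim

open Submodule

/-- any element at level `n` of a surjective inverse system extends to a compatible family. -/
theorem exists_compatible {A : Type u} [CommRing A] :
    ∀ (n : ℕ) (M : ℕ → Type v) [∀ n, AddCommGroup (M n)] [∀ n, Module A (M n)]
      (f : ∀ n, M (n + 1) →ₗ[A] M n) (_ : ∀ n, Function.Surjective (f n)) (y : M n),
      ∃ z : ∀ m, M m, (∀ m, f m (z (m + 1)) = z m) ∧ z n = y := by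
  intro n
  induction n with
  | zero =>
    intro M _ _ f hf y
    refine ⟨fun m => Nat.rec (motive := fun m => M m) y (fun m zm => Function.surjInv (hf m) zm) m,
      fun m => ?_, rfl⟩
    exact Function.surjInv_eq (hf m) _
  | succ n ih =>
    intro M _ _ f hf y
    obtain ⟨z', hz', hz'n⟩ := ih (fun m => M (m + 1)) (fun m => f (m + 1)) (fun m => hf (m + 1)) y
    refine ⟨fun m => Nat.rec (motive := fun m => M m) (f 0 (z' 0)) (fun m _ => z' m) m,
      fun m => ?_, hz'n⟩
    cases m with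
    | zero => rfl
    | succ m => exact hz' m

section

variable {A : Type u} [CommRing A] (I : Ideal A)
  {M : ℕ → Type v} [∀ n, AddCommGroup (M n)] [∀ n, Module A (M n)]
  (f : ∀ n, M (n + 1) →ₗ[A] M n)
  {L : Type v} [AddCommGroup L] [Module A L] (π : ∀ n, L →ₗ[A] M n)

include f in
theorem pi_surjective (hf : ∀ n, Function.Surjective (f n))
    (hlift : ∀ y : (∀ n, M n), (∀ n, f n (y (n + 1)) = y n) → ∃ x : L, ∀ n, π n x = y n)
    (n : ℕ) : Function.Surjective (π n) := by
  intro y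
  obtain ⟨z, hz, hzn⟩ := exists_compatible n M f hf y
  obtain ⟨x, hx⟩ := hlift z hz
  exact ⟨x, (hx n).trans hzn⟩

include f in
theorem pi_eq_zero_of_add (hπ : ∀ n, f n ∘ₗ π (n + 1) = π n) (x : L) :
    ∀ (d m : ℕ), π (m + d) x = 0 → π m x = 0 := by
  intro d
  induction d with
  | zero => intro m h; exact h
  | succ d ih =>
    intro m h
    apply ih m
    have := LinearMap.congr_fun (hπ (m + d)) x
    rw [LinearMap.comp_apply] at this
    rw [← this]
    have h' : π (m + d + 1) x = 0 := h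
    rw [h', map_zero]

include f in
theorem pi_eq_zero_of_le (hπ : ∀ n, f n ∘ₗ π (n + 1) = π n) (x : L) {m n : ℕ} (hmn : m ≤ n)
    (h : π n x = 0) : π m x = 0 := by
  obtain ⟨d, rfl⟩ := Nat.exists_eq_add_of_le hmn
  exact pi_eq_zero_of_add f π hπ x d m h

/-- nilpotent Nakayama. -/
theorem nakayama_nilpotent {N : Type*} [AddCommGroup N] [Module A N] (S : Submodule A N)
    (h : (⊤ : Submodule A N) ≤ S ⊔ I • ⊤) (k : ℕ) (hk : I ^ k • (⊤ : Submodule A N) = ⊥) :
    S = ⊤ := by
  have key : ∀ j : ℕ, (⊤ : Submodule A N) ≤ S ⊔ I ^ j • ⊤ := by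
    intro j
    induction j with
    | zero => rw [pow_zero, Ideal.one_eq_top, top_smul]; exact le_sup_right
    | succ j ih =>
      calc (⊤ : Submodule A N) ≤ S ⊔ I • ⊤ := h
        _ ≤ S ⊔ I • (S ⊔ I ^ j • ⊤) := sup_le_sup_left (Submodule.smul_mono le_rfl ih) _
        _ = S ⊔ (I • S ⊔ I • (I ^ j • ⊤)) := by rw [Submodule.smul_sup]
        _ ≤ S ⊔ I ^ (j + 1) • ⊤ := by
          refine sup_le le_sup_left (sup_le (le_sup_of_le_left Submodule.smul_le_right) ?_)
          rw [← Submodule.mul_smul, ← pow_succ']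
          exact le_sup_right
  have := key k
  rw [hk, sup_bot_eq] at this
  exact top_le_iff.mp this

include f in
/-- generators of `M 0` coming from `L` generate every `M n`. -/
theorem span_pi_eq_top (hπ : ∀ n, f n ∘ₗ π (n + 1) = π n)
    (hk : ∀ n, I ^ (n + 1) • (⊤ : Submodule A (M n)) = ⊥)
    (hker : ∀ n, LinearMap.ker (f n) = I ^ (n + 1) • (⊤ : Submodule A (M (n + 1))))
    {t : ℕ} (x : Fin t → L) (h0 : span A (Set.range fun i => π 0 (x i)) = ⊤) :
    ∀ n, span A (Set.range fun i => π n (x i)) = ⊤ := by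
  intro n
  induction n with
  | zero => exact h0
  | succ n ih =>
    apply nakayama_nilpotent I _ _ (n + 1 + 1) (hk (n + 1))
    intro m _
    -- f n m lies in span of π n x_i
    have hm : f n m ∈ span A (Set.range fun i => π n (x i)) := by rw [ih]; trivial
    obtain ⟨c, hc⟩ := (Submodule.mem_span_range_iff_exists_fun A).mp hm
    have hdiff : m - ∑ i, c i • π (n + 1) (x i) ∈ LinearMap.ker (f n) := by
      rw [LinearMap.mem_ker, map_sub, map_sum, ← hc, sub_eq_zero]
      refine Finset.sum_congr rfl fun i _ => ?_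
      rw [map_smul]
      have := LinearMap.congr_fun (hπ n) (x i)
      rw [LinearMap.comp_apply] at this
      rw [this]
    rw [hker n] at hdiff
    have hle : I ^ (n + 1) • (⊤ : Submodule A (M (n + 1))) ≤ I • ⊤ := by
      rw [pow_succ', Submodule.mul_smul]
      exact Submodule.smul_mono le_rfl le_top
    have h1 : ∑ i, c i • π (n + 1) (x i) ∈ span A (Set.range fun i => π (n + 1) (x i)) :=
      Submodule.sum_mem _ fun i _ => Submodule.smul_mem _ _ (Submodule.subset_span ⟨i, rfl⟩)
    have : m = ∑ i, c i • π (n + 1) (x i) + (m - ∑ i, c i • π (n + 1) (x i)) := by abel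
    rw [this]
    exact Submodule.add_mem_sup h1 (hle hdiff)

end

section key

variable {A : Type u} [CommRing A] (I : Ideal A) [IsPrecomplete I A]
  {M : ℕ → Type v} [∀ n, AddCommGroup (M n)] [∀ n, Module A (M n)]
  (f : ∀ n, M (n + 1) →ₗ[A] M n)
  {L : Type v} [AddCommGroup L] [Module A L] (π : ∀ n, L →ₗ[A] M n)

omit [IsPrecomplete I A] in
/-- one approximation step -/
theorem key_step (E : ℕ → ℕ) (hπ : ∀ n, f n ∘ₗ π (n + 1) = π n)
    (hker : ∀ n, LinearMap.ker (f n) = I ^ (E n) • (⊤ : Submodule A (M (n + 1))))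
    {t : ℕ} (x : Fin t → L) (hgen : ∀ n, span A (Set.range fun i => π n (x i)) = ⊤)
    (y : L) (j : ℕ) (c : Fin t → A) (hc : π j y = ∑ i, c i • π j (x i)) :
    ∃ c' : Fin t → A, π (j + 1) y = ∑ i, c' i • π (j + 1) (x i) ∧ ∀ i, c' i - c i ∈ I ^ (E j) := by
  have hz : π (j + 1) y - ∑ i, c i • π (j + 1) (x i) ∈ LinearMap.ker (f j) := by
    rw [LinearMap.mem_ker, map_sub, map_sum]
    have h1 := LinearMap.congr_fun (hπ j) y
    rw [LinearMap.comp_apply] at h1
    rw [h1, hc, sub_eq_zero]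
    refine Finset.sum_congr rfl fun i _ => ?_
    rw [map_smul]
    have := LinearMap.congr_fun (hπ j) (x i)
    rw [LinearMap.comp_apply] at this
    rw [this]
  rw [hker j, ← hgen (j + 1), Submodule.mem_ideal_smul_span_iff_exists_sum] at hz
  obtain ⟨a, ha, hsum⟩ := hz
  have hsum' : ∑ i, a i • π (j + 1) (x i) = π (j + 1) y - ∑ i, c i • π (j + 1) (x i) := by
    rw [← hsum, Finsupp.sum_fintype]
    intro i
    exact zero_smul _ _
  refine ⟨fun i => c i + a i, ?_, fun i => ?_⟩
  · simp only [add_smul, Finset.sum_add_distrib, hsum']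
    abel
  · simpa using ha i

theorem key (E : ℕ → ℕ) (hE : Monotone E) (hEj : ∀ j, j ≤ E j)
    (hπ : ∀ n, f n ∘ₗ π (n + 1) = π n)
    (hinj : ∀ x : L, (∀ n, π n x = 0) → x = 0)
    (hk : ∀ n, I ^ (E n) • (⊤ : Submodule A (M n)) = ⊥)
    (hker : ∀ n, LinearMap.ker (f n) = I ^ (E n) • (⊤ : Submodule A (M (n + 1))))
    {t : ℕ} (x : Fin t → L) (hgen : ∀ n, span A (Set.range fun i => π n (x i)) = ⊤)
    (y : L) (hy : π 0 y = 0) :
    ∃ b : Fin t → A, (∀ i, b i ∈ I ^ (E 0)) ∧ y = ∑ i, b i • x i := by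
  classical
  -- the sequence of approximations
  let Inv : ℕ → (Fin t → A) → Prop := fun j c =>
    π j y = ∑ i, c i • π j (x i) ∧ ∀ i, c i ∈ I ^ (E 0)
  have step : ∀ j (c : {c // Inv j c}), ∃ c' : {c' // Inv (j + 1) c'},
      ∀ i, c'.1 i - c.1 i ∈ I ^ (E j) := by
    rintro j ⟨c, hc1, hc2⟩
    obtain ⟨c', h1, h2⟩ := key_step I f π E hπ hker x hgen y j c hc1
    refine ⟨⟨c', h1, fun i => ?_⟩, h2⟩
    have : c' i = (c' i - c i) + c i := by ring
    rw [this]
    exact Ideal.add_mem _ (Ideal.pow_le_pow_right (hE (Nat.zero_le j)) (h2 i)) (hc2 i)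
  have inv0 : Inv 0 (fun _ => 0) := ⟨by simp [hy], fun i => Ideal.zero_mem _⟩
  let seq : ∀ j, {c // Inv j c} := fun j =>
    Nat.rec (motive := fun j => {c // Inv j c}) ⟨fun _ => 0, inv0⟩
      (fun j c => Classical.choose (step j c)) j
  have hseq : ∀ j i, (seq (j + 1)).1 i - (seq j).1 i ∈ I ^ (E j) := fun j =>
    Classical.choose_spec (step j (seq j))
  -- telescoping
  have htel : ∀ (m d : ℕ) i, (seq (m + d)).1 i - (seq m).1 i ∈ I ^ (E m) := by
    intro m d i
    induction d with
    | zero => simp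
    | succ d ih =>
      change (seq (m + d + 1)).1 i - (seq m).1 i ∈ I ^ (E m)
      have : (seq (m + d + 1)).1 i - (seq m).1 i =
          ((seq (m + d + 1)).1 i - (seq (m + d)).1 i) + ((seq (m + d)).1 i - (seq m).1 i) := by
        ring
      rw [this]
      exact Ideal.add_mem _ (Ideal.pow_le_pow_right (hE (Nat.le_add_right m d)) (hseq (m + d) i)) ih
  -- limits
  have hlim : ∀ i, ∃ b : A, ∀ n, (seq n).1 i ≡ b [SMOD (I ^ n • ⊤ : Submodule A A)] := by
    intro i
    apply IsPrecomplete.prec'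
    intro m n hmn
    obtain ⟨d, rfl⟩ := Nat.exists_eq_add_of_le hmn
    rw [SModEq.sub_mem, smul_eq_mul, Ideal.mul_top]
    have := htel m d i
    have h2 : (seq m).1 i - (seq (m + d)).1 i = -((seq (m + d)).1 i - (seq m).1 i) := by ring
    rw [h2]
    exact Ideal.neg_mem_iff _ |>.mpr (Ideal.pow_le_pow_right (hEj m) this)
  choose b hb using hlim
  have hb' : ∀ j i, b i - (seq j).1 i ∈ I ^ (E j) := by
    intro j i
    obtain ⟨d, hd⟩ : ∃ d, j + d = max j (E j) := ⟨max j (E j) - j, by omega⟩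
    have h1 := hb i (j + d)
    rw [SModEq.sub_mem, smul_eq_mul, Ideal.mul_top] at h1
    have h2 := htel j d i
    have h3 : b i - (seq j).1 i = -((seq (j + d)).1 i - b i) + ((seq (j + d)).1 i - (seq j).1 i) := by
      ring
    rw [h3]
    refine Ideal.add_mem _ (Ideal.neg_mem_iff _ |>.mpr (Ideal.pow_le_pow_right ?_ h1)) h2
    omega
  refine ⟨b, fun i => ?_, ?_⟩
  · have := hb' 0 i
    have h0 : (seq 0).1 i = 0 := rfl
    rw [h0, sub_zero] at this
    exact this
  · rw [← sub_eq_zero]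
    apply hinj
    intro n
    rw [map_sub, (seq n).2.1, map_sum, ← Finset.sum_sub_distrib]
    have hmem : ∑ i, ((seq n).1 i • π n (x i) - π n (b i • x i)) ∈
        I ^ (E n) • (⊤ : Submodule A (M n)) := by
      refine Submodule.sum_mem _ fun i _ => ?_
      rw [map_smul, ← sub_smul]
      refine Submodule.smul_mem_smul ?_ trivial
      have := hb' n i
      have h2 : (seq n).1 i - b i = -(b i - (seq n).1 i) := by ring
      rw [h2]
      exact Ideal.neg_mem_iff _ |>.mpr this
    rw [hk n] at hmem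
    exact (Submodule.mem_bot A).mp hmem

end key

section main

variable {A : Type u} [CommRing A] (I : Ideal A) [IsPrecomplete I A]
  {M : ℕ → Type v} [∀ n, AddCommGroup (M n)] [∀ n, Module A (M n)]
  (f : ∀ n, M (n + 1) →ₗ[A] M n)
  {L : Type v} [AddCommGroup L] [Module A L] (π : ∀ n, L →ₗ[A] M n)

include f in
/-- elements killed by `π n` are `I^(n+1)`-combinations of the generators. -/
theorem exists_sum_of_pi_eq_zero
    (hk : ∀ n, I ^ (n + 1) • (⊤ : Submodule A (M n)) = ⊥)
    (hker : ∀ n, LinearMap.ker (f n) = I ^ (n + 1) • (⊤ : Submodule A (M (n + 1))))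
    (hπ : ∀ n, f n ∘ₗ π (n + 1) = π n)
    (hinj : ∀ x : L, (∀ n, π n x = 0) → x = 0)
    {t : ℕ} (x : Fin t → L) (hgen : ∀ n, span A (Set.range fun i => π n (x i)) = ⊤)
    (n : ℕ) (y : L) (hy : π n y = 0) :
    ∃ b : Fin t → A, (∀ i, b i ∈ I ^ (n + 1)) ∧ y = ∑ i, b i • x i := by
  have hinj' : ∀ z : L, (∀ j, π (n + j) z = 0) → z = 0 := by
    intro z hz
    apply hinj
    intro m
    rcases le_total m n with h | h
    · exact pi_eq_zero_of_le f π hπ z h (hz 0)
    · obtain ⟨d, rfl⟩ := Nat.exists_eq_add_of_le h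
      exact hz d
  exact key I (M := fun j => M (n + j)) (fun j => f (n + j)) (fun j => π (n + j))
    (fun j => n + j + 1) (fun a b hab => by simpa using hab) (fun j => by omega)
    (fun j => hπ (n + j)) hinj' (fun j => hk (n + j)) (fun j => hker (n + j)) x
    (fun j => hgen (n + j)) y hy

include f in
theorem ker_pi_eq
    (hk : ∀ n, I ^ (n + 1) • (⊤ : Submodule A (M n)) = ⊥)
    (hker : ∀ n, LinearMap.ker (f n) = I ^ (n + 1) • (⊤ : Submodule A (M (n + 1))))
    (hπ : ∀ n, f n ∘ₗ π (n + 1) = π n)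
    (hinj : ∀ x : L, (∀ n, π n x = 0) → x = 0)
    {t : ℕ} (x : Fin t → L) (hgen : ∀ n, span A (Set.range fun i => π n (x i)) = ⊤)
    (n : ℕ) : LinearMap.ker (π n) = I ^ (n + 1) • (⊤ : Submodule A L) := by
  apply le_antisymm
  · intro y hy
    obtain ⟨b, hb, rfl⟩ := exists_sum_of_pi_eq_zero I f π hk hker hπ hinj x hgen n y hy
    exact Submodule.sum_mem _ fun i _ => Submodule.smul_mem_smul (hb i) trivial
  · intro y hy
    rw [LinearMap.mem_ker]
    have : π n y ∈ (I ^ (n + 1) • (⊤ : Submodule A L)).map (π n) := ⟨y, hy, rfl⟩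
    rw [Submodule.map_smul''] at this
    have h2 : I ^ (n + 1) • Submodule.map (π n) ⊤ ≤ I ^ (n + 1) • (⊤ : Submodule A (M n)) :=
      Submodule.smul_mono le_rfl le_top
    have h3 := h2 this
    rw [hk n] at h3
    exact (Submodule.mem_bot A).mp h3

include f in
theorem main
    (hf : ∀ n, Function.Surjective (f n))
    (hk : ∀ n, I ^ (n + 1) • (⊤ : Submodule A (M n)) = ⊥)
    (hker : ∀ n, LinearMap.ker (f n) = I ^ (n + 1) • (⊤ : Submodule A (M (n + 1))))
    (hπ : ∀ n, f n ∘ₗ π (n + 1) = π n)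
    (hinj : ∀ x : L, (∀ n, π n x = 0) → x = 0)
    (hlift : ∀ y : (∀ n, M n), (∀ n, f n (y (n + 1)) = y n) → ∃ x : L, ∀ n, π n x = y n)
    (h0 : Module.Finite A (M 0)) :
    Module.Finite A L ∧ IsAdicComplete I L ∧
      ∀ n, Function.Surjective (π n) ∧ LinearMap.ker (π n) = I ^ (n + 1) • (⊤ : Submodule A L) := by
  classical
  have hsurj := pi_surjective f π hf hlift
  obtain ⟨t, s, hs⟩ := Module.Finite.exists_fin (R := A) (M := M 0)
  let x : Fin t → L := fun i => Function.surjInv (hsurj 0) (s i)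
  have hx : ∀ i, π 0 (x i) = s i := fun i => Function.surjInv_eq (hsurj 0) (s i)
  have hgen0 : span A (Set.range fun i => π 0 (x i)) = ⊤ := by
    have : (fun i => π 0 (x i)) = s := funext hx
    rw [this, hs]
  have hgen := span_pi_eq_top I f π hπ hk hker x hgen0
  have hkerπ := ker_pi_eq I f π hk hker hπ hinj x hgen
  refine ⟨?_, ?_, fun n => ⟨hsurj n, hkerπ n⟩⟩
  · -- finite
    refine ⟨Finset.univ.image x, ?_⟩
    rw [eq_top_iff]
    intro y _
    have hy0 : π 0 y ∈ span A (Set.range fun i => π 0 (x i)) := by rw [hgen0]; trivial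
    obtain ⟨c, hc⟩ := (Submodule.mem_span_range_iff_exists_fun A).mp hy0
    have hy' : π 0 (y - ∑ i, c i • x i) = 0 := by
      rw [map_sub, map_sum, ← hc, sub_eq_zero]
      exact (Finset.sum_congr rfl fun i _ => by rw [map_smul])
    obtain ⟨b, -, hb⟩ := exists_sum_of_pi_eq_zero I f π hk hker hπ hinj x hgen 0 _ hy'
    have : y = ∑ i, c i • x i + ∑ i, b i • x i := by rw [← hb]; abel
    rw [this]
    refine Submodule.add_mem _ ?_ ?_ <;>
    · refine Submodule.sum_mem _ fun i _ => Submodule.smul_mem _ _ (Submodule.subset_span ?_)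
      simp
  · -- complete
    have hH : IsHausdorff I L := by
      refine ⟨fun y hy => hinj y fun n => ?_⟩
      have := hy (n + 1)
      rw [SModEq.zero] at this
      rw [← hkerπ n] at this
      exact this
    have hP : IsPrecomplete I L := by
      refine ⟨fun g hg => ?_⟩
      have hcompat : ∀ m, f m (π (m + 1) (g (m + 1 + 1))) = π m (g (m + 1)) := by
        intro m
        have h1 := LinearMap.congr_fun (hπ m) (g (m + 1 + 1))
        rw [LinearMap.comp_apply] at h1
        rw [h1]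
        have h2 := hg (Nat.le_succ (m + 1))
        rw [SModEq.sub_mem, ← hkerπ m, LinearMap.mem_ker, map_sub, sub_eq_zero] at h2
        exact h2.symm
      obtain ⟨y, hy⟩ := hlift (fun m => π m (g (m + 1))) hcompat
      refine ⟨y, fun n => ?_⟩
      cases n with
      | zero => rw [pow_zero, Ideal.one_eq_top, top_smul]; exact SModEq.top
      | succ m =>
        rw [SModEq.sub_mem, ← hkerπ m, LinearMap.mem_ker, map_sub, sub_eq_zero]
        exact (hy m).symm
    exact { toIsHausdorff := hH, toIsPrecomplete := hP }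

end main

end Groth.Agent.Lib.Helper40.AdicLim
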