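import Groth.Agent.Lib.Helper40.AdicLim

set_option autoImplicit false
universe u v w

namespace Groth.Agent.Lib.Helper40.AdicLim

open Submodule

section tools

variable {A : Type u} [CommRing A]

/-- maps out of `Fin m → A ⧸ J` with prescribed values on the standard generators. -/
theorem exists_linearMap_single {J : Ideal A} {m : ℕ} {X : Type*} [AddCommGroup X] [Module A X]
    (hX : ∀ a ∈ J, ∀ x : X, a • x = 0) (c : Fin m → X) :
    ∃ ψ : (Fin m → A ⧸ J) →ₗ[A] X, ∀ k, ψ (Pi.single k 1) = c k := by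
  classical
  have hle : ∀ k, (J : Submodule A A) ≤ LinearMap.ker (LinearMap.toSpanSingleton A X (c k)) := by
    intro k a ha
    rw [LinearMap.mem_ker, LinearMap.toSpanSingleton_apply]
    exact hX a ha (c k)
  refine ⟨∑ k, (Submodule.liftQ J (LinearMap.toSpanSingleton A X (c k)) (hle k)) ∘ₗ
    (LinearMap.proj k), fun k => ?_⟩
  rw [LinearMap.sum_apply, Finset.sum_eq_single k]
  · rw [LinearMap.comp_apply, LinearMap.proj_apply, Pi.single_eq_same]
    change Submodule.liftQ J (LinearMap.toSpanSingleton A X (c k)) (hle k)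
      (Submodule.Quotient.mk 1) = c k
    rw [Submodule.liftQ_apply, LinearMap.toSpanSingleton_apply, one_smul]
  · intro k' _ hk'
    rw [LinearMap.comp_apply, LinearMap.proj_apply, Pi.single_eq_of_ne hk', map_zero]
  · intro h; exact absurd (Finset.mem_univ k) h

/-- extensionality for maps out of `Fin m → A ⧸ J`. -/
theorem linearMap_ext_single {J : Ideal A} {m : ℕ} {Z : Type*} [AddCommGroup Z] [Module A Z]
    (α β : (Fin m → A ⧸ J) →ₗ[A] Z) (h : ∀ k, α (Pi.single k 1) = β (Pi.single k 1)) : α = β := by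
  classical
  apply LinearMap.pi_ext'
  intro k
  apply Submodule.linearMap_qext
  apply LinearMap.ext_ring
  simp only [LinearMap.comp_apply, Submodule.mkQ_apply, LinearMap.single_apply]
  exact h k

/-- abstract lifting step. -/
theorem exists_section_step {J : Ideal A} {m : ℕ}
    {M' : Type*} [AddCommGroup M'] [Module A M']
    (i : M' →ₗ[A] (Fin m → A ⧸ J)) (r : (Fin m → A ⧸ J) →ₗ[A] M') (hri : r ∘ₗ i = LinearMap.id)
    {X : Type*} [AddCommGroup X] [Module A X] (hX : ∀ a ∈ J, ∀ x : X, a • x = 0)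
    (φ' : X →ₗ[A] M')
    {M : Type*} [AddCommGroup M] [Module A M] (f : M' →ₗ[A] M)
    {X₀ : Type*} [AddCommGroup X₀] [Module A X₀] (τ : X →ₗ[A] X₀) (hτ : Function.Surjective τ)
    (φ : X₀ →ₗ[A] M) (σ : M →ₗ[A] X₀) (hσ : φ ∘ₗ σ = LinearMap.id)
    (hcomm : f ∘ₗ φ' = φ ∘ₗ τ)
    (hkl : ∀ z : M', f z = 0 → ∃ d : X, τ d = 0 ∧ φ' d = z) :
    ∃ σ' : M' →ₗ[A] X, τ ∘ₗ σ' = σ ∘ₗ f ∧ φ' ∘ₗ σ' = LinearMap.id := by
  classical
  have hc : ∀ k : Fin m, ∃ c : X, τ c = σ (f (r (Pi.single k 1))) ∧ φ' c = r (Pi.single k 1) := by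
    intro k
    obtain ⟨c₀, hc₀⟩ := hτ (σ (f (r (Pi.single k 1))))
    have hz : f (φ' c₀ - r (Pi.single k 1)) = 0 := by
      rw [map_sub, sub_eq_zero]
      have h1 := LinearMap.congr_fun hcomm c₀
      rw [LinearMap.comp_apply, LinearMap.comp_apply] at h1
      rw [h1, hc₀]
      have h2 := LinearMap.congr_fun hσ (f (r (Pi.single k 1)))
      rw [LinearMap.comp_apply, LinearMap.id_apply] at h2
      exact h2
    obtain ⟨d, hd0, hd⟩ := hkl _ hz
    refine ⟨c₀ - d, ?_, ?_⟩
    · rw [map_sub, hd0, sub_zero, hc₀]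
    · rw [map_sub, hd]; abel
  choose c hc1 hc2 using hc
  obtain ⟨ψ, hψ⟩ := exists_linearMap_single hX c
  have h1 : τ ∘ₗ ψ = σ ∘ₗ f ∘ₗ r := by
    apply linearMap_ext_single
    intro k
    simp only [LinearMap.comp_apply, hψ, hc1]
  have h2 : φ' ∘ₗ ψ = r := by
    apply linearMap_ext_single
    intro k
    simp only [LinearMap.comp_apply, hψ, hc2]
  refine ⟨ψ ∘ₗ i, ?_, ?_⟩
  · rw [← LinearMap.comp_assoc, h1, LinearMap.comp_assoc, LinearMap.comp_assoc, hri,
      LinearMap.comp_id]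
  · rw [← LinearMap.comp_assoc, h2, hri]

end tools

section concrete

variable {A : Type u} [CommRing A] (I : Ideal A)
  {M : ℕ → Type v} [∀ n, AddCommGroup (M n)] [∀ n, Module A (M n)]
  (f : ∀ n, M (n + 1) →ₗ[A] M n)
  {L : Type v} [AddCommGroup L] [Module A L] (π : ∀ n, L →ₗ[A] M n)

/-- the truncated free modules -/
abbrev FF (t n : ℕ) : Type u := Fin t → A ⧸ (I ^ (n + 1) • ⊤ : Submodule A A)

theorem FF_killed (t n : ℕ) : ∀ a ∈ I ^ (n + 1), ∀ v : FF I t n, a • v = 0 := by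
  intro a ha v
  funext j
  rw [Pi.smul_apply, Pi.zero_apply]
  obtain ⟨b, hb⟩ := Submodule.Quotient.mk_surjective _ (v j)
  rw [← hb, ← Submodule.Quotient.mk_smul, Submodule.Quotient.mk_eq_zero, smul_eq_mul, smul_eq_mul,
    Ideal.mul_top]
  exact Ideal.mul_mem_right _ _ ha

/-- transition maps of the truncated free modules -/
noncomputable def tau (t n : ℕ) : FF I t (n + 1) →ₗ[A] FF I t n :=
  LinearMap.pi fun j => (Submodule.factorPow I A (Nat.le_succ (n + 1))) ∘ₗ LinearMap.proj j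

theorem tau_apply (t n : ℕ) (v : FF I t (n + 1)) (j : Fin t) :
    tau I t n v j = Submodule.factorPow I A (Nat.le_succ (n + 1)) (v j) := rfl

theorem tau_surjective (t n : ℕ) : Function.Surjective (tau I t n) := by
  intro v
  choose a ha using fun j => Submodule.Quotient.mk_surjective _ (v j)
  refine ⟨fun j => Submodule.Quotient.mk (a j), ?_⟩
  funext j
  rw [tau_apply, ← ha j]
  rfl

variable {t : ℕ} (x : Fin t → L)

/-- the map `F n → M n` determined by the generators -/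
noncomputable def phi (hk : ∀ n, I ^ (n + 1) • (⊤ : Submodule A (M n)) = ⊥) (n : ℕ) :
    FF I t n →ₗ[A] M n :=
  ∑ j, (Submodule.liftQ (I ^ (n + 1) • ⊤ : Submodule A A)
    (LinearMap.toSpanSingleton A (M n) (π n (x j))) (by
      intro a ha
      rw [smul_eq_mul, Ideal.mul_top] at ha
      rw [LinearMap.mem_ker, LinearMap.toSpanSingleton_apply]
      have : a • π n (x j) ∈ I ^ (n + 1) • (⊤ : Submodule A (M n)) :=
        Submodule.smul_mem_smul ha trivial
      rw [hk n] at this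
      exact (Submodule.mem_bot A).mp this)) ∘ₗ LinearMap.proj j

theorem phi_mk (hk : ∀ n, I ^ (n + 1) • (⊤ : Submodule A (M n)) = ⊥) (n : ℕ) (a : Fin t → A) :
    phi I π x hk n (fun j => Submodule.Quotient.mk (a j)) = ∑ j, a j • π n (x j) := by
  rw [phi, LinearMap.sum_apply]
  refine Finset.sum_congr rfl fun j _ => ?_
  rw [LinearMap.comp_apply, LinearMap.proj_apply, Submodule.liftQ_apply,
    LinearMap.toSpanSingleton_apply]

theorem phi_apply (hk : ∀ n, I ^ (n + 1) • (⊤ : Submodule A (M n)) = ⊥) (n : ℕ) (v : FF I t n) :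
    ∃ a : Fin t → A, (v = fun j => Submodule.Quotient.mk (a j)) ∧
      phi I π x hk n v = ∑ j, a j • π n (x j) := by
  choose a ha using fun j => Submodule.Quotient.mk_surjective _ (v j)
  have : v = fun j => Submodule.Quotient.mk (a j) := funext fun j => (ha j).symm
  exact ⟨a, this, by rw [this, phi_mk]⟩

include f in
theorem phi_comm (hk : ∀ n, I ^ (n + 1) • (⊤ : Submodule A (M n)) = ⊥)
    (hπ : ∀ n, f n ∘ₗ π (n + 1) = π n) (n : ℕ) :
    f n ∘ₗ phi I π x hk (n + 1) = phi I π x hk n ∘ₗ tau I t n := by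
  apply LinearMap.ext
  intro v
  obtain ⟨a, rfl, ha⟩ := phi_apply I π x hk (n + 1) v
  rw [LinearMap.comp_apply, ha, LinearMap.comp_apply, map_sum]
  have : tau I t n (fun j => Submodule.Quotient.mk (a j)) =
      fun j => (Submodule.Quotient.mk (a j) : A ⧸ (I ^ (n + 1) • ⊤ : Submodule A A)) := by
    funext j
    rfl
  rw [this, phi_mk]
  refine Finset.sum_congr rfl fun j _ => ?_
  rw [map_smul]
  have h1 := LinearMap.congr_fun (hπ n) (x j)
  rw [LinearMap.comp_apply] at h1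
  rw [h1]

theorem phi_surjective (hk : ∀ n, I ^ (n + 1) • (⊤ : Submodule A (M n)) = ⊥)
    (hgen : ∀ n, span A (Set.range fun i => π n (x i)) = ⊤) (n : ℕ) :
    Function.Surjective (phi I π x hk n) := by
  intro z
  have hz : z ∈ span A (Set.range fun i => π n (x i)) := by rw [hgen n]; trivial
  obtain ⟨c, hc⟩ := (Submodule.mem_span_range_iff_exists_fun A).mp hz
  exact ⟨fun j => Submodule.Quotient.mk (c j), by rw [phi_mk, hc]⟩

include f in
theorem phi_kernel_lift (hk : ∀ n, I ^ (n + 1) • (⊤ : Submodule A (M n)) = ⊥)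
    (hker : ∀ n, LinearMap.ker (f n) = I ^ (n + 1) • (⊤ : Submodule A (M (n + 1))))
    (hgen : ∀ n, span A (Set.range fun i => π n (x i)) = ⊤) (n : ℕ)
    (z : M (n + 1)) (hz : f n z = 0) :
    ∃ d : FF I t (n + 1), tau I t n d = 0 ∧ phi I π x hk (n + 1) d = z := by
  have hz' : z ∈ LinearMap.ker (f n) := hz
  rw [hker n, ← hgen (n + 1), Submodule.mem_ideal_smul_span_iff_exists_sum] at hz'
  obtain ⟨a, ha, hsum⟩ := hz'
  have hsum' : ∑ j, a j • π (n + 1) (x j) = z := by
    rw [← hsum, Finsupp.sum_fintype]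
    intro i
    exact zero_smul _ _
  refine ⟨fun j => Submodule.Quotient.mk (a j), ?_, ?_⟩
  · funext j
    change (Submodule.Quotient.mk (a j) : A ⧸ (I ^ (n + 1) • ⊤ : Submodule A A)) = 0
    rw [Submodule.Quotient.mk_eq_zero, smul_eq_mul, Ideal.mul_top]
    exact ha j
  · rw [phi_mk, hsum']

end concrete

section final

variable {A : Type u} [CommRing A] (I : Ideal A) [IsAdicComplete I A]
  {M : ℕ → Type v} [∀ n, AddCommGroup (M n)] [∀ n, Module A (M n)]
  (f : ∀ n, M (n + 1) →ₗ[A] M n)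
  {L : Type v} [AddCommGroup L] [Module A L] (π : ∀ n, L →ₗ[A] M n)

include f in
theorem main_proj
    (hf : ∀ n, Function.Surjective (f n))
    (hk : ∀ n, I ^ (n + 1) • (⊤ : Submodule A (M n)) = ⊥)
    (hker : ∀ n, LinearMap.ker (f n) = I ^ (n + 1) • (⊤ : Submodule A (M (n + 1))))
    (hπ : ∀ n, f n ∘ₗ π (n + 1) = π n)
    (hinj : ∀ x : L, (∀ n, π n x = 0) → x = 0)
    (hlift : ∀ y : (∀ n, M n), (∀ n, f n (y (n + 1)) = y n) → ∃ x : L, ∀ n, π n x = y n)
    (hproj : ∀ n, ∃ (m : ℕ) (i : M n →ₗ[A] (Fin m → A ⧸ I ^ (n + 1)))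
      (r : (Fin m → A ⧸ I ^ (n + 1)) →ₗ[A] M n), r ∘ₗ i = LinearMap.id) :
    Module.Finite A L ∧ Module.Projective A L ∧
      ∀ n, Function.Surjective (π n) ∧ LinearMap.ker (π n) = I ^ (n + 1) • (⊤ : Submodule A L) := by
  classical
  have h0 : Module.Finite A (M 0) := by
    obtain ⟨m, i, r, hri⟩ := hproj 0
    refine Module.Finite.of_surjective r ?_
    intro z
    exact ⟨i z, LinearMap.congr_fun hri z⟩
  obtain ⟨hfin, -, hrest⟩ := main I f π hf hk hker hπ hinj hlift h0
  refine ⟨hfin, ?_, hrest⟩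
  -- generators
  have hsurj := pi_surjective f π hf hlift
  obtain ⟨t, s, hs⟩ := Module.Finite.exists_fin (R := A) (M := M 0)
  let x : Fin t → L := fun i => Function.surjInv (hsurj 0) (s i)
  have hx : ∀ i, π 0 (x i) = s i := fun i => Function.surjInv_eq (hsurj 0) (s i)
  have hgen0 : span A (Set.range fun i => π 0 (x i)) = ⊤ := by
    have : (fun i => π 0 (x i)) = s := funext hx
    rw [this, hs]
  have hgen := span_pi_eq_top I f π hπ hk hker x hgen0
  -- compatible sections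
  have hbase : ∃ σ0 : M 0 →ₗ[A] FF I t 0, phi I π x hk 0 ∘ₗ σ0 = LinearMap.id := by
    obtain ⟨m, i, r, hri⟩ := hproj 0
    obtain ⟨σ', -, h2⟩ := exists_section_step (J := I ^ (0 + 1)) i r hri (X := FF I t 0)
      (FF_killed I t 0) (phi I π x hk 0) (M := PUnit.{v + 1}) (0 : M 0 →ₗ[A] PUnit.{v + 1})
      (X₀ := PUnit.{v + 1}) (0 : FF I t 0 →ₗ[A] PUnit.{v + 1}) (fun _ => ⟨0, Subsingleton.elim _ _⟩)
      (0 : PUnit.{v + 1} →ₗ[A] PUnit.{v + 1}) (0 : PUnit.{v + 1} →ₗ[A] PUnit.{v + 1})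
      (LinearMap.ext fun _ => Subsingleton.elim _ _) (LinearMap.ext fun _ => Subsingleton.elim _ _)
      (fun z _ => by
        obtain ⟨d, hd⟩ := phi_surjective I π x hk hgen 0 z
        exact ⟨d, Subsingleton.elim _ _, hd⟩)
    exact ⟨σ', h2⟩
  have hstep : ∀ n (σ : {σ : M n →ₗ[A] FF I t n // phi I π x hk n ∘ₗ σ = LinearMap.id}),
      ∃ σ' : {σ' : M (n + 1) →ₗ[A] FF I t (n + 1) // phi I π x hk (n + 1) ∘ₗ σ' = LinearMap.id},
        tau I t n ∘ₗ σ'.1 = σ.1 ∘ₗ f n := by
    rintro n ⟨σ, hσ⟩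
    obtain ⟨m, i, r, hri⟩ := hproj (n + 1)
    obtain ⟨σ', h1, h2⟩ := exists_section_step (J := I ^ (n + 1 + 1)) i r hri
      (X := FF I t (n + 1)) (FF_killed I t (n + 1)) (phi I π x hk (n + 1)) (f n)
      (tau I t n) (tau_surjective I t n) (phi I π x hk n) σ hσ (phi_comm I f π x hk hπ n)
      (phi_kernel_lift I f π x hk hker hgen n)
    exact ⟨⟨σ', h2⟩, h1⟩
  let seq : ∀ n, {σ : M n →ₗ[A] FF I t n // phi I π x hk n ∘ₗ σ = LinearMap.id} := fun n =>
    Nat.rec (motive := fun n => {σ : M n →ₗ[A] FF I t n // phi I π x hk n ∘ₗ σ = LinearMap.id})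
      ⟨Classical.choose hbase, Classical.choose_spec hbase⟩
      (fun n σ => Classical.choose (hstep n σ)) n
  have hseq : ∀ n, tau I t n ∘ₗ (seq (n + 1)).1 = (seq n).1 ∘ₗ f n := fun n =>
    Classical.choose_spec (hstep n (seq n))
  -- the coordinate functionals
  have ha : StrictMono (fun n : ℕ => n + 1) := fun a b hab => Nat.succ_lt_succ hab
  let g : Fin t → ∀ n : ℕ, L →ₗ[A] A ⧸ (I ^ (n + 1) • ⊤ : Submodule A A) := fun j n =>
    LinearMap.proj j ∘ₗ (seq n).1 ∘ₗ π n
  have hg : ∀ j, ∀ {m : ℕ}, Submodule.factorPow I A (ha.monotone m.le_succ) ∘ₗ g j (m + 1) = g j m := by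
    intro j m
    apply LinearMap.ext
    intro y
    have h1 := LinearMap.congr_fun (hseq m) (π (m + 1) y)
    have h2 := LinearMap.congr_fun (hπ m) y
    rw [LinearMap.comp_apply] at h2
    rw [LinearMap.comp_apply, LinearMap.comp_apply, h2] at h1
    have h3 := congrFun h1 j
    exact h3
  let lam : Fin t → (L →ₗ[A] A) := fun j => IsAdicComplete.StrictMono.lift I ha (g j) (hg j)
  have hlam : ∀ j n (y : L), (Submodule.Quotient.mk (lam j y) : A ⧸ (I ^ (n + 1) • ⊤ : Submodule A A)) =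
      (seq n).1 (π n y) j := by
    intro j n y
    exact IsAdicComplete.StrictMono.mk_lift I ha (g j) (hg j) (n := n) y
  let iL : L →ₗ[A] (Fin t → A) := LinearMap.pi lam
  let Φ : (Fin t → A) →ₗ[A] L := Fintype.linearCombination A x
  have hsplit : Φ ∘ₗ iL = LinearMap.id := by
    apply LinearMap.ext
    intro y
    rw [LinearMap.comp_apply, LinearMap.id_apply, ← sub_eq_zero]
    apply hinj
    intro n
    rw [map_sub, sub_eq_zero]
    have h1 : π n (Φ (iL y)) = ∑ j, lam j y • π n (x j) := by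
      simp only [Φ, iL, Fintype.linearCombination_apply, LinearMap.pi_apply, map_sum, map_smul]
    rw [h1, ← phi_mk I π x hk n (fun j => lam j y)]
    have h2 : (fun j => (Submodule.Quotient.mk (lam j y) : A ⧸ (I ^ (n + 1) • ⊤ : Submodule A A))) =
        (seq n).1 (π n y) := funext fun j => hlam j n y
    rw [h2]
    exact LinearMap.congr_fun (seq n).2 (π n y)
  exact Module.Projective.of_split iL Φ hsplit

end final

end Groth.Agent.Lib.Helper40.AdicLim
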