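import Mathlib
import Groth.Prelude.Def_AlgSp
import Groth.Agent.Lib.Helper40.AlgSpLocal

/-!
# The diagonal of a sheaf with an atlas (`AlgSp`)

`repWith_diag_of_atlas`: if `p : h_A ⟶ X` is a surjection of sheaves, `h_R = h_A ×_X h_A` and
`R ⟶ A × A` has an fppf-local property `P`, then the diagonal of `X` has `P`.
-/

universe u
open CategoryTheory CategoryTheory.Limits AlgebraicGeometry Opposite

namespace Groth.Agent.Lib.Helper40.AlgSpDiag

section general

variable {D : Type*} [Category D] [HasBinaryProducts D]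

/-- The "magic square": if `R = A ×_X A` and `A2 = A × A`, then `R = X ×_{X × X} A2`. -/
theorem isPullback_diag_of_isPullback {R A A2 X : D} {t s : R ⟶ A} {p : A ⟶ X}
    (sq : IsPullback t s p p) (π₁ π₂ : A2 ⟶ A)
    (hext : ∀ ⦃Z : D⦄ (f g : Z ⟶ A2), f ≫ π₁ = g ≫ π₁ → f ≫ π₂ = g ≫ π₂ → f = g)
    (ts : R ⟶ A2) (h1 : ts ≫ π₁ = t) (h2 : ts ≫ π₂ = s) :
    IsPullback (t ≫ p) ts (Limits.diag X) (prod.lift (π₁ ≫ p) (π₂ ≫ p)) := by
  have d1 : Limits.diag X ≫ prod.fst = 𝟙 X := prod.lift_fst _ _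
  have d2 : Limits.diag X ≫ prod.snd = 𝟙 X := prod.lift_snd _ _
  have l1 : prod.lift (π₁ ≫ p) (π₂ ≫ p) ≫ prod.fst = π₁ ≫ p := prod.lift_fst _ _
  have l2 : prod.lift (π₁ ≫ p) (π₂ ≫ p) ≫ prod.snd = π₂ ≫ p := prod.lift_snd _ _
  have hw : (t ≫ p) ≫ Limits.diag X = ts ≫ prod.lift (π₁ ≫ p) (π₂ ≫ p) := by
    apply Limits.prod.hom_ext
    · rw [Category.assoc, d1, Category.comp_id, Category.assoc, l1, ← Category.assoc, h1]
    · rw [Category.assoc, d2, Category.comp_id, Category.assoc, l2, ← Category.assoc, h2, sq.w]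
  have hproj : ∀ (Z : D) (u : Z ⟶ X) (v : Z ⟶ A2),
      u ≫ Limits.diag X = v ≫ prod.lift (π₁ ≫ p) (π₂ ≫ p) →
      u = (v ≫ π₁) ≫ p ∧ u = (v ≫ π₂) ≫ p := by
    intro Z u v h
    constructor
    · have := congrArg (· ≫ prod.fst) h
      simp only [Category.assoc] at this
      rw [d1, l1, Category.comp_id] at this
      rw [Category.assoc]; exact this
    · have := congrArg (· ≫ prod.snd) h
      simp only [Category.assoc] at this
      rw [d2, l2, Category.comp_id] at this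
      rw [Category.assoc]; exact this
  refine ⟨⟨hw⟩, ⟨PullbackCone.IsLimit.mk hw
    (fun c => sq.lift (c.snd ≫ π₁) (c.snd ≫ π₂)
      ((hproj _ c.fst c.snd c.condition).1.symm.trans (hproj _ c.fst c.snd c.condition).2))
    ?_ ?_ ?_⟩⟩
  · intro c
    rw [← Category.assoc, sq.lift_fst]
    exact (hproj _ c.fst c.snd c.condition).1.symm
  · intro c
    apply hext
    · rw [Category.assoc, h1, sq.lift_fst]
    · rw [Category.assoc, h2, sq.lift_snd]
  · intro c m hm1 hm2
    apply sq.hom_ext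
    · rw [sq.lift_fst, ← hm2, Category.assoc, h1]
    · rw [sq.lift_snd, ← hm2, Category.assoc, h2]

end general

open AlgSp Groth.Agent.Lib.Helper40.AlgSpBasic

variable {S : Scheme.{u}}

/-- Maps into `h_{A × B}` are determined by their two components. -/
theorem yon_prod_hom_ext {A B : Over S} ⦃Z : Sp S⦄ (f g : Z ⟶ (yon S).obj (A ⨯ B))
    (h1 : f ≫ (yon S).map prod.fst = g ≫ (yon S).map prod.fst)
    (h2 : f ≫ (yon S).map prod.snd = g ≫ (yon S).map prod.snd) : f = g := by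
  have hl : IsLimit (BinaryFan.mk ((yon S).map (prod.fst : A ⨯ B ⟶ A))
      ((yon S).map (prod.snd : A ⨯ B ⟶ B))) :=
    isLimitOfHasBinaryProductOfPreservesLimit (yon S) A B
  exact BinaryFan.IsLimit.hom_ext hl h1 h2

/-- If `p : h_A ⟶ X` is a surjection of sheaves, `R` represents `h_A ×_X h_A`, and
`R ⟶ A × A` has the fppf-local property `P`, then the diagonal of `X` (assumed representable)
has `P`. -/
theorem repWith_diag_of_atlas (P : MorphismProperty Scheme.{u}) [P.IsStableUnderBaseChange]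
    [P.IsLocalAtTarget Scheme.fppfPrecoverage] {X : Sp S}
    (hdiag : Representable (Limits.diag X)) {A R : Over S} (p : (yon S).obj A ⟶ X)
    [hls : Sheaf.IsLocallySurjective p] (t s : R ⟶ A)
    (sq : IsPullback ((yon S).map t) ((yon S).map s) p p)
    (hP : P (prod.lift t s).left) : RepWith P (Limits.diag X) := by
  have lt1 : prod.lift t s ≫ prod.fst = t := prod.lift_fst _ _
  have lt2 : prod.lift t s ≫ prod.snd = s := prod.lift_snd _ _
  have magic := isPullback_diag_of_isPullback sq ((yon S).map (prod.fst : A ⨯ A ⟶ A))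
    ((yon S).map (prod.snd : A ⨯ A ⟶ A)) (fun Z f g => yon_prod_hom_ext f g)
    ((yon S).map (prod.lift t s)) (by rw [← Functor.map_comp, lt1])
    (by rw [← Functor.map_comp, lt2])
  apply repWith_of_locally _ hdiag P
  intro U g₀
  let s₁ := (AlgSp.J S).uliftYonedaEquiv (g₀ ≫ prod.fst)
  let s₂ := (AlgSp.J S).uliftYonedaEquiv (g₀ ≫ prod.snd)
  refine ⟨Presheaf.imageSieve p.hom s₁ ⊓ Presheaf.imageSieve p.hom s₂,
    (AlgSp.J S).intersection_covering (Presheaf.imageSieve_mem (AlgSp.J S) p.hom s₁)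
      (Presheaf.imageSieve_mem (AlgSp.J S) p.hom s₂), ?_⟩
  intro U' gU hgU
  obtain ⟨⟨t₁, ht₁⟩, ⟨t₂, ht₂⟩⟩ := hgU
  let τ₁ : (AlgSp.yon S).obj U' ⟶ (yon S).obj A := (AlgSp.J S).uliftYonedaEquiv.symm t₁
  let τ₂ : (AlgSp.yon S).obj U' ⟶ (yon S).obj A := (AlgSp.J S).uliftYonedaEquiv.symm t₂
  have hτ₁ : τ₁ ≫ p = (AlgSp.yon S).map gU ≫ g₀ ≫ prod.fst := by
    apply (AlgSp.J S).uliftYonedaEquiv.injective
    rw [GrothendieckTopology.uliftYonedaEquiv_comp, Equiv.apply_symm_apply,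
      ← GrothendieckTopology.uliftYonedaEquiv_naturality]
    exact ht₁
  have hτ₂ : τ₂ ≫ p = (AlgSp.yon S).map gU ≫ g₀ ≫ prod.snd := by
    apply (AlgSp.J S).uliftYonedaEquiv.injective
    rw [GrothendieckTopology.uliftYonedaEquiv_comp, Equiv.apply_symm_apply,
      ← GrothendieckTopology.uliftYonedaEquiv_naturality]
    exact ht₂
  let a₁ : U' ⟶ A := (yon S).preimage τ₁
  let a₂ : U' ⟶ A := (yon S).preimage τ₂
  have ha₁ : (yon S).map a₁ = τ₁ := Functor.map_preimage _ _
  have ha₂ : (yon S).map a₂ = τ₂ := Functor.map_preimage _ _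
  have la1 : prod.lift a₁ a₂ ≫ prod.fst = a₁ := prod.lift_fst _ _
  have la2 : prod.lift a₁ a₂ ≫ prod.snd = a₂ := prod.lift_snd _ _
  -- the bottom map
  have hbot : (yon S).map gU ≫ g₀ = (yon S).map (prod.lift a₁ a₂) ≫
      prod.lift ((yon S).map (prod.fst : A ⨯ A ⟶ A) ≫ p)
        ((yon S).map (prod.snd : A ⨯ A ⟶ A) ≫ p) := by
    have e1 : (yon S).map (prod.lift a₁ a₂) ≫ (yon S).map prod.fst = τ₁ := by
      rw [← Functor.map_comp, la1, ha₁]
    have e2 : (yon S).map (prod.lift a₁ a₂) ≫ (yon S).map prod.snd = τ₂ := by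
      rw [← Functor.map_comp, la2, ha₂]
    apply Limits.prod.hom_ext
    · rw [Category.assoc, ← hτ₁, Category.assoc, prod.lift_fst, ← Category.assoc, e1]
    · rw [Category.assoc, ← hτ₂, Category.assoc, prod.lift_snd, ← Category.assoc, e2]
  -- the scheme-level pullback
  have hpb : IsPullback (pullback.fst (prod.lift t s) (prod.lift a₁ a₂))
      (pullback.snd (prod.lift t s) (prod.lift a₁ a₂)) (prod.lift t s) (prod.lift a₁ a₂) :=
    IsPullback.of_hasPullback _ _
  have hpbY := hpb.map (yon S)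
  refine ⟨pullback (prod.lift t s) (prod.lift a₁ a₂),
    (yon S).map (pullback.fst (prod.lift t s) (prod.lift a₁ a₂)) ≫ ((yon S).map t ≫ p),
    pullback.snd (prod.lift t s) (prod.lift a₁ a₂), ?_, ?_⟩
  · rw [hbot]
    exact hpbY.paste_horiz magic
  · exact MorphismProperty.of_isPullback (P := P.inverseImage (Over.forget S)) hpb hP

end Groth.Agent.Lib.Helper40.AlgSpDiag
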