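import Mathlib
import Groth.Prelude.Def_AlgSpRep

/-!
# Presheaf-level representable maps (`AlgSp.pyon`): points of a represented pullback
-/

universe u
open CategoryTheory CategoryTheory.Limits AlgebraicGeometry Opposite

namespace Groth.Agent.Lib.Helper40.AlgSpPre

open AlgSp

variable {S : Scheme.{u}} {F G : PSp S} {a : F ⟶ G} {U V : Over S}
  {g₀ : (pyon S).obj U ⟶ G} {fst : (pyon S).obj V ⟶ F} {snd : V ⟶ U}

theorem compat_of_app_eq {T : Over S} (f : T ⟶ U) (e : F.obj (op T))
    (he : a.app (op T) e = G.map f.op (uliftYonedaEquiv g₀)) :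
    uliftYonedaEquiv.symm e ≫ a = (pyon S).map f ≫ g₀ := by
  apply uliftYonedaEquiv.injective
  rw [uliftYonedaEquiv_comp, Equiv.apply_symm_apply, he]
  exact uliftYonedaEquiv_naturality g₀ f.op

/-- The point of `V` determined by `f : T ⟶ U` and a section `e` of `F` over `T` lying over it. -/
noncomputable def liftPt (sq : IsPullback fst ((pyon S).map snd) a g₀) {T : Over S} (f : T ⟶ U)
    (e : F.obj (op T)) (he : a.app (op T) e = G.map f.op (uliftYonedaEquiv g₀)) : T ⟶ V :=
  (pyon S).preimage (sq.lift (uliftYonedaEquiv.symm e) ((pyon S).map f) (compat_of_app_eq f e he))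

theorem liftPt_snd (sq : IsPullback fst ((pyon S).map snd) a g₀) {T : Over S} (f : T ⟶ U)
    (e : F.obj (op T)) (he : a.app (op T) e = G.map f.op (uliftYonedaEquiv g₀)) :
    liftPt sq f e he ≫ snd = f := by
  apply (pyon S).map_injective
  rw [Functor.map_comp, liftPt, Functor.map_preimage, sq.lift_snd]

theorem liftPt_fst (sq : IsPullback fst ((pyon S).map snd) a g₀) {T : Over S} (f : T ⟶ U)
    (e : F.obj (op T)) (he : a.app (op T) e = G.map f.op (uliftYonedaEquiv g₀)) :
    uliftYonedaEquiv ((pyon S).map (liftPt sq f e he) ≫ fst) = e := by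
  rw [liftPt, Functor.map_preimage, sq.lift_fst, Equiv.apply_symm_apply]

theorem pt_ext (sq : IsPullback fst ((pyon S).map snd) a g₀) {T : Over S} (σ σ' : T ⟶ V)
    (h1 : σ ≫ snd = σ' ≫ snd)
    (h2 : uliftYonedaEquiv ((pyon S).map σ ≫ fst) = uliftYonedaEquiv ((pyon S).map σ' ≫ fst)) :
    σ = σ' := by
  apply (pyon S).map_injective
  apply sq.hom_ext
  · exact uliftYonedaEquiv.injective h2
  · rw [← Functor.map_comp, ← Functor.map_comp, h1]

/-- the section of `F` over `T` attached to a point `σ : T ⟶ V`. -/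
theorem sec_map (fst : (pyon S).obj V ⟶ F) {T T' : Over S} (h : T' ⟶ T) (σ : T ⟶ V) :
    F.map h.op (uliftYonedaEquiv ((pyon S).map σ ≫ fst)) =
      uliftYonedaEquiv ((pyon S).map (h ≫ σ) ≫ fst) := by
  rw [uliftYonedaEquiv_naturality, Functor.map_comp, Category.assoc]
  rfl

theorem app_sec (sq : IsPullback fst ((pyon S).map snd) a g₀) {T : Over S} (σ : T ⟶ V) :
    a.app (op T) (uliftYonedaEquiv ((pyon S).map σ ≫ fst)) =
      G.map (σ ≫ snd).op (uliftYonedaEquiv g₀) := by
  rw [← uliftYonedaEquiv_comp, Category.assoc, sq.w, ← Category.assoc, ← Functor.map_comp,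
    uliftYonedaEquiv_naturality]
  rfl

end Groth.Agent.Lib.Helper40.AlgSpPre
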