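import Mathlib
import Groth.Agent.Lib.Helper1.FpqcDescent

/-!
# Generalized fpqc coverings (a single morphism refined by a flat, surjective, "quasi-compact" map)

`IsQCov q`: `q` is flat, surjective and every affine open of the target is the image of a
quasi-compact open of the source (this is the condition for `{q}` to be an fpqc covering in the
sense of Mathlib's `Scheme.fpqcPrecoverage`).

`IsCov p`: some `IsQCov` morphism factors through `p` (the hypothesis "covering for the fpqc
topology" of SGA3 VI_B).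

Main results: `IsCov.effectiveEpi`, base change (`IsCov.of_isPullback`), and descent of
Zariski-local properties that satisfy fpqc descent (`IsCov.descends`).
-/

set_option autoImplicit false

universe u
open CategoryTheory CategoryTheory.Limits AlgebraicGeometry MorphismProperty

namespace Groth.Agent.Lib.Helper40.FpqcCov

/-- `q` is flat, surjective, and every affine open of the target is the image of a quasi-compact
open of the source. -/
structure IsQCov {Z Y : Scheme.{u}} (q : Z ⟶ Y) : Prop where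
  surj : Surjective q
  flat : Flat q
  qc : ∀ V : Y.Opens, IsAffineOpen V →
    ∃ W : Z.Opens, IsCompact (W : Set Z) ∧ q.base '' (W : Set Z) = (V : Set Y)

/-- `p` is covering for the fpqc topology: an `IsQCov` morphism factors through it. -/
def IsCov {X Y : Scheme.{u}} (p : X ⟶ Y) : Prop :=
  ∃ (Z : Scheme.{u}) (q : Z ⟶ Y) (r : Z ⟶ X), r ≫ p = q ∧ Surjective q ∧ Flat q ∧
    ∀ V : Y.Opens, IsAffineOpen V →
      ∃ W : Z.Opens, IsCompact (W : Set Z) ∧ q.base '' (W : Set Z) = (V : Set Y)

theorem IsCov.exists_isQCov {X Y : Scheme.{u}} {p : X ⟶ Y} (h : IsCov p) :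
    ∃ (Z : Scheme.{u}) (q : Z ⟶ Y) (r : Z ⟶ X), r ≫ p = q ∧ IsQCov q := by
  obtain ⟨Z, q, r, h1, h2, h3, h4⟩ := h
  exact ⟨Z, q, r, h1, ⟨h2, h3, h4⟩⟩

theorem IsQCov.isCov {Z Y : Scheme.{u}} {q : Z ⟶ Y} (h : IsQCov q) : IsCov q :=
  ⟨Z, q, 𝟙 Z, Category.id_comp _, h.surj, h.flat, h.qc⟩

theorem IsCov.of_comp_eq {X Y Z : Scheme.{u}} {p : X ⟶ Y} {q : Z ⟶ Y} (r : Z ⟶ X)
    (hr : r ≫ p = q) (hq : IsCov q) : IsCov p := by
  obtain ⟨Z', q', r', h1, h2⟩ := hq
  exact ⟨Z', q', r' ≫ r, by rw [Category.assoc, hr, h1], h2⟩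

theorem IsCov.surjective {X Y : Scheme.{u}} {p : X ⟶ Y} (h : IsCov p) : Surjective p := by
  obtain ⟨Z, q, r, h1, h2, -⟩ := h
  subst h1
  exact Surjective.of_comp r p

theorem IsQCov.quasiCompactCover {Z Y : Scheme.{u}} {q : Z ⟶ Y} (h : IsQCov q) :
    QuasiCompactCover (PreZeroHypercover.singleton.{u} q) := by
  refine ⟨fun {U} hU => ?_⟩
  rw [IsCompactOpenCovered.iff_of_unique]
  obtain ⟨W, hW, hWU⟩ := h.qc U hU
  exact ⟨W, hW, hWU⟩

theorem IsQCov.of_quasiCompactCover {Z Y : Scheme.{u}} {q : Z ⟶ Y} [Surjective q] [Flat q]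
    (h : QuasiCompactCover (PreZeroHypercover.singleton.{u} q)) : IsQCov q := by
  refine ⟨inferInstance, inferInstance, fun V hV => ?_⟩
  have := h.isCompactOpenCovered_of_isAffineOpen hV
  rw [IsCompactOpenCovered.iff_of_unique] at this
  obtain ⟨W, hW, hWU⟩ := this
  exact ⟨W, hW, hWU⟩

/-- An fpqc morphism (flat, surjective, quasi-compact) is an `IsQCov`. -/
theorem IsQCov.of_quasiCompact {Z Y : Scheme.{u}} (q : Z ⟶ Y) [Surjective q] [Flat q]
    [QuasiCompact q] : IsQCov q :=
  IsQCov.of_quasiCompactCover inferInstance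

set_option backward.isDefEq.respectTransparency.types false in
theorem IsQCov.singleton_mem_fpqcPrecoverage {Z Y : Scheme.{u}} {q : Z ⟶ Y} (h : IsQCov q) :
    Presieve.singleton q ∈ Scheme.fpqcPrecoverage Y := by
  have h1 := h.quasiCompactCover
  have h2 := h.flat
  have h3 := h.surj
  rw [Scheme.fpqcPrecoverage]
  refine ⟨?_, ?_⟩
  · rw [← PreZeroHypercover.presieve₀_singleton.{u}, Scheme.presieve₀_mem_qcPrecoverage_iff]
    exact h1
  · exact (Scheme.singleton_mem_precoverage_iff (P := @Flat) q).mpr ⟨q.surjective, h2⟩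

theorem IsCov.generate_mem {X Y : Scheme.{u}} {p : X ⟶ Y} (h : IsCov p) :
    Sieve.generate (Presieve.singleton p) ∈ Scheme.fpqcTopology Y := by
  obtain ⟨Z, q, r, h1, hq⟩ := h.exists_isQCov
  have := Precoverage.generate_mem_toGrothendieck hq.singleton_mem_fpqcPrecoverage
  refine GrothendieckTopology.superset_covering _ ?_ this
  rw [Sieve.generate_le_iff]
  rintro _ _ ⟨⟩
  exact ⟨X, r, p, ⟨⟩, h1⟩

theorem IsCov.effectiveEpi {X Y : Scheme.{u}} {p : X ⟶ Y} (h : IsCov p) : EffectiveEpi p := by
  rw [← Sieve.effectiveEpimorphic_singleton,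
    Presieve.EffectiveEpimorphic.iff_forall_isSheafFor_yoneda]
  intro Z
  exact (GrothendieckTopology.Subcanonical.isSheaf_of_isRepresentable _).isSheafFor _
    h.generate_mem

theorem IsCov.epi {X Y : Scheme.{u}} {p : X ⟶ Y} (h : IsCov p) : Epi p := by
  have := h.effectiveEpi
  infer_instance

/-- Base change of an `IsQCov` morphism (canonical pullback). -/
theorem IsQCov.pullback_fst {Z Y T : Scheme.{u}} {q : Z ⟶ Y} (h : IsQCov q) (b : T ⟶ Y) :
    IsQCov (pullback.fst b q) := by
  have := h.surj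
  have := h.flat
  have h1 := h.quasiCompactCover
  have h2 : QuasiCompactCover ((PreZeroHypercover.singleton.{u} q).pullback₁ b) := inferInstance
  refine ⟨inferInstance, inferInstance, fun V hV => ?_⟩
  have h3 := h2.isCompactOpenCovered_of_isAffineOpen hV
  have : Unique ((PreZeroHypercover.singleton.{u} q).pullback₁ b).I₀ :=
    inferInstanceAs <| Unique PUnit
  rw [IsCompactOpenCovered.iff_of_unique] at h3
  obtain ⟨W, hW, hWU⟩ := h3
  exact ⟨W, hW, hWU⟩

/-- Base change of an `IsCov` morphism along any pullback square. -/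
theorem IsCov.of_isPullback {X Y T X' : Scheme.{u}} {p : X ⟶ Y} (h : IsCov p) {b : T ⟶ Y}
    {p' : X' ⟶ T} {a : X' ⟶ X} (sq : IsPullback p' a b p) : IsCov p' := by
  obtain ⟨Z, q, r, h1, hq⟩ := h.exists_isQCov
  have hq' := hq.pullback_fst b
  refine IsCov.of_comp_eq (sq.lift (pullback.fst b q) (pullback.snd b q ≫ r) ?_) ?_ hq'.isCov
  · rw [Category.assoc, h1, pullback.condition]
  · exact sq.lift_fst _ _ _


set_option backward.isDefEq.respectTransparency.types false in
/-- Properties that are Zariski-local on the target, stable under base change and satisfy fpqc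
descent descend along `IsQCov` morphisms. -/
theorem IsQCov.descends (P : MorphismProperty Scheme.{u}) [IsZariskiLocalAtTarget P]
    [P.IsStableUnderBaseChange] [P.DescendsAlong (@Surjective ⊓ @Flat ⊓ @QuasiCompact)]
    {Z Y M MZ : Scheme.{u}} {q : Z ⟶ Y} (hq : IsQCov q) {g : M ⟶ Y} {gZ : MZ ⟶ Z} {a : MZ ⟶ M}
    (sq : IsPullback gZ a q g) (h : P gZ) : P g := by
  rw [IsZariskiLocalAtTarget.iff_of_openCover (P := P) Y.affineCover]
  intro i
  let ι := Y.affineCover.f i
  have hV : IsAffineOpen ι.opensRange := isAffineOpen_opensRange ι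
  obtain ⟨W, hWc, hWV⟩ := hq.qc _ hV
  have hrange : Set.range (W.ι ≫ q).base ⊆ Set.range ι.base := by
    rintro _ ⟨w, rfl⟩
    have : q.base (W.ι.base w) ∈ q.base '' (W : Set Z) := ⟨W.ι.base w, w.2, rfl⟩
    rw [hWV] at this
    exact this
  let hh : (W : Scheme.{u}) ⟶ Y.affineCover.X i := IsOpenImmersion.lift ι (W.ι ≫ q) hrange
  have hfac : hh ≫ ι = W.ι ≫ q := IsOpenImmersion.lift_fac _ _ _
  have := hq.flat
  have hflat : Flat hh :=
    of_postcomp (W := @Flat) (W' := @IsOpenImmersion) hh ι (inferInstanceAs (IsOpenImmersion ι))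
      (by rw [hfac]; infer_instance)
  have hsurj : Surjective hh := by
    refine ⟨fun v => ?_⟩
    have hv : ι.base v ∈ (ι.opensRange : Set Y) := ⟨v, rfl⟩
    rw [← hWV] at hv
    obtain ⟨w, hw, hwv⟩ := hv
    obtain ⟨x, rfl⟩ : w ∈ Set.range W.ι := by
      rw [Scheme.Opens.range_ι]
      exact hw
    refine ⟨x, ?_⟩
    apply ι.isOpenEmbedding.injective
    rw [← Scheme.Hom.comp_apply, hfac, Scheme.Hom.comp_apply]
    exact hwv
  have hqc : QuasiCompact hh := by
    rw [quasiCompact_iff_compactSpace]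
    exact isCompact_iff_compactSpace.mp hWc
  show P (pullback.snd g ι)
  refine MorphismProperty.of_pullback_fst_of_descendsAlong (P := P)
    (Q := @Surjective ⊓ @Flat ⊓ @QuasiCompact) (f := hh) (g := pullback.snd g ι)
    ⟨⟨hsurj, hflat⟩, hqc⟩ ?_
  have big : IsPullback (pullback.snd hh (pullback.snd g ι) ≫ pullback.fst g ι)
      (pullback.fst hh (pullback.snd g ι)) g (W.ι ≫ q) := by
    rw [← hfac]
    exact (IsPullback.of_hasPullback hh (pullback.snd g ι)).flip.paste_horiz
      (IsPullback.of_hasPullback g ι)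
  let k : pullback hh (pullback.snd g ι) ⟶ MZ :=
    sq.lift (pullback.fst hh (pullback.snd g ι) ≫ W.ι)
      (pullback.snd hh (pullback.snd g ι) ≫ pullback.fst g ι)
      (by rw [Category.assoc, ← big.w])
  have hk1 : k ≫ gZ = pullback.fst hh (pullback.snd g ι) ≫ W.ι := sq.lift_fst _ _ _
  have hk2 : k ≫ a = pullback.snd hh (pullback.snd g ι) ≫ pullback.fst g ι := sq.lift_snd _ _ _
  have left : IsPullback k (pullback.fst hh (pullback.snd g ι)) gZ W.ι :=
    IsPullback.of_right (by rw [hk2]; exact big) hk1 sq.flip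
  exact P.of_isPullback left h

/-- Properties that are Zariski-local on the target, stable under base change and satisfy fpqc
descent descend along `IsCov` morphisms. -/
theorem IsCov.descends (P : MorphismProperty Scheme.{u}) [IsZariskiLocalAtTarget P]
    [P.IsStableUnderBaseChange] [P.DescendsAlong (@Surjective ⊓ @Flat ⊓ @QuasiCompact)]
    {X Y M M' : Scheme.{u}} {p : X ⟶ Y} (hp : IsCov p) {g : M ⟶ Y} {g' : M' ⟶ X} {a : M' ⟶ M}
    (sq : IsPullback g' a p g) (h : P g') : P g := by
  obtain ⟨Z, q, r, h1, hq⟩ := hp.exists_isQCov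
  subst h1
  -- base change of `g` along `q = r ≫ p`
  have sq2 : IsPullback (pullback.fst r g') (pullback.snd r g' ≫ a) (r ≫ p) g :=
    ((IsPullback.of_hasPullback r g').flip.paste_horiz sq.flip).flip
  exact hq.descends P sq2 (P.pullback_fst _ _ h)



set_option backward.isDefEq.respectTransparency.types false in
/-- An fppf morphism (flat, surjective, locally of finite presentation) is an `IsQCov`. -/
theorem IsQCov.of_fppf {Z Y : Scheme.{u}} (q : Z ⟶ Y) [Surjective q] [Flat q]
    [LocallyOfFinitePresentation q] : IsQCov q := by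
  have h1 : Presieve.singleton q ∈ Scheme.fpqcPrecoverage Y :=
    Scheme.fppfPrecoverage_le_fpqcPrecoverage _ q.singleton_mem_fppfPrecoverage
  rw [Scheme.fpqcPrecoverage] at h1
  have h2 := h1.1
  rw [← PreZeroHypercover.presieve₀_singleton.{u}, Scheme.presieve₀_mem_qcPrecoverage_iff] at h2
  exact IsQCov.of_quasiCompactCover h2

/-- Closed immersions satisfy fpqc descent (helper1's affine descent). -/
theorem descendsAlong_isClosedImmersion :
    MorphismProperty.DescendsAlong @IsClosedImmersion
      (@Surjective ⊓ @Flat ⊓ @QuasiCompact : MorphismProperty Scheme.{u}) :=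
  Groth.Agent.Lib.Helper1.descendsAlong_fpqc_of_affineAnd @IsClosedImmersion
    (fun f => Function.Surjective f) IsClosedImmersion.hasAffineProperty
    RingHom.surjective_respectsIso RingHom.FaithfullyFlat.codescendsAlong_surjective

/-- Closed immersions descend along generalized fpqc coverings. -/
theorem IsCov.isClosedImmersion_of_isPullback {X Y M M' : Scheme.{u}} {p : X ⟶ Y} (hp : IsCov p)
    {g : M ⟶ Y} {g' : M' ⟶ X} {a : M' ⟶ M} (sq : IsPullback g' a p g)
    (h : IsClosedImmersion g') : IsClosedImmersion g := by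
  have := descendsAlong_isClosedImmersion.{u}
  exact hp.descends @IsClosedImmersion sq h

end Groth.Agent.Lib.Helper40.FpqcCov
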