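import Mathlib
import Groth.Agent.Lib.Helper40.FpqcCov

/-!
# Generalized fpqc coverings in `Over S`: composition, products, descent of morphisms
-/

set_option autoImplicit false

universe u
open CategoryTheory CategoryTheory.Limits AlgebraicGeometry MorphismProperty
open MonoidalCategory CartesianMonoidalCategory

namespace Groth.Agent.Lib.Helper40.FpqcCov

section Cartesian

variable {C : Type*} [Category C] [CartesianMonoidalCategory C]

/-- `f ▷ Z` is the base change of `f` along the first projection. -/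
theorem isPullback_whiskerRight {X Y : C} (f : X ⟶ Y) (Z : C) :
    IsPullback (f ▷ Z) (fst X Z) (fst Y Z) f := by
  have w : (f ▷ Z) ≫ fst Y Z = fst X Z ≫ f := by simp
  refine ⟨⟨w⟩, ⟨PullbackCone.IsLimit.mk w (fun s => lift s.snd (s.fst ≫ snd Y Z)) ?_ ?_ ?_⟩⟩
  · intro s
    apply CartesianMonoidalCategory.hom_ext
    · simp [s.condition]
    · simp
  · intro s
    simp
  · intro s m h1 h2
    apply CartesianMonoidalCategory.hom_ext
    · simpa using h2
    · rw [← h1]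
      simp

/-- `Z ◁ f` is the base change of `f` along the second projection. -/
theorem isPullback_whiskerLeft (Z : C) {X Y : C} (f : X ⟶ Y) :
    IsPullback (Z ◁ f) (snd Z X) (snd Z Y) f := by
  have w : (Z ◁ f) ≫ snd Z Y = snd Z X ≫ f := by simp
  refine ⟨⟨w⟩, ⟨PullbackCone.IsLimit.mk w (fun s => lift (s.fst ≫ fst Z Y) s.snd) ?_ ?_ ?_⟩⟩
  · intro s
    apply CartesianMonoidalCategory.hom_ext
    · simp
    · simp [s.condition]
  · intro s
    simp
  · intro s m h1 h2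
    apply CartesianMonoidalCategory.hom_ext
    · rw [← h1]
      simp
    · simpa using h2

end Cartesian

/-- Composition of generalized fpqc coverings. -/
theorem IsQCov.comp {Z₁ Z₂ W : Scheme.{u}} {q₁ : Z₁ ⟶ Z₂} {q₂ : Z₂ ⟶ W} (h₁ : IsQCov q₁)
    (h₂ : IsQCov q₂) : IsQCov (q₁ ≫ q₂) := by
  have := h₁.surj
  have := h₁.flat
  have := h₂.surj
  have := h₂.flat
  refine ⟨inferInstance, inferInstance, fun V hV => ?_⟩
  obtain ⟨W₂, hW₂c, hW₂⟩ := h₂.qc V hV
  have hc := h₁.quasiCompactCover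
  have := QuasiCompactCover.isCompactOpenCovered_of_isCompact
    (PreZeroHypercover.singleton.{u} q₁) (U := W₂) hW₂c
  rw [IsCompactOpenCovered.iff_of_unique] at this
  obtain ⟨W₁, hW₁c, hW₁⟩ := this
  refine ⟨W₁, hW₁c, ?_⟩
  rw [← hW₂, ← hW₁]
  ext y
  simp only [Set.mem_image]
  constructor
  · rintro ⟨x, hx, rfl⟩
    exact ⟨q₁.base x, ⟨x, hx, rfl⟩, rfl⟩
  · rintro ⟨_, ⟨x, hx, rfl⟩, rfl⟩
    exact ⟨x, hx, rfl⟩

theorem IsCov.comp {X Y W : Scheme.{u}} {p₁ : X ⟶ Y} {p₂ : Y ⟶ W} (h₁ : IsCov p₁)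
    (h₂ : IsCov p₂) : IsCov (p₁ ≫ p₂) := by
  obtain ⟨Z₂, q₂, r₂, e₂, hq₂⟩ := h₂.exists_isQCov
  have h₁' : IsCov (pullback.fst r₂ p₁) := h₁.of_isPullback (IsPullback.of_hasPullback r₂ p₁)
  obtain ⟨Z₁, q₁, r₁, e₁, hq₁⟩ := h₁'.exists_isQCov
  refine IsCov.of_comp_eq (r₁ ≫ pullback.snd r₂ p₁) ?_ (hq₁.comp hq₂).isCov
  rw [Category.assoc, ← Category.assoc (pullback.snd r₂ p₁), ← pullback.condition,
    Category.assoc, e₂, ← Category.assoc, e₁]

section Over

variable {S : Scheme.{u}}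

theorem epi_of_isCov_left {T' T : Over S} {e : T' ⟶ T} (h : IsCov e.left) : Epi e := by
  have := h.epi
  exact (Over.forget S).epi_of_epi_map this

theorem isCov_left_of_isPullback {G G'' T X' : Over S} {p : G ⟶ G''} (hp : IsCov p.left)
    {b : T ⟶ G''} {p' : X' ⟶ T} {a : X' ⟶ G} (sq : IsPullback p' a b p) : IsCov p'.left :=
  hp.of_isPullback (sq.map (Over.forget _))

theorem isCov_left_comp {X Y W : Over S} {p₁ : X ⟶ Y} {p₂ : Y ⟶ W} (h₁ : IsCov p₁.left)
    (h₂ : IsCov p₂.left) : IsCov (p₁ ≫ p₂).left := by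
  rw [Over.comp_left]
  exact h₁.comp h₂

theorem isCov_whiskerRight {X Y : Over S} {f : X ⟶ Y} (hf : IsCov f.left) (Z : Over S) :
    IsCov (f ▷ Z).left :=
  isCov_left_of_isPullback hf (isPullback_whiskerRight f Z)

theorem isCov_whiskerLeft (Z : Over S) {X Y : Over S} {f : X ⟶ Y} (hf : IsCov f.left) :
    IsCov (Z ◁ f).left :=
  isCov_left_of_isPullback hf (isPullback_whiskerLeft Z f)

theorem isCov_tensorHom {X Y X' Y' : Over S} {f : X ⟶ Y} {g : X' ⟶ Y'} (hf : IsCov f.left)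
    (hg : IsCov g.left) : IsCov (f ⊗ₘ g).left := by
  rw [MonoidalCategory.tensorHom_def]
  exact isCov_left_comp (isCov_whiskerRight hf X') (isCov_whiskerLeft Y hg)

/-- Descent of morphisms of `Over S` along a generalized fpqc covering. -/
theorem exists_desc_over {T' T Y : Over S} {e : T' ⟶ T} (he : IsCov e.left) (f' : T' ⟶ Y)
    (hf' : ∀ (R : Over S) (a b : R ⟶ T'), a ≫ e = b ≫ e → a ≫ f' = b ≫ f') :
    ∃ f : T ⟶ Y, e ≫ f = f' := by
  have := he.effectiveEpi
  have hcompat : ∀ {Z : Scheme.{u}} (g₁ g₂ : Z ⟶ T'.left), g₁ ≫ e.left = g₂ ≫ e.left →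
      g₁ ≫ f'.left = g₂ ≫ f'.left := by
    intro Z g₁ g₂ h12
    have h2 : g₂ ≫ T'.hom = g₁ ≫ T'.hom := by
      rw [← CategoryTheory.Over.w e, ← Category.assoc, ← Category.assoc, h12]
    let R : Over S := Over.mk (g₁ ≫ T'.hom)
    let a : R ⟶ T' := Over.homMk g₁ rfl
    let b : R ⟶ T' := Over.homMk g₂ h2
    have hab : a ≫ e = b ≫ e := by
      ext
      exact h12
    have := congrArg (fun t => t.left) (hf' R a b hab)
    exact this
  have hepi : Epi e.left := inferInstance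
  refine ⟨Over.homMk (EffectiveEpi.desc e.left f'.left hcompat) ?_, ?_⟩
  · rw [← cancel_epi e.left, ← Category.assoc, EffectiveEpi.fac, CategoryTheory.Over.w,
      CategoryTheory.Over.w]
  · ext
    simp [EffectiveEpi.fac]

end Over

end Groth.Agent.Lib.Helper40.FpqcCov
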