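import Mathlib
import Groth.Prelude.Def_NonAbH2
import Groth.Agent.Lib.Helper40.FpqcCovOver

/-!
# Locally trivial morphisms are generalized fpqc coverings

If `X ⟶ Y` acquires sections over the members of an fpqc (or fppf) covering family of `Y`
(`NonAbH1.IsLocallyTrivialFor`), then it is an `FpqcCov.IsCov`; in particular it is an effective
epimorphism, morphisms descend along it (`exists_desc_over`), and the `IsCov` API applies.
-/

set_option autoImplicit false
universe u
open CategoryTheory CategoryTheory.Limits AlgebraicGeometry MorphismProperty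

namespace Groth.Agent.Lib.Helper40.FpqcCov

set_option backward.isDefEq.respectTransparency.types false in
theorem isCov_of_isLocallyTrivialFor_fpqc {Y : Scheme.{u}} (X : Over Y)
    (h : NonAbH1.IsLocallyTrivialFor Scheme.fpqcPrecoverage X) : IsCov X.hom := by
  obtain ⟨R, hR, hsec⟩ := h
  unfold Scheme.fpqcPrecoverage at hR
  rw [Scheme.mem_propQCPrecoverage_iff_exists_quasiCompactCover] at hR
  obtain ⟨𝒰, hqc, rfl⟩ := hR
  let 𝒱 : PreZeroHypercover.{u} Y := QuasiCompactCover.ulift 𝒰.toPreZeroHypercover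
  have h𝒱 : QuasiCompactCover 𝒱 := inferInstance
  have hmem : ∀ j : 𝒱.I₀, 𝒰.presieve₀ (𝒱.f j) := fun j => ⟨_⟩
  choose s hs using fun j => hsec (𝒱.f j) (hmem j)
  let q' : ∐ 𝒱.X ⟶ Y := Sigma.desc 𝒱.f
  let r : ∐ 𝒱.X ⟶ X.left := Sigma.desc s
  have hr : r ≫ X.hom = q' := Sigma.hom_ext _ _ (fun j => by simp [r, q', hs])
  have hflat : Flat q' :=
    IsZariskiLocalAtSource.sigmaDesc (P := @Flat) (fun j => 𝒰.map_prop _)
  have hqc' : QuasiCompactCover (PreZeroHypercover.singleton.{u} q') :=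
    .of_hom (𝒱 := 𝒱) ⟨fun _ => ⟨⟩, fun j => Sigma.ι 𝒱.X j, fun j => by
      show Sigma.ι 𝒱.X j ≫ Sigma.desc 𝒱.f = 𝒱.f j
      exact Sigma.ι_desc _ _⟩
  have hsurj : Surjective q' := by
    refine ⟨fun y => ?_⟩
    obtain ⟨V, hV, hy, -⟩ := TopologicalSpace.Opens.isBasis_iff_nbhd.mp Y.isBasis_affineOpens
      (TopologicalSpace.Opens.mem_top y)
    have := hqc'.isCompactOpenCovered_of_isAffineOpen hV
    rw [IsCompactOpenCovered.iff_of_unique] at this
    obtain ⟨W, -, hWU⟩ := this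
    have hy' : y ∈ (V : Set Y) := hy
    rw [← hWU] at hy'
    obtain ⟨z, -, hz⟩ := hy'
    exact ⟨z, hz⟩
  exact IsCov.of_comp_eq r hr (IsQCov.of_quasiCompactCover hqc').isCov

theorem isLocallyTrivialFor_fpqc_of_fppf {Y : Scheme.{u}} (X : Over Y)
    (h : NonAbH1.IsLocallyTrivialFor Scheme.fppfPrecoverage X) :
    NonAbH1.IsLocallyTrivialFor Scheme.fpqcPrecoverage X := by
  obtain ⟨R, hR, hsec⟩ := h
  exact ⟨R, Scheme.fppfPrecoverage_le_fpqcPrecoverage _ hR, hsec⟩

theorem isCov_of_isLocallyTrivialFor_fppf {Y : Scheme.{u}} (X : Over Y)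
    (h : NonAbH1.IsLocallyTrivialFor Scheme.fppfPrecoverage X) : IsCov X.hom :=
  isCov_of_isLocallyTrivialFor_fpqc X (isLocallyTrivialFor_fpqc_of_fppf X h)

end Groth.Agent.Lib.Helper40.FpqcCov
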