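import Mathlib
import Groth.Agent.Lib.Helper78.FpqcFamily
import Groth.Agent.Lib.Helper40.FlatDescentSrc

/-!
# fpqc-local on the target, for covering families

A property of morphisms of schemes which is stable under base change, Zariski-local on the target
and descends along flat surjective quasi-compact morphisms is local on the target for the fpqc
precoverage (covering FAMILIES, via quasi-compact covers).
-/

set_option autoImplicit false
universe u
open CategoryTheory CategoryTheory.Limits AlgebraicGeometry MorphismProperty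

namespace Groth.Agent.Lib.Helper40.FpqcLocal

/-- `pullback.snd h (a ≫ g)` is a base change of `pullback.snd h g`. -/
theorem pullback_snd_comp (P : MorphismProperty Scheme.{u}) [P.IsStableUnderBaseChange]
    {X Y U U' : Scheme.{u}} (h : X ⟶ Y) (g : U ⟶ Y) (a : U' ⟶ U)
    (H : P (pullback.snd h g)) : P (pullback.snd h (a ≫ g)) := by
  have sq1 := IsPullback.of_hasPullback h g
  have sq2 := IsPullback.of_hasPullback (pullback.snd h g) a
  have hpaste : IsPullback (pullback.fst (pullback.snd h g) a ≫ pullback.fst h g)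
      (pullback.snd (pullback.snd h g) a) h (a ≫ g) := sq2.paste_horiz sq1
  have h1 : P (pullback.snd (pullback.snd h g) a) := P.pullback_snd _ _ H
  have e : hpaste.isoPullback.hom ≫ pullback.snd h (a ≫ g) =
      pullback.snd (pullback.snd h g) a := hpaste.isoPullback_hom_snd
  have hri : P.RespectsIso := MorphismProperty.IsStableUnderBaseChange.respectsIso
  rw [← e] at h1
  exact (P.cancel_left_of_respectsIso _ _).mp h1

set_option backward.isDefEq.respectTransparency.types false in
/-- Descent of `P` along an fpqc covering family. -/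
theorem of_fpqc_cover (P : MorphismProperty Scheme.{u}) [P.IsStableUnderBaseChange]
    [IsZariskiLocalAtTarget P]
    [P.DescendsAlong (@Surjective ⊓ @Flat ⊓ @QuasiCompact : MorphismProperty Scheme.{u})]
    {X Y : Scheme.{u}} (h : X ⟶ Y) {R : Presieve Y} (hR : R ∈ Scheme.fpqcPrecoverage Y)
    (H : ∀ ⦃U : Scheme.{u}⦄ (g : U ⟶ Y), R g → P (pullback.snd h g)) : P h := by
  unfold Scheme.fpqcPrecoverage at hR
  rw [Scheme.mem_propQCPrecoverage_iff_exists_quasiCompactCover] at hR
  obtain ⟨𝒰, hqc, rfl⟩ := hR
  rw [IsZariskiLocalAtTarget.iff_of_iSup_eq_top (P := P) _ (iSup_affineOpens_eq_top Y)]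
  intro V₀
  obtain ⟨n, f, V, hV, hUnion⟩ :=
    QuasiCompactCover.exists_isAffineOpen_of_isCompact 𝒰.toPreZeroHypercover V₀.2.isCompact
  have hrange : ∀ j, Set.range ((V j).ι ≫ 𝒰.f (f j)).base ⊆ Set.range V₀.1.ι.base := by
    rintro j _ ⟨w, rfl⟩
    rw [Scheme.Opens.range_ι, ← hUnion]
    refine Set.mem_iUnion.mpr ⟨j, ?_⟩
    exact ⟨(V j).ι w, w.2, rfl⟩
  let c : ∀ j, (V j).toScheme ⟶ V₀.1.toScheme := fun j =>
    IsOpenImmersion.lift V₀.1.ι ((V j).ι ≫ 𝒰.f (f j)) (hrange j)
  have hc : ∀ j, c j ≫ V₀.1.ι = (V j).ι ≫ 𝒰.f (f j) := fun j => IsOpenImmersion.lift_fac _ _ _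
  have hfl : ∀ j, Flat (𝒰.f (f j)) := fun j => 𝒰.map_prop (f j)
  have hcfl : ∀ j, Flat (c j) := by
    intro j
    have := hfl j
    exact MorphismProperty.of_postcomp (W := @Flat) (W' := @IsOpenImmersion) (c j) V₀.1.ι
      inferInstance (by rw [hc j]; infer_instance)
  have hsurj : ∀ v : V₀.1.toScheme, ∃ j, v ∈ Set.range (c j) := by
    intro v
    have hv : v.1 ∈ (V₀.1 : Set Y) := v.2
    rw [← hUnion] at hv
    obtain ⟨j, hj⟩ := Set.mem_iUnion.mp hv
    obtain ⟨w, hw, hwv⟩ := hj
    refine ⟨j, ⟨w, hw⟩, ?_⟩
    apply V₀.1.ι.injective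
    rw [← Scheme.Hom.comp_apply, hc j]
    exact hwv
  refine Groth.Agent.Lib.Helper78.FpqcFamily.descent_finite_family_restrict P h V₀.1 V₀.2
    (fun j => (V j).toScheme) (fun j => hV j) c hcfl hsurj
    (fun j => pullback h (c j ≫ V₀.1.ι)) (fun j => pullback.fst _ _) (fun j => pullback.snd _ _)
    (fun j => IsPullback.of_hasPullback _ _) (fun j => ?_)
  rw [hc j]
  exact pullback_snd_comp P h (𝒰.f (f j)) (V j).ι (H _ ⟨f j⟩)

set_option backward.isDefEq.respectTransparency.types false in
/-- A property stable under base change, Zariski-local on the target and descending along fpqc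
morphisms is local on the target for the fpqc precoverage. -/
theorem isLocalAtTarget_fpqc (P : MorphismProperty Scheme.{u}) [P.IsStableUnderBaseChange]
    [IsZariskiLocalAtTarget P]
    [P.DescendsAlong (@Surjective ⊓ @Flat ⊓ @QuasiCompact : MorphismProperty Scheme.{u})] :
    P.IsLocalAtTarget Scheme.fpqcPrecoverage := by
  have hri : P.RespectsIso := MorphismProperty.IsStableUnderBaseChange.respectsIso
  refine { pullbackSnd := ?_, of_forall_pullbackSnd := ?_ }
  · intro X Y f R U g hR hg hf _
    exact P.pullback_snd _ _ hf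
  · intro X Y f R hR h
    exact of_fpqc_cover P f hR (fun U g hg => h hg)

/-- Flatness descends along flat surjective (quasi-compact) morphisms. -/
theorem flat_descendsAlong_fpqc :
    MorphismProperty.DescendsAlong (@Flat : MorphismProperty Scheme.{u})
      (@Surjective ⊓ @Flat ⊓ @QuasiCompact) where
  of_isPullback {A X Y Z fst snd f g} sq hf hfst := by
    have hf1 : Surjective f := hf.1.1
    have hf2 : Flat f := hf.1.2
    have h1 : Flat snd := MorphismProperty.of_isPullback sq hf2
    have h2 : Surjective snd := MorphismProperty.of_isPullback sq hf1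
    have h3 : Flat fst := hfst
    have h4 : Flat (snd ≫ g) := by
      rw [← sq.w]
      infer_instance
    exact FlatDescentSrc.flat_of_comp_of_flat_surjective snd g

/-- Quasi-compactness descends along surjective quasi-compact morphisms. -/
theorem quasiCompact_descendsAlong_fpqc :
    MorphismProperty.DescendsAlong (@QuasiCompact : MorphismProperty Scheme.{u})
      (@Surjective ⊓ @Flat ⊓ @QuasiCompact) where
  of_isPullback {A X Y Z fst snd f g} sq hf hfst := by
    have hf1 : Surjective f := hf.1.1
    have hf3 : QuasiCompact f := hf.2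
    have h2 : Surjective snd := MorphismProperty.of_isPullback sq hf1
    have h3 : QuasiCompact fst := hfst
    refine ⟨fun V hVo hVc => ?_⟩
    -- `g ⁻¹' V` is the image under `snd` of `(fst ≫ f) ⁻¹' V`, which is compact
    have hc1 : IsCompact (f ⁻¹' V) := hf3.isCompact_preimage V hVo hVc
    have hc2 : IsCompact (fst ⁻¹' (f ⁻¹' V)) :=
      h3.isCompact_preimage _ (hVo.preimage f.continuous) hc1
    have himg : g ⁻¹' V = snd '' (fst ⁻¹' (f ⁻¹' V)) := by
      ext y
      constructor
      · intro hy
        obtain ⟨z, rfl⟩ := h2.surj y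
        refine ⟨z, ?_, rfl⟩
        show f (fst z) ∈ V
        rw [← Scheme.Hom.comp_apply, sq.w, Scheme.Hom.comp_apply]
        exact hy
      · rintro ⟨z, hz, rfl⟩
        show g (snd z) ∈ V
        rw [← Scheme.Hom.comp_apply, ← sq.w, Scheme.Hom.comp_apply]
        exact hz
    rw [himg]
    exact hc2.image snd.continuous

end Groth.Agent.Lib.Helper40.FpqcLocal
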