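import Mathlib
import Groth.Prelude.Def_NonAbH2
import Groth.Agent.Lib.Helper40.ActPts
import Groth.Agent.Lib.Helper40.FpqcLocal
import Groth.Agent.S0082
import Groth.Agent.Lib.Helper1.FpqcDescent
import Groth.Agent.Lib.Helper40.FpqcCovOver

/-!
# Pseudo-torsors: division map, trivialisation over a section, descent of properties for torsors

* `divMap a hps : X ⊗ X ⟶ G`, `(x, y) ↦ g` with `g • y = x`, for a pseudo-torsor;
* `exists_iso_of_section`: a section `σ : T ⟶ X` trivialises `X ⊗ T ≅ G ⊗ T` over `T`;
* `property_hom_of_isTorsorFor_fpqc`: a property stable under base change, Zariski-local on the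
  target and descending along fpqc morphisms passes from `G ⟶ S` to any fpqc torsor `X ⟶ S`.
-/

set_option autoImplicit false
open CategoryTheory CategoryTheory.Limits AlgebraicGeometry MonoidalCategory
open CartesianMonoidalCategory MonObj
universe u

namespace Groth.Agent.Lib.Helper40.TorsorTriv

open Groth.Agent.Lib.Helper40.ActPts

variable {S : Scheme.{u}} {G X : Over S} [GrpObj G] (a : AlgGrp.Action G X)

/-- The inverse of `(g, x) ↦ (g • x, x)` for a pseudo-torsor. -/
noncomputable def thetaInv (hps : NonAbH1.IsPseudoTorsorSch a) : X ⊗ X ⟶ G ⊗ X :=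
  @inv _ _ _ _ (lift a.act (snd G X)) hps

theorem theta_thetaInv (hps : NonAbH1.IsPseudoTorsorSch a) :
    lift a.act (snd G X) ≫ thetaInv a hps = 𝟙 _ :=
  @IsIso.hom_inv_id _ _ _ _ (lift a.act (snd G X)) hps

theorem thetaInv_theta (hps : NonAbH1.IsPseudoTorsorSch a) :
    thetaInv a hps ≫ lift a.act (snd G X) = 𝟙 _ :=
  @IsIso.inv_hom_id _ _ _ _ (lift a.act (snd G X)) hps

/-- The division map `(x, y) ↦ g` with `g • y = x` of a pseudo-torsor. -/
noncomputable def divMap (hps : NonAbH1.IsPseudoTorsorSch a) : X ⊗ X ⟶ G :=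
  thetaInv a hps ≫ fst G X

theorem lift_comp_theta {T : Over S} (g : T ⟶ G) (y : T ⟶ X) :
    lift g y ≫ lift a.act (snd G X) = lift (smul a g y) y := by
  apply CartesianMonoidalCategory.hom_ext
  · simp [smul_def]
  · simp

theorem smul_divMap (hps : NonAbH1.IsPseudoTorsorSch a) {T : Over S} (x y : T ⟶ X) :
    smul a (lift x y ≫ divMap a hps) y = x := by
  set w : T ⟶ G ⊗ X := lift x y ≫ thetaInv a hps with hw
  have h1 : w ≫ lift a.act (snd G X) = lift x y := by
    rw [hw, Category.assoc, thetaInv_theta, Category.comp_id]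
  have hwd : w = lift (w ≫ fst G X) (w ≫ snd G X) := by
    apply CartesianMonoidalCategory.hom_ext <;> simp
  rw [hwd, lift_comp_theta] at h1
  have h2 : w ≫ snd G X = y := by
    have := congrArg (fun k => k ≫ snd X X) h1
    simpa using this
  have h3 : smul a (w ≫ fst G X) (w ≫ snd G X) = x := by
    have := congrArg (fun k => k ≫ fst X X) h1
    simpa using this
  rw [h2] at h3
  have h4 : lift x y ≫ divMap a hps = w ≫ fst G X := by
    unfold divMap
    rw [hw, Category.assoc]
  rw [h4, h3]

theorem divMap_smul (hps : NonAbH1.IsPseudoTorsorSch a) {T : Over S} (g : T ⟶ G) (y : T ⟶ X) :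
    lift (smul a g y) y ≫ divMap a hps = g := by
  unfold divMap
  rw [← lift_comp_theta, Category.assoc, ← Category.assoc (lift a.act (snd G X)),
    theta_thetaInv, Category.id_comp, lift_fst]

/-- A section of a pseudo-torsor over `T` trivialises it over `T`. -/
theorem exists_iso_of_section (hps : NonAbH1.IsPseudoTorsorSch a) {T : Over S} (σ : T ⟶ X) :
    ∃ φ : G ⊗ T ≅ X ⊗ T, φ.hom ≫ snd X T = snd G T := by
  let hom : G ⊗ T ⟶ X ⊗ T := lift (smul a (fst G T) (snd G T ≫ σ)) (snd G T)
  let inv' : X ⊗ T ⟶ G ⊗ T :=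
    lift (lift (fst X T) (snd X T ≫ σ) ≫ divMap a hps) (snd X T)
  have h1 : hom ≫ inv' = 𝟙 _ := by
    apply CartesianMonoidalCategory.hom_ext
    · simp only [hom, inv', Category.assoc, lift_fst, Category.id_comp]
      rw [← Category.assoc, comp_lift, lift_fst, ← Category.assoc, lift_snd]
      exact divMap_smul a hps _ _
    · simp [hom, inv']
  have h2 : inv' ≫ hom = 𝟙 _ := by
    apply CartesianMonoidalCategory.hom_ext
    · simp only [hom, inv', Category.assoc, lift_fst, Category.id_comp]
      rw [comp_smul, lift_fst, ← Category.assoc, lift_snd]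
      exact smul_divMap a hps _ _
    · simp [hom, inv']
  exact ⟨⟨hom, inv', h1, h2⟩, by simp [hom]⟩

/-- A property of morphisms which is stable under base change, Zariski-local on the target and
descends along fpqc morphisms passes from the structure morphism of `G` to that of any fpqc
`G`-torsor. -/
theorem property_hom_of_isTorsorFor_fpqc (P : MorphismProperty Scheme.{u})
    [P.IsStableUnderBaseChange] [IsZariskiLocalAtTarget P]
    [P.DescendsAlong (@Surjective ⊓ @Flat ⊓ @QuasiCompact : MorphismProperty Scheme.{u})]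
    (h : NonAbH1.IsTorsorFor Scheme.fpqcPrecoverage a) (hG : P G.hom) : P X.hom := by
  obtain ⟨hps, R, hR, hsec⟩ := h
  apply FpqcLocal.of_fpqc_cover P X.hom hR
  intro U g hg
  obtain ⟨σ, hσ⟩ := hsec g hg
  let T : Over S := Over.mk g
  let σ' : T ⟶ X := Over.homMk σ hσ
  obtain ⟨φ, hφ⟩ := exists_iso_of_section a hps σ'
  have hri : P.RespectsIso := MorphismProperty.IsStableUnderBaseChange.respectsIso
  have h1 : P (snd G T).left := by
    rw [Over.snd_left]
    exact P.pullback_snd _ _ hG
  have h2 : (snd X T).left = φ.inv.left ≫ (snd G T).left := by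
    rw [← Over.comp_left, ← hφ, Iso.inv_hom_id_assoc]
  have h3 : IsIso φ.inv.left := (inferInstance : IsIso ((Over.forget S).map φ.inv))
  show P (snd X T).left
  rw [h2]
  exact (P.cancel_left_of_respectsIso _ _).mpr h1

set_option backward.isDefEq.respectTransparency.types false in
theorem flat_hom_of_isTorsorFor_fpqc (h : NonAbH1.IsTorsorFor Scheme.fpqcPrecoverage a)
    [Flat G.hom] : Flat X.hom := by
  have ifl := FpqcLocal.flat_descendsAlong_fpqc.{u}
  exact property_hom_of_isTorsorFor_fpqc a @Flat h inferInstance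

set_option backward.isDefEq.respectTransparency.types false in
theorem quasiCompact_hom_of_isTorsorFor_fpqc (h : NonAbH1.IsTorsorFor Scheme.fpqcPrecoverage a)
    [QuasiCompact G.hom] : QuasiCompact X.hom := by
  have iqc := FpqcLocal.quasiCompact_descendsAlong_fpqc.{u}
  exact property_hom_of_isTorsorFor_fpqc a @QuasiCompact h inferInstance

theorem surjective_hom_of_grpObj : Surjective G.hom := by
  refine ⟨fun s => ⟨η[G].left s, ?_⟩⟩
  rw [← Scheme.Hom.comp_apply, Over.w]
  rfl

set_option backward.isDefEq.respectTransparency.types false in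
theorem surjective_hom_of_isTorsorFor_fpqc (h : NonAbH1.IsTorsorFor Scheme.fpqcPrecoverage a) :
    Surjective X.hom :=
  property_hom_of_isTorsorFor_fpqc a @Surjective h surjective_hom_of_grpObj

set_option backward.isDefEq.respectTransparency.types false in
theorem isAffineHom_hom_of_isTorsorFor_fpqc (h : NonAbH1.IsTorsorFor Scheme.fpqcPrecoverage a)
    [IsAffineHom G.hom] : IsAffineHom X.hom := by
  have i82 := Groth.Agent.S0082.result.{u}
  exact property_hom_of_isTorsorFor_fpqc a @IsAffineHom h inferInstance

set_option backward.isDefEq.respectTransparency.types false in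
theorem isFinite_descendsAlong_fpqc :
    MorphismProperty.DescendsAlong (@IsFinite : MorphismProperty Scheme.{u})
      (@Surjective ⊓ @Flat ⊓ @QuasiCompact) :=
  Groth.Agent.Lib.Helper1.descendsAlong_fpqc_of_affineAnd @IsFinite RingHom.Finite inferInstance
    RingHom.finite_respectsIso RingHom.Finite.codescendsAlong_faithfullyFlat

set_option backward.isDefEq.respectTransparency.types false in
theorem isFinite_hom_of_isTorsorFor_fpqc (h : NonAbH1.IsTorsorFor Scheme.fpqcPrecoverage a)
    [IsFinite G.hom] : IsFinite X.hom := by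
  have i := isFinite_descendsAlong_fpqc.{u}
  exact property_hom_of_isTorsorFor_fpqc a @IsFinite h inferInstance

set_option backward.isDefEq.respectTransparency.types false in
theorem locallyOfFiniteType_hom_of_isTorsorFor_fpqc
    (h : NonAbH1.IsTorsorFor Scheme.fpqcPrecoverage a) [LocallyOfFiniteType G.hom] :
    LocallyOfFiniteType X.hom :=
  property_hom_of_isTorsorFor_fpqc a @LocallyOfFiniteType h inferInstance

set_option backward.isDefEq.respectTransparency.types false in
theorem locallyOfFinitePresentation_hom_of_isTorsorFor_fpqc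
    (h : NonAbH1.IsTorsorFor Scheme.fpqcPrecoverage a) [LocallyOfFinitePresentation G.hom] :
    LocallyOfFinitePresentation X.hom :=
  property_hom_of_isTorsorFor_fpqc a @LocallyOfFinitePresentation h inferInstance

set_option backward.isDefEq.respectTransparency.types false in
theorem smooth_hom_of_isTorsorFor_fpqc (h : NonAbH1.IsTorsorFor Scheme.fpqcPrecoverage a)
    [Smooth G.hom] : Smooth X.hom :=
  property_hom_of_isTorsorFor_fpqc a @Smooth h inferInstance

set_option backward.isDefEq.respectTransparency.types false in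
theorem etale_hom_of_isTorsorFor_fpqc (h : NonAbH1.IsTorsorFor Scheme.fpqcPrecoverage a)
    [Etale G.hom] : Etale X.hom :=
  property_hom_of_isTorsorFor_fpqc a @Etale h inferInstance

section IsoDescent

set_option backward.isDefEq.respectTransparency.types false in
/-- A morphism of `S`-schemes which becomes an isomorphism after base change to every member of an
fpqc covering family of `S` is an isomorphism. -/
theorem isIso_of_fpqc_cover {A B : Over S} (φ : A ⟶ B) {R : Presieve S}
    (hR : R ∈ Scheme.fpqcPrecoverage S)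
    (H : ∀ ⦃S' : Scheme.{u}⦄ (g : S' ⟶ S), R g → IsIso (φ ▷ (Over.mk g))) : IsIso φ := by
  obtain ⟨E, rfl⟩ := Precoverage.mem_iff_exists_zeroHypercover.mp hR
  suffices h : IsIso φ.left by
    have : IsIso ((Over.forget S).map φ) := h
    exact isIso_of_reflects_iso φ (Over.forget S)
  have hcov := (E.pullback₁ B.hom).mem₀
  have key : (MorphismProperty.isomorphisms Scheme.{u}) φ.left := by
    apply FpqcLocal.of_fpqc_cover (MorphismProperty.isomorphisms Scheme.{u}) φ.left hcov
    rintro U g' ⟨i⟩
    let T : Over S := Over.mk (E.f i)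
    have hiso : IsIso (φ ▷ T) := H (E.f i) ⟨i⟩
    have hisol : IsIso (φ ▷ T).left := (inferInstance : IsIso ((Over.forget S).map (φ ▷ T)))
    have sq : IsPullback (φ ▷ T).left (fst A T).left (fst B T).left φ.left :=
      (FpqcCov.isPullback_whiskerRight φ T).map (Over.forget S)
    have e : sq.flip.isoPullback.hom ≫ pullback.snd φ.left (fst B T).left = (φ ▷ T).left :=
      sq.flip.isoPullback_hom_snd
    have e' : pullback.snd φ.left (fst B T).left = sq.flip.isoPullback.inv ≫ (φ ▷ T).left :=
      (Iso.eq_inv_comp _).mpr e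
    show IsIso (pullback.snd φ.left (fst B T).left)
    rw [e']
    infer_instance
  exact key

end IsoDescent

section Triv

theorem whiskerLeft_comp_act {T : Over S} (σ : T ⟶ X) :
    (G ◁ σ) ≫ a.act = smul a (fst G T) (snd G T ≫ σ) := by
  have : G ◁ σ = lift (fst G T) (snd G T ≫ σ) := by
    apply CartesianMonoidalCategory.hom_ext <;> simp
  rw [this, smul_def]

/-- The trivialisation `(g, τ) ↦ (g • σ(τ), τ)` of a pseudo-torsor over a section is an
isomorphism. -/
theorem isIso_trivialization (hps : NonAbH1.IsPseudoTorsorSch a) {T : Over S} (σ : T ⟶ X) :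
    IsIso (lift ((G ◁ σ) ≫ a.act) (snd G T)) := by
  let hom : G ⊗ T ⟶ X ⊗ T := lift (smul a (fst G T) (snd G T ≫ σ)) (snd G T)
  let inv' : X ⊗ T ⟶ G ⊗ T :=
    lift (lift (fst X T) (snd X T ≫ σ) ≫ divMap a hps) (snd X T)
  have h1 : hom ≫ inv' = 𝟙 _ := by
    apply CartesianMonoidalCategory.hom_ext
    · simp only [hom, inv', Category.assoc, lift_fst, Category.id_comp]
      rw [← Category.assoc, comp_lift, lift_fst, ← Category.assoc, lift_snd]
      exact divMap_smul a hps _ _
    · simp [hom, inv']
  have h2 : inv' ≫ hom = 𝟙 _ := by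
    apply CartesianMonoidalCategory.hom_ext
    · simp only [hom, inv', Category.assoc, lift_fst, Category.id_comp]
      rw [comp_smul, lift_fst, ← Category.assoc, lift_snd]
      exact smul_divMap a hps _ _
    · simp [hom, inv']
  rw [whiskerLeft_comp_act]
  exact ⟨inv', h1, h2⟩

/-- An equivariant morphism between a torsor and a pseudo-torsor is an isomorphism. -/
theorem isIso_of_isEquivariant {X' : Over S} (a' : AlgGrp.Action G X')
    (ha : NonAbH1.IsTorsorFor Scheme.fpqcPrecoverage a) (ha' : NonAbH1.IsPseudoTorsorSch a')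
    (f : X ⟶ X') (hf : a.act ≫ f = (G ◁ f) ≫ a'.act) : IsIso f := by
  obtain ⟨hps, R, hR, hsec⟩ := ha
  apply isIso_of_fpqc_cover f hR
  intro S' g hg
  obtain ⟨σ, hσ⟩ := hsec g hg
  let T : Over S := Over.mk g
  let σ' : T ⟶ X := Over.homMk σ hσ
  have i1 := isIso_trivialization a hps σ'
  have i2 := isIso_trivialization a' ha' (σ' ≫ f)
  have hcomp : lift ((G ◁ σ') ≫ a.act) (snd G T) ≫ (f ▷ T) =
      lift ((G ◁ (σ' ≫ f)) ≫ a'.act) (snd G T) := by
    apply CartesianMonoidalCategory.hom_ext
    · simp only [Category.assoc, whiskerRight_fst, lift_fst, lift_fst_assoc]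
      rw [hf, ← Category.assoc, ← MonoidalCategory.whiskerLeft_comp]
    · simp
  have : f ▷ T = inv (lift ((G ◁ σ') ≫ a.act) (snd G T)) ≫
      lift ((G ◁ (σ' ≫ f)) ≫ a'.act) (snd G T) := by
    rw [← hcomp, IsIso.inv_hom_id_assoc]
  show IsIso (f ▷ T)
  rw [this]
  infer_instance

end Triv

end Groth.Agent.Lib.Helper40.TorsorTriv
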