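import Mathlib
import Groth.Prelude.Def_NonAbH2
import Groth.Agent.Lib.Helper40.TorsorTriv
import Groth.Agent.Lib.Helper40.LocTrivCov

/-!
# Morphisms out of a pushforward torsor

For `u : J ⟶ J'`, `v : J' ⟶ J''`, a `J`-torsor `P`, a `J'`-pseudo-torsor `P'`, a `J''`-scheme `P''`,
a `u`-equivariant `q' : P ⟶ P'` and a `(u ≫ v)`-equivariant `q'' : P ⟶ P''`, there is exactly one
`v`-equivariant `r : P' ⟶ P''` with `q' ≫ r = q''`.
-/

set_option autoImplicit false
open CategoryTheory CategoryTheory.Limits AlgebraicGeometry MonoidalCategory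
open CartesianMonoidalCategory MonObj
universe u

namespace Groth.Agent.Lib.Helper40.TorsorPush

open Groth.Agent.Lib.Helper40.ActPts Groth.Agent.Lib.Helper40.TorsorTriv
open Groth.Agent.Lib.Helper40.FpqcCov

variable {S : Scheme.{u}}

/-- point form of `φ`-equivariance -/
theorem equivariant_pts {G G' X X' : Over S} [GrpObj G] [GrpObj G'] (φ : G ⟶ G')
    (a : AlgGrp.Action G X) (a' : AlgGrp.Action G' X') (f : X ⟶ X')
    (hf : a.act ≫ f = lift (fst G X ≫ φ) (snd G X ≫ f) ≫ a'.act)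
    {T : Over S} (g : T ⟶ G) (x : T ⟶ X) :
    smul a g x ≫ f = smul a' (g ≫ φ) (x ≫ f) := by
  rw [smul_def, Category.assoc, hf, smul_def, ← Category.assoc, comp_lift,
    ← Category.assoc, lift_fst, ← Category.assoc, lift_snd]

/-- `φ`-equivariance from its point form -/
theorem equivariant_of_pts {G G' X X' : Over S} [GrpObj G] [GrpObj G'] (φ : G ⟶ G')
    (a : AlgGrp.Action G X) (a' : AlgGrp.Action G' X') (f : X ⟶ X')
    (hf : smul a (fst G X) (snd G X) ≫ f = smul a' (fst G X ≫ φ) (snd G X ≫ f)) :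
    a.act ≫ f = lift (fst G X ≫ φ) (snd G X ≫ f) ≫ a'.act := by
  have h : smul a (fst G X) (snd G X) = a.act := by
    rw [smul_def, lift_fst_snd, Category.id_comp]
  rw [h] at hf
  rw [hf, smul_def]

theorem isCov_of_isIso {A B : Scheme.{u}} (f : A ⟶ B) [IsIso f] : IsCov f :=
  (IsQCov.of_quasiCompact f).isCov

theorem isCov_fst_left (A B : Over S) (hB : IsCov B.hom) : IsCov (fst A B).left := by
  rw [Over.fst_left]
  exact hB.of_isPullback (IsPullback.of_hasPullback A.hom B.hom)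

theorem isCov_snd_left (A B : Over S) (hA : IsCov A.hom) : IsCov (snd A B).left := by
  rw [Over.snd_left]
  exact hA.of_isPullback (IsPullback.of_hasPullback A.hom B.hom).flip

theorem isCov_hom_of_isTorsorFor {G X : Over S} [GrpObj G] (a : AlgGrp.Action G X)
    (h : NonAbH1.IsTorsorFor Scheme.fpqcPrecoverage a) : IsCov X.hom :=
  isCov_of_isLocallyTrivialFor_fpqc X h.2

section

variable {J J' J'' : Over S} [GrpObj J] [GrpObj J'] [GrpObj J'']
  (u : J ⟶ J') (v : J' ⟶ J'') [IsMonHom v] {P P' P'' : Over S}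
  (a : AlgGrp.Action J P) (a' : AlgGrp.Action J' P') (a'' : AlgGrp.Action J'' P'')

/-- the covering `(j', p) ↦ j' • q'(p)` of `P'`. -/
theorem isCov_orbit (hcov : IsCov P.hom) (hP' : NonAbH1.IsPseudoTorsorSch a') (q' : P ⟶ P') :
    IsCov (smul a' (fst J' P) (snd J' P ≫ q')).left := by
  have hiso := isIso_trivialization a' hP' q'
  rw [TorsorTriv.whiskerLeft_comp_act] at hiso
  have hl : IsIso (lift (smul a' (fst J' P) (snd J' P ≫ q')) (snd J' P)).left :=
    (inferInstance : IsIso ((Over.forget S).map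
      (lift (smul a' (fst J' P) (snd J' P ≫ q')) (snd J' P))))
  have e : smul a' (fst J' P) (snd J' P ≫ q') =
      lift (smul a' (fst J' P) (snd J' P ≫ q')) (snd J' P) ≫ fst P' P := by rw [lift_fst]
  rw [e, Over.comp_left]
  exact (isCov_of_isIso _).comp (isCov_fst_left P' P hcov)

theorem existsUnique_push (hP : NonAbH1.IsTorsorFor Scheme.fpqcPrecoverage a)
    (hP' : NonAbH1.IsPseudoTorsorSch a')
    (q' : P ⟶ P') (hq' : a.act ≫ q' = lift (fst J P ≫ u) (snd J P ≫ q') ≫ a'.act)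
    (q'' : P ⟶ P'') (hq'' : a.act ≫ q'' = lift (fst J P ≫ u ≫ v) (snd J P ≫ q'') ≫ a''.act) :
    ∃! r : P' ⟶ P'', a'.act ≫ r = lift (fst J' P' ≫ v) (snd J' P' ≫ r) ≫ a''.act ∧ q' ≫ r = q'' := by
  have hcovP : IsCov P.hom := isCov_hom_of_isTorsorFor a hP
  obtain ⟨hps, -⟩ := hP
  set c : J' ⊗ P ⟶ P' := smul a' (fst J' P) (snd J' P ≫ q') with hc
  set r' : J' ⊗ P ⟶ P'' := smul a'' (fst J' P ≫ v) (snd J' P ≫ q'') with hr'
  have hcovc : IsCov c.left := isCov_orbit a' hcovP hP' q'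
  have hepic : Epi c := epi_of_isCov_left hcovc
  have hcpt : ∀ {T : Over S} (j : T ⟶ J') (p : T ⟶ P), lift j p ≫ c = smul a' j (p ≫ q') := by
    intro T j p
    rw [hc, comp_smul, lift_fst, ← Category.assoc, lift_snd]
  have hrpt : ∀ {T : Over S} (j : T ⟶ J') (p : T ⟶ P),
      lift j p ≫ r' = smul a'' (j ≫ v) (p ≫ q'') := by
    intro T j p
    rw [hr', comp_smul, ← Category.assoc, lift_fst, ← Category.assoc, lift_snd]
  have hdesc : ∀ (R : Over S) (x y : R ⟶ J' ⊗ P), x ≫ c = y ≫ c → x ≫ r' = y ≫ r' := by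
    intro R x y hxy
    have hx : x = lift (x ≫ fst J' P) (x ≫ snd J' P) := by
      apply CartesianMonoidalCategory.hom_ext <;> simp
    have hy : y = lift (y ≫ fst J' P) (y ≫ snd J' P) := by
      apply CartesianMonoidalCategory.hom_ext <;> simp
    set j1 := x ≫ fst J' P
    set p1 := x ≫ snd J' P
    set j2 := y ≫ fst J' P
    set p2 := y ≫ snd J' P
    rw [hx, hy, hcpt, hcpt] at hxy
    rw [hx, hy, hrpt, hrpt]
    set g : R ⟶ J := lift p1 p2 ≫ divMap a hps with hg
    have hg1 : smul a g p2 = p1 := smul_divMap a hps p1 p2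
    have h1 : p1 ≫ q' = smul a' (g ≫ u) (p2 ≫ q') := by
      rw [← hg1]; exact equivariant_pts u a a' q' hq' g p2
    have h2 : p1 ≫ q'' = smul a'' (g ≫ u ≫ v) (p2 ≫ q'') := by
      rw [← hg1]; exact equivariant_pts (u ≫ v) a a'' q'' hq'' g p2
    rw [h1, ← ActPts.mul_smul] at hxy
    have h3 : j1 * (g ≫ u) = j2 := by
      have := congrArg (fun k => lift k (p2 ≫ q') ≫ divMap a' hP') hxy
      simpa only [divMap_smul] using this
    rw [h2, ← ActPts.mul_smul, ← h3, MonObj.mul_comp]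
    simp only [Category.assoc]
  obtain ⟨r, hr⟩ := exists_desc_over hcovc r' hdesc
  have hpt_of : ∀ (r₀ : P' ⟶ P''),
      a'.act ≫ r₀ = lift (fst J' P' ≫ v) (snd J' P' ≫ r₀) ≫ a''.act → q' ≫ r₀ = q'' →
      c ≫ r₀ = r' := by
    intro r₀ h1 h2
    rw [hc, equivariant_pts v a' a'' r₀ h1, Category.assoc, h2]
  refine ⟨r, ⟨?_, ?_⟩, ?_⟩
  · -- equivariance
    have hcov2 : IsCov (J' ◁ c).left := isCov_whiskerLeft J' hcovc
    have hepi2 : Epi (J' ◁ c) := epi_of_isCov_left hcov2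
    rw [← cancel_epi (J' ◁ c)]
    set k : J' ⊗ (J' ⊗ P) ⟶ J' := fst J' (J' ⊗ P)
    set j : J' ⊗ (J' ⊗ P) ⟶ J' := snd J' (J' ⊗ P) ≫ fst J' P
    set p : J' ⊗ (J' ⊗ P) ⟶ P := snd J' (J' ⊗ P) ≫ snd J' P
    have hsnd : snd J' (J' ⊗ P) = lift j p := by
      apply CartesianMonoidalCategory.hom_ext <;> simp [j, p]
    have hw : J' ◁ c = lift k (lift j p ≫ c) := by
      apply CartesianMonoidalCategory.hom_ext
      · simp [k]
      · rw [whiskerLeft_snd, lift_snd, hsnd]
    have hL : (J' ◁ c) ≫ a'.act = lift (k * j) p ≫ c := by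
      rw [hw, hcpt, hcpt, ← smul_def, ActPts.mul_smul]
    have hR : (J' ◁ c) ≫ lift (fst J' P' ≫ v) (snd J' P' ≫ r) ≫ a''.act =
        smul a'' (k ≫ v) (smul a'' (j ≫ v) (p ≫ q'')) := by
      rw [hw, ← Category.assoc, comp_lift, ← Category.assoc, lift_fst, ← Category.assoc, lift_snd,
        Category.assoc, hr, hrpt, ← smul_def]
    rw [← Category.assoc, hL, Category.assoc, hr, hrpt, hR, ← ActPts.mul_smul, MonObj.mul_comp]
  · -- q' ≫ r = q''
    have h1 : q' = lift (1 : P ⟶ J') (𝟙 P) ≫ c := by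
      rw [hcpt, Category.id_comp, ActPts.one_smul]
    rw [h1, Category.assoc, hr, hrpt, MonObj.one_comp, Category.id_comp, ActPts.one_smul]
  · rintro r₂ ⟨h1, h2⟩
    rw [← cancel_epi c, hr]
    exact hpt_of r₂ h1 h2

end

end Groth.Agent.Lib.Helper40.TorsorPush
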