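import Mathlib
import Groth.Prelude.Def_NonAbH2
import Groth.Agent.Lib.Helper40.TorsorPush

/-!
# Exactness of the cohomology sequence for fpqc torsors (scheme level)

Tools: actions from point-form laws, the exactness square of `IsExactSeq` in point form,
and the two exactness statements at `H¹(G')` and `H¹(G)`.
-/

set_option autoImplicit false
set_option linter.unusedSectionVars false
open CategoryTheory CategoryTheory.Limits AlgebraicGeometry MonoidalCategory
open CartesianMonoidalCategory MonObj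
universe u

namespace Groth.Agent.Lib.Helper40.TorsorExact

open Groth.Agent.Lib.Helper40.ActPts Groth.Agent.Lib.Helper40.TorsorTriv
open Groth.Agent.Lib.Helper40.FpqcCov Groth.Agent.Lib.Helper40.TorsorPush

theorem isPullback_of_existsUnique {C : Type*} [Category C] {P X Y Z : C} {fst' : P ⟶ X}
    {snd' : P ⟶ Y} {f : X ⟶ Z} {g : Y ⟶ Z} (w : fst' ≫ f = snd' ≫ g)
    (h : ∀ {W : C} (a : W ⟶ X) (b : W ⟶ Y), a ≫ f = b ≫ g →
      ∃! k : W ⟶ P, k ≫ fst' = a ∧ k ≫ snd' = b) : IsPullback fst' snd' f g := by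
  refine ⟨⟨w⟩, ⟨PullbackCone.IsLimit.mk w (fun s => (h s.fst s.snd s.condition).choose)
    (fun s => (h s.fst s.snd s.condition).choose_spec.1.1)
    (fun s => (h s.fst s.snd s.condition).choose_spec.1.2) ?_⟩⟩
  intro s m hm₁ hm₂
  exact (h s.fst s.snd s.condition).choose_spec.2 m ⟨hm₁, hm₂⟩

variable {S : Scheme.{u}}

section ActOfPts

variable {G X : Over S} [GrpObj G]

/-- An action from point-form laws. -/
noncomputable def actionOfPts (act : G ⊗ X ⟶ X)
    (h1 : ∀ {T : Over S} (x : T ⟶ X), lift (1 : T ⟶ G) x ≫ act = x)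
    (h2 : ∀ {T : Over S} (g h : T ⟶ G) (x : T ⟶ X),
      lift (g * h) x ≫ act = lift g (lift h x ≫ act) ≫ act) :
    AlgGrp.Action G X where
  act := act
  one_act := by
    have e : η[G] ▷ X = lift (1 : 𝟙_ (Over S) ⊗ X ⟶ G) (snd _ X) := by
      apply CartesianMonoidalCategory.hom_ext
      · rw [whiskerRight_fst, lift_fst, Hom.one_def]
        congr 1
      · simp
    rw [e, h1]
    rfl
  mul_act := by
    have e1 : μ[G] ▷ X =
        lift ((fst (G ⊗ G) X ≫ fst G G) * (fst (G ⊗ G) X ≫ snd G G)) (snd (G ⊗ G) X) := by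
      apply CartesianMonoidalCategory.hom_ext
      · rw [whiskerRight_fst, lift_fst, Hom.mul_def]
        congr 1
        apply CartesianMonoidalCategory.hom_ext <;> simp
      · simp
    have e2 : (α_ G G X).hom ≫ (G ◁ act) =
        lift (fst (G ⊗ G) X ≫ fst G G)
          (lift (fst (G ⊗ G) X ≫ snd G G) (snd (G ⊗ G) X) ≫ act) := by
      apply CartesianMonoidalCategory.hom_ext
      · simp
      · simp only [Category.assoc, whiskerLeft_snd, lift_snd]
        rw [← Category.assoc]
        congr 1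
        apply CartesianMonoidalCategory.hom_ext <;> simp
    rw [e1, h2, ← Category.assoc, e2]

theorem divMap_smul_left (a : AlgGrp.Action G X) (hps : NonAbH1.IsPseudoTorsorSch a)
    {T : Over S} (g : T ⟶ G) (x y : T ⟶ X) :
    lift (smul a g x) y ≫ divMap a hps = g * (lift x y ≫ divMap a hps) := by
  conv_lhs => rw [← smul_divMap a hps x y, ← ActPts.mul_smul]
  rw [divMap_smul]

theorem smul_left_cancel (a : AlgGrp.Action G X) (hps : NonAbH1.IsPseudoTorsorSch a)
    {T : Over S} (g h : T ⟶ G) (x : T ⟶ X) (e : smul a g x = smul a h x) : g = h := by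
  have := congrArg (fun k => lift k x ≫ divMap a hps) e
  simpa only [divMap_smul] using this

theorem smul_trivialAction {T : Over S} (g h : T ⟶ G) :
    smul (NonAbH1.trivialAction G) g h = g * h := by
  rw [smul_def, Hom.mul_def]
  rfl

end ActOfPts

section Exact

variable {G G' G'' : Over S} [GrpObj G] [GrpObj G'] [GrpObj G''] (u : G' ⟶ G) (v : G ⟶ G'')

theorem lift_comp_rtrans {T : Over S} (g : T ⟶ G) (g' : T ⟶ G') :
    lift g g' ≫ (G ◁ u) ≫ μ[G] = g * (g' ≫ u) := by
  rw [← Category.assoc, lift_whiskerLeft, Hom.mul_def]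

theorem exists_of_comp_eq (hsq : IsPullback (fst G G') ((G ◁ u) ≫ μ[G]) v v) {T : Over S}
    (g1 g2 : T ⟶ G) (h : g1 ≫ v = g2 ≫ v) : ∃ g' : T ⟶ G', g1 * (g' ≫ u) = g2 := by
  refine ⟨hsq.lift g1 g2 h ≫ snd G G', ?_⟩
  have h1 := hsq.lift_fst g1 g2 h
  have h2 := hsq.lift_snd g1 g2 h
  have e : hsq.lift g1 g2 h = lift g1 (hsq.lift g1 g2 h ≫ snd G G') := by
    apply CartesianMonoidalCategory.hom_ext
    · rw [h1, lift_fst]
    · rw [lift_snd]
  rw [e, lift_comp_rtrans] at h2
  exact h2

theorem u_cancel (hsq : IsPullback (fst G G') ((G ◁ u) ≫ μ[G]) v v) {T : Over S}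
    (a b : T ⟶ G') (h : a ≫ u = b ≫ u) : a = b := by
  have e : lift (1 : T ⟶ G) a = lift (1 : T ⟶ G) b := by
    apply hsq.hom_ext
    · rw [lift_fst, lift_fst]
    · rw [lift_comp_rtrans, lift_comp_rtrans, h]
  have := congrArg (fun k => k ≫ snd G G') e
  simpa using this

end Exact

section S6009

variable {G G' G'' : Over S} [GrpObj G] [GrpObj G'] [GrpObj G''] (u : G' ⟶ G) (v : G ⟶ G'')

theorem push_trivial_iff_isPullbackTorsor
    (hex : NonAbH1.IsExactSeq Scheme.fpqcPrecoverage u v)
    {Q : Over S} (aQ : AlgGrp.Action G' Q)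
    (hQ : NonAbH1.IsTorsorFor Scheme.fpqcPrecoverage aQ) :
    NonAbH1.IsPushforwardAlongSch u aQ (NonAbH1.trivialAction G) ↔
      ∃ (f : 𝟙_ (Over S) ⟶ G'') (i : Q ⟶ G), NonAbH1.IsPullbackTorsor u v f i aQ := by
  obtain ⟨hu, hv, huv, hsq, hloc⟩ := hex
  constructor
  · rintro ⟨j, hj⟩
    have hjpt : ∀ {T : Over S} (g' : T ⟶ G') (q : T ⟶ Q),
        smul aQ g' q ≫ j = (g' ≫ u) * (q ≫ j) := by
      intro T g' q
      rw [equivariant_pts u aQ (NonAbH1.trivialAction G) j hj, smul_trivialAction]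
    set i : Q ⟶ G := j⁻¹ with hi
    have hipt : ∀ {T : Over S} (g' : T ⟶ G') (q : T ⟶ Q),
        smul aQ g' q ≫ i = (q ≫ i) * (g' ≫ u)⁻¹ := by
      intro T g' q
      rw [hi, GrpObj.comp_inv, GrpObj.comp_inv, hjpt, mul_inv_rev]
    have hinv : ∀ {T : Over S} (g' : T ⟶ G') (q : T ⟶ Q),
        smul aQ g' q ≫ i ≫ v = q ≫ i ≫ v := by
      intro T g' q
      rw [← Category.assoc, hipt, MonObj.mul_comp, GrpObj.inv_comp, Category.assoc g' u v, huv,
        MonObj.comp_one, inv_one, _root_.mul_one, Category.assoc]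
    have hcovQ : IsCov Q.hom := isCov_hom_of_isTorsorFor aQ hQ
    have hcovQ' : IsCov (toUnit Q).left := by
      rw [Over.toUnit_left]
      exact hcovQ
    obtain ⟨hps, -⟩ := hQ
    obtain ⟨f, hf⟩ := exists_desc_over hcovQ' (i ≫ v) (by
      intro R x y _
      have : x = smul aQ (lift x y ≫ divMap aQ hps) y := (smul_divMap aQ hps x y).symm
      rw [this, hinv])
    have hmono : ∀ {T : Over S} (q1 q2 : T ⟶ Q), q1 ≫ i = q2 ≫ i → q1 = q2 := by
      intro T q1 q2 h12
      have e1 : q1 = smul aQ (lift q1 q2 ≫ divMap aQ hps) q2 := (smul_divMap aQ hps q1 q2).symm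
      set d := lift q1 q2 ≫ divMap aQ hps
      have e2 : d ≫ u = 1 := by
        have h3 := hipt d q2
        rw [← e1, h12] at h3
        have h4 : (d ≫ u)⁻¹ = 1 := by
          have := congrArg (fun z => (q2 ≫ i)⁻¹ * z) h3
          simpa using this.symm
        exact inv_eq_one.mp h4
      have e3 : d = 1 := by
        apply u_cancel u v hsq
        rw [e2, MonObj.one_comp]
      rw [e1, e3, ActPts.one_smul]
    refine ⟨f, i, hu, hv, ?_, ?_⟩
    · apply isPullback_of_existsUnique hf.symm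
      intro W g t hgt
      have hcove : IsCov (fst W Q).left := isCov_fst_left W Q hcovQ
      have hepi : Epi (fst W Q) := epi_of_isCov_left hcove
      have h1 : (fst W Q ≫ g) ≫ v = (snd W Q ≫ i) ≫ v := by
        rw [Category.assoc, hgt, Category.assoc, ← hf, ← Category.assoc, ← Category.assoc]
        congr 1
        exact toUnit_unique _ _
      obtain ⟨g', hg'⟩ := exists_of_comp_eq u v hsq _ _ h1
      have h2 : smul aQ g' (snd W Q) ≫ i = fst W Q ≫ g := by
        rw [hipt, ← hg', mul_inv_cancel_right]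
      obtain ⟨k, hk⟩ := exists_desc_over hcove (smul aQ g' (snd W Q)) (by
        intro R x y hxy
        apply hmono
        rw [Category.assoc, Category.assoc, h2, ← Category.assoc, ← Category.assoc, hxy])
      refine ⟨k, ⟨?_, toUnit_unique _ _⟩, ?_⟩
      · rw [← cancel_epi (fst W Q), ← Category.assoc, hk, h2]
      · rintro k' ⟨hk', -⟩
        apply hmono
        rw [hk', ← cancel_epi (fst W Q), ← Category.assoc, hk, h2]
    · intro T g' p
      rw [← Category.assoc, ← smul_def]
      exact hipt g' p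
  · rintro ⟨f, i, hu, hv, hpb, hi⟩
    refine ⟨i⁻¹, ?_⟩
    apply equivariant_of_pts
    rw [smul_trivialAction, GrpObj.comp_inv, GrpObj.comp_inv, smul_def, Category.assoc, hi,
      mul_inv_rev, inv_inv]

end S6009

end Groth.Agent.Lib.Helper40.TorsorExact
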