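import Mathlib
import Groth.Prelude.Def_NonAbH2
import Groth.Agent.Lib.Helper40.TorsorExact

/-!
# Exactness of the cohomology sequence for fpqc torsors at `H¹(G)` (scheme level)
-/

set_option autoImplicit false
set_option linter.unusedSectionVars false
open CategoryTheory CategoryTheory.Limits AlgebraicGeometry MonoidalCategory
open CartesianMonoidalCategory MonObj
universe u

namespace Groth.Agent.Lib.Helper40.TorsorExact

open Groth.Agent.Lib.Helper40.ActPts Groth.Agent.Lib.Helper40.TorsorTriv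
open Groth.Agent.Lib.Helper40.FpqcCov Groth.Agent.Lib.Helper40.TorsorPush

variable {S : Scheme.{u}}

theorem isLocallyTrivialFor_fpqc_of_isCov {Y : Scheme.{u}} (X : Over Y) (h : IsCov X.hom) :
    NonAbH1.IsLocallyTrivialFor Scheme.fpqcPrecoverage X := by
  obtain ⟨Z, q, r, h1, hq⟩ := h.exists_isQCov
  refine ⟨Presieve.singleton q, hq.singleton_mem_fpqcPrecoverage, ?_⟩
  intro S' f hf
  cases hf
  exact ⟨r, h1⟩

section S6010

variable {G G' G'' : Over S} [GrpObj G] [GrpObj G'] [GrpObj G''] (u : G' ⟶ G) (v : G ⟶ G'')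

section Fwd

variable {P : Over S} (aP : AlgGrp.Action G P) (w : P ⟶ G'')

/-- the fibre of `w` over the unit section -/
noncomputable abbrev fib : Over S := pullback w (η[G''] : 𝟙_ (Over S) ⟶ G'')

noncomputable abbrev fibι : fib w ⟶ P := pullback.fst w (η[G''] : 𝟙_ (Over S) ⟶ G'')

theorem fibι_comp : fibι w ≫ w = 1 := by
  rw [pullback.condition, Hom.one_def]
  congr 1
  exact toUnit_unique _ _

theorem fibι_cancel {T : Over S} (a b : T ⟶ fib w) (h : a ≫ fibι w = b ≫ fibι w) : a = b := by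
  apply pullback.hom_ext h
  exact toUnit_unique _ _

noncomputable def fibLift {T : Over S} (p : T ⟶ P) (h : p ≫ w = 1) : T ⟶ fib w :=
  pullback.lift p (toUnit T) (by rw [h, Hom.one_def])

theorem fibLift_ι {T : Over S} (p : T ⟶ P) (h : p ≫ w = 1) : fibLift w p h ≫ fibι w = p :=
  pullback.lift_fst _ _ _

variable [IsMonHom u] [IsMonHom v] (huv : u ≫ v = 1)
  (hw : aP.act ≫ w = lift (fst G P ≫ v) (snd G P ≫ w) ≫ (NonAbH1.trivialAction G'').act)

include hw in
theorem w_pts {T : Over S} (g : T ⟶ G) (p : T ⟶ P) :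
    smul aP g p ≫ w = (g ≫ v) * (p ≫ w) := by
  rw [equivariant_pts v aP (NonAbH1.trivialAction G'') w hw, smul_trivialAction]

include huv hw in
theorem fibAct_aux : smul aP (fst G' (fib w) ≫ u) (snd G' (fib w) ≫ fibι w) ≫ w = 1 := by
  rw [w_pts v aP w hw, Category.assoc, Category.assoc, huv, fibι_comp, MonObj.comp_one,
    MonObj.comp_one, _root_.mul_one]

noncomputable def fibActMap : G' ⊗ fib w ⟶ fib w :=
  fibLift w (smul aP (fst G' (fib w) ≫ u) (snd G' (fib w) ≫ fibι w)) (fibAct_aux u v aP w huv hw)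

theorem fibActMap_pts {T : Over S} (g' : T ⟶ G') (q : T ⟶ fib w) :
    lift g' q ≫ fibActMap u v aP w huv hw ≫ fibι w = smul aP (g' ≫ u) (q ≫ fibι w) := by
  unfold fibActMap
  rw [fibLift_ι, comp_smul, ← Category.assoc, lift_fst, ← Category.assoc, lift_snd]

noncomputable def fibAction : AlgGrp.Action G' (fib w) :=
  actionOfPts (fibActMap u v aP w huv hw)
    (by
      intro T x
      apply fibι_cancel
      rw [Category.assoc, fibActMap_pts, MonObj.one_comp, ActPts.one_smul])
    (by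
      intro T g h x
      apply fibι_cancel
      rw [Category.assoc, fibActMap_pts, Category.assoc, fibActMap_pts, Category.assoc,
        fibActMap_pts, MonObj.mul_comp, ActPts.mul_smul])

theorem fibAction_pts {T : Over S} (g' : T ⟶ G') (q : T ⟶ fib w) :
    smul (fibAction u v aP w huv hw) g' q ≫ fibι w = smul aP (g' ≫ u) (q ≫ fibι w) := by
  rw [smul_def, Category.assoc]
  exact fibActMap_pts u v aP w huv hw g' q

theorem fibAction_push :
    NonAbH1.IsPushforwardAlongSch u (fibAction u v aP w huv hw) aP := by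
  refine ⟨fibι w, ?_⟩
  apply equivariant_of_pts
  exact fibAction_pts u v aP w huv hw _ _

theorem fibAction_isPseudoTorsor (hsq : IsPullback (fst G G') ((G ◁ u) ≫ μ[G]) v v)
    (hps : NonAbH1.IsPseudoTorsorSch aP) :
    NonAbH1.IsPseudoTorsorSch (fibAction u v aP w huv hw) := by
  set aQ := fibAction u v aP w huv hw with haQ
  set D : fib w ⊗ fib w ⟶ G :=
    lift (fst (fib w) (fib w) ≫ fibι w) (snd (fib w) (fib w) ≫ fibι w) ≫ divMap aP hps with hD
  have hD1 : smul aP D (snd (fib w) (fib w) ≫ fibι w) = fst (fib w) (fib w) ≫ fibι w :=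
    smul_divMap aP hps _ _
  have hDv : D ≫ v = 1 := by
    have h1 : (D ≫ v) * ((snd (fib w) (fib w) ≫ fibι w) ≫ w) =
        (fst (fib w) (fib w) ≫ fibι w) ≫ w := by
      rw [← w_pts v aP w hw, hD1]
    have h2 : ∀ (z : fib w ⊗ fib w ⟶ fib w), (z ≫ fibι w) ≫ w = 1 := by
      intro z
      rw [Category.assoc, fibι_comp, MonObj.comp_one]
    rw [h2, h2, _root_.mul_one] at h1
    exact h1
  obtain ⟨dQ, hdQ⟩ := exists_of_comp_eq u v hsq (1 : fib w ⊗ fib w ⟶ G) D
    (by rw [hDv, MonObj.one_comp])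
  rw [_root_.one_mul] at hdQ
  have hΘ : lift aQ.act (snd G' (fib w)) =
      lift (smul aQ (fst G' (fib w)) (snd G' (fib w))) (snd G' (fib w)) := by
    rw [smul_def, lift_fst_snd, Category.id_comp]
  refine ⟨lift dQ (snd (fib w) (fib w)), ?_, ?_⟩
  · rw [hΘ, comp_lift, lift_snd]
    have : lift (smul aQ (fst G' (fib w)) (snd G' (fib w))) (snd G' (fib w)) ≫ dQ =
        fst G' (fib w) := by
      apply u_cancel u v hsq
      rw [Category.assoc, hdQ, hD, ← Category.assoc, comp_lift, ← Category.assoc, lift_fst,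
        ← Category.assoc, lift_snd, fibAction_pts, divMap_smul]
    rw [this, lift_fst_snd]
  · rw [hΘ, comp_lift, comp_smul, lift_fst, lift_snd]
    have : smul aQ dQ (snd (fib w) (fib w)) = fst (fib w) (fib w) := by
      apply fibι_cancel
      rw [fibAction_pts, hdQ, hD1]
    rw [this, lift_fst_snd]

include hw in
theorem fib_isCov (hcovP : IsCov P.hom) (hcovv : IsCov v.left) : IsCov (fib w).hom := by
  let Z : Over S := pullback w v
  let pr1 : Z ⟶ P := pullback.fst w v
  let pr2 : Z ⟶ G := pullback.snd w v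
  have hpr1 : IsCov pr1.left := isCov_left_of_isPullback hcovv (IsPullback.of_hasPullback w v)
  have hZ : IsCov Z.hom := by
    rw [← Over.w pr1]
    exact hpr1.comp hcovP
  have hz : smul aP (pr2⁻¹) pr1 ≫ w = 1 := by
    rw [w_pts v aP w hw, GrpObj.inv_comp, show pr1 ≫ w = pr2 ≫ v from pullback.condition,
      inv_mul_cancel]
  exact IsCov.of_comp_eq (fibLift w _ hz).left (Over.w _) hZ

end Fwd

theorem push_trivial_iff_exists_push_from_kernel
    (hex : NonAbH1.IsExactSeq Scheme.fpqcPrecoverage u v)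
    {P : Over S} (aP : AlgGrp.Action G P)
    (hP : NonAbH1.IsTorsorFor Scheme.fpqcPrecoverage aP) :
    NonAbH1.IsPushforwardAlongSch v aP (NonAbH1.trivialAction G'') ↔
      ∃ Q : NonAbH1.TorsorSch G' Scheme.fpqcPrecoverage,
        NonAbH1.IsPushforwardAlongSch u Q.act aP := by
  obtain ⟨hu, hv, huv, hsq, hloc⟩ := hex
  have hcovP : IsCov P.hom := isCov_hom_of_isTorsorFor aP hP
  have hcovv : IsCov v.left := isCov_of_isLocallyTrivialFor_fpqc (Over.mk v.left) hloc
  obtain ⟨hps, -⟩ := hP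
  constructor
  · rintro ⟨w, hw⟩
    refine ⟨⟨fib w, fibAction u v aP w huv hw,
      fibAction_isPseudoTorsor u v aP w huv hw hsq hps,
      isLocallyTrivialFor_fpqc_of_isCov _ (fib_isCov v aP w hw hcovP hcovv)⟩, ?_⟩
    exact fibAction_push u v aP w huv hw
  · rintro ⟨⟨Q, aQ, hQ⟩, hpush⟩
    obtain ⟨k, hk⟩ := hpush
    change Q ⟶ P at k
    change aQ.act ≫ k = lift (fst G' Q ≫ u) (snd G' Q ≫ k) ≫ aP.act at hk
    have hcovQ : IsCov Q.hom := isCov_hom_of_isTorsorFor aQ hQ
    have hpsQ := hQ.1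
    have hkpt : ∀ {T : Over S} (g' : T ⟶ G') (q : T ⟶ Q),
        smul aQ g' q ≫ k = smul aP (g' ≫ u) (q ≫ k) :=
      fun g' q => equivariant_pts u aQ aP k hk g' q
    -- the local map
    set w' : P ⊗ Q ⟶ G'' := (lift (fst P Q) (snd P Q ≫ k) ≫ divMap aP hps) ≫ v with hw'
    have hw'pt : ∀ {T : Over S} (p : T ⟶ P) (q : T ⟶ Q),
        lift p q ≫ w' = (lift p (q ≫ k) ≫ divMap aP hps) ≫ v := by
      intro T p q
      rw [hw', ← Category.assoc, ← Category.assoc, comp_lift, lift_fst, ← Category.assoc,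
        lift_snd]
    have hcove : IsCov (fst P Q).left := isCov_fst_left P Q hcovQ
    have hepi : Epi (fst P Q) := epi_of_isCov_left hcove
    obtain ⟨w, hw⟩ := exists_desc_over hcove w' (by
      intro R x y hxy
      have hx : x = lift (x ≫ fst P Q) (x ≫ snd P Q) := by
        apply CartesianMonoidalCategory.hom_ext <;> simp
      have hy : y = lift (y ≫ fst P Q) (y ≫ snd P Q) := by
        apply CartesianMonoidalCategory.hom_ext <;> simp
      rw [hx, hy, hw'pt, hw'pt, ← hxy]
      set p := x ≫ fst P Q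
      set q1 := x ≫ snd P Q
      set q2 := y ≫ snd P Q
      set g' := lift q1 q2 ≫ divMap aQ hpsQ
      have e1 : q1 = smul aQ g' q2 := (smul_divMap aQ hpsQ q1 q2).symm
      have e2 : q1 ≫ k = smul aP (g' ≫ u) (q2 ≫ k) := by rw [e1, hkpt]
      set d1 := lift p (q1 ≫ k) ≫ divMap aP hps
      set d2 := lift p (q2 ≫ k) ≫ divMap aP hps
      have e3 : smul aP d1 (q1 ≫ k) = p := smul_divMap aP hps _ _
      have e4 : smul aP d2 (q2 ≫ k) = p := smul_divMap aP hps _ _
      have e5 : d1 * (g' ≫ u) = d2 := by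
        apply smul_left_cancel aP hps _ _ (q2 ≫ k)
        rw [ActPts.mul_smul, ← e2, e3, e4]
      rw [← e5, MonObj.mul_comp, Category.assoc g' u v, huv, MonObj.comp_one, _root_.mul_one])
    refine ⟨w, ?_⟩
    have hcov2 : IsCov (G ◁ fst P Q).left := isCov_whiskerLeft G hcove
    have hepi2 : Epi (G ◁ fst P Q) := epi_of_isCov_left hcov2
    rw [← cancel_epi (G ◁ fst P Q)]
    set g : G ⊗ (P ⊗ Q) ⟶ G := fst G (P ⊗ Q)
    set p : G ⊗ (P ⊗ Q) ⟶ P := snd G (P ⊗ Q) ≫ fst P Q
    set q : G ⊗ (P ⊗ Q) ⟶ Q := snd G (P ⊗ Q) ≫ snd P Q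
    have hwl : G ◁ fst P Q = lift g p := by
      apply CartesianMonoidalCategory.hom_ext <;> simp [g, p]
    have hL : (G ◁ fst P Q) ≫ aP.act ≫ w = lift (smul aP g p) q ≫ w' := by
      rw [← hw, ← Category.assoc (lift (smul aP g p) q), lift_fst, hwl, ← Category.assoc,
        ← smul_def]
    have hR : (G ◁ fst P Q) ≫ lift (fst G P ≫ v) (snd G P ≫ w) ≫
        (NonAbH1.trivialAction G'').act = (g ≫ v) * (lift p q ≫ w') := by
      rw [hwl, ← Category.assoc, comp_lift, ← Category.assoc, lift_fst, ← Category.assoc,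
        lift_snd, ← smul_def, smul_trivialAction, ← hw, ← Category.assoc (lift p q), lift_fst]
    rw [hL, hR, hw'pt, hw'pt, divMap_smul_left, MonObj.mul_comp]

end S6010

end Groth.Agent.Lib.Helper40.TorsorExact
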