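import Mathlib
import Groth.Prelude.Def_NonAbH2
import Groth.Agent.Lib.Helper40.TorsorExact2

/-!
# Morphisms of extensions compatible with the bitorsor structure are homomorphisms
-/

set_option autoImplicit false
set_option linter.unusedSectionVars false
open CategoryTheory CategoryTheory.Limits AlgebraicGeometry MonoidalCategory
open CartesianMonoidalCategory MonObj
universe u

namespace Groth.Agent.Lib.Helper40.BitorsorHom

open Groth.Agent.Lib.Helper40.ActPts Groth.Agent.Lib.Helper40.TorsorTriv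
open Groth.Agent.Lib.Helper40.FpqcCov Groth.Agent.Lib.Helper40.TorsorPush
open Groth.Agent.Lib.Helper40.TorsorExact

variable {S : Scheme.{u}} {P G E E' : Over S} [GrpObj P] [GrpObj G] [GrpObj E] [GrpObj E']
  [IsCommMonObj G]

theorem isMonHom_of_bitorsor
    (u : G ⟶ E) (v : E ⟶ P) (hex : NonAbH1.IsExactSeq Scheme.fppfPrecoverage u v)
    (u' : G ⟶ E') (v' : E' ⟶ P) (hex' : NonAbH1.IsExactSeq Scheme.fppfPrecoverage u' v')
    (hPP : ∀ c : P ⊗ P ⟶ G, lift (𝟙 P) (toUnit P ≫ η[P]) ≫ c = 1 →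
      lift (toUnit P ≫ η[P]) (𝟙 P) ≫ c = 1 → c = 1)
    (f : E ⟶ E') (hv : f ≫ v' = v) (hu : u ≫ f = u') (h1 : η[E] ≫ f = η[E'])
    (hl : ∀ (T : Over S) (g : T ⟶ G) (x : T ⟶ E), ((g ≫ u) * x) ≫ f = (g ≫ u') * (x ≫ f))
    (hr : ∀ (T : Over S) (g : T ⟶ G) (x : T ⟶ E), (x * (g ≫ u)) ≫ f = (x ≫ f) * (g ≫ u')) :
    IsMonHom f := by
  obtain ⟨hum, hvm, huv, hsq, hloc⟩ := hex
  obtain ⟨hum', hvm', huv', hsq', hloc'⟩ := hex'
  have hcovv : IsCov v.left := isCov_of_isLocallyTrivialFor_fppf (Over.mk v.left) hloc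
  have hepiv : Epi v := epi_of_isCov_left hcovv
  have hf1 : ∀ {T : Over S}, (1 : T ⟶ E) ≫ f = 1 := by
    intro T
    rw [Hom.one_def, Category.assoc, h1, ← Hom.one_def]
  have hcomm : ∀ {T : Over S} (a b : T ⟶ G), a * b = b * a := fun a b => mul_comm a b
  -- the defect
  have hex1 : ∀ {T : Over S} (x y : T ⟶ E),
      ∃ m : T ⟶ G, ((x ≫ f) * (y ≫ f)) * (m ≫ u') = (x * y) ≫ f := by
    intro T x y
    apply exists_of_comp_eq u' v' hsq'
    rw [MonObj.mul_comp, Category.assoc, Category.assoc, Category.assoc, hv, MonObj.mul_comp]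
  obtain ⟨m₀, hm₀⟩ := hex1 (fst E E) (snd E E)
  have hm₀pt : ∀ {T : Over S} (x y : T ⟶ E),
      ((x ≫ f) * (y ≫ f)) * ((lift x y ≫ m₀) ≫ u') = (x * y) ≫ f := by
    intro T x y
    have h : lift x y ≫ (fst E E ≫ f * snd E E ≫ f * m₀ ≫ u') =
        lift x y ≫ ((fst E E * snd E E) ≫ f) := by rw [hm₀]
    have eL : lift x y ≫ (fst E E ≫ f * snd E E ≫ f * m₀ ≫ u') =
        (x ≫ f * y ≫ f) * ((lift x y ≫ m₀) ≫ u') := by
      rw [MonObj.comp_mul, MonObj.comp_mul, ← Category.assoc, lift_fst, ← Category.assoc,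
        lift_snd, ← Category.assoc]
    have eR : lift x y ≫ ((fst E E * snd E E) ≫ f) = (x * y) ≫ f := by
      rw [← Category.assoc, MonObj.comp_mul, lift_fst, lift_snd]
    exact eL.symm.trans (h.trans eR)
  have hm_unique : ∀ {T : Over S} (x y : T ⟶ E) (m : T ⟶ G),
      ((x ≫ f) * (y ≫ f)) * (m ≫ u') = (x * y) ≫ f → m = lift x y ≫ m₀ := by
    intro T x y m hm
    apply u_cancel u' v' hsq'
    have := hm.trans (hm₀pt x y).symm
    exact mul_left_cancel this
  -- invariance in the second variable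
  have hinv2 : ∀ {T : Over S} (x y : T ⟶ E) (g : T ⟶ G),
      lift x (y * (g ≫ u)) ≫ m₀ = lift x y ≫ m₀ := by
    intro T x y g
    symm
    apply hm_unique
    rw [hr, ← _root_.mul_assoc x y, hr, ← hm₀pt x y]
    simp only [_root_.mul_assoc]
    rw [← MonObj.mul_comp, ← MonObj.mul_comp, hcomm]
  -- conjugation
  have hconj : ∀ {T : Over S} (y : T ⟶ E) (g : T ⟶ G),
      ∃ g' : T ⟶ G, (g ≫ u) * y = y * (g' ≫ u) := by
    intro T y g
    obtain ⟨g', hg'⟩ := exists_of_comp_eq u v hsq (1 : T ⟶ E) (y⁻¹ * (g ≫ u) * y) (by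
      rw [MonObj.one_comp, MonObj.mul_comp, MonObj.mul_comp, GrpObj.inv_comp, Category.assoc, huv,
        MonObj.comp_one, _root_.mul_one, inv_mul_cancel])
    rw [_root_.one_mul] at hg'
    refine ⟨g', ?_⟩
    rw [hg']
    group
  have hinv1 : ∀ {T : Over S} (x y : T ⟶ E) (g : T ⟶ G),
      lift (x * (g ≫ u)) y ≫ m₀ = lift x y ≫ m₀ := by
    intro T x y g
    obtain ⟨g', hg'⟩ := hconj y g
    have h2 : (g ≫ u') * (y ≫ f) = (y ≫ f) * (g' ≫ u') := by
      rw [← hl, hg', hr]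
    symm
    apply hm_unique
    rw [hr, _root_.mul_assoc x, hg', ← _root_.mul_assoc x y, hr, ← hm₀pt x y]
    simp only [_root_.mul_assoc]
    rw [← _root_.mul_assoc (g ≫ u'), h2]
    simp only [_root_.mul_assoc]
    rw [← MonObj.mul_comp, ← MonObj.mul_comp, hcomm]
  -- descent to P ⊗ P
  have hcovvv : IsCov (v ⊗ₘ v).left := isCov_tensorHom hcovv hcovv
  have hepivv : Epi (v ⊗ₘ v) := epi_of_isCov_left hcovvv
  obtain ⟨c, hc⟩ := exists_desc_over hcovvv m₀ (by
    intro R a b hab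
    have ha : a = lift (a ≫ fst E E) (a ≫ snd E E) := by
      apply CartesianMonoidalCategory.hom_ext <;> simp
    have hb : b = lift (b ≫ fst E E) (b ≫ snd E E) := by
      apply CartesianMonoidalCategory.hom_ext <;> simp
    have e1 : (a ≫ fst E E) ≫ v = (b ≫ fst E E) ≫ v := by
      have := congrArg (fun k => k ≫ fst P P) hab
      simpa using this
    have e2 : (a ≫ snd E E) ≫ v = (b ≫ snd E E) ≫ v := by
      have := congrArg (fun k => k ≫ snd P P) hab
      simpa using this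
    obtain ⟨g1, hg1⟩ := exists_of_comp_eq u v hsq _ _ e1
    obtain ⟨g2, hg2⟩ := exists_of_comp_eq u v hsq _ _ e2
    rw [ha, hb, ← hg1, ← hg2, hinv1, hinv2])
  -- triviality of c on the axes
  have hc1 : lift (𝟙 P) (toUnit P ≫ η[P]) ≫ c = 1 := by
    rw [← cancel_epi v, MonObj.comp_one]
    have e : v ≫ lift (𝟙 P) (toUnit P ≫ η[P]) = lift (𝟙 E) (1 : E ⟶ E) ≫ (v ⊗ₘ v) := by
      apply CartesianMonoidalCategory.hom_ext
      · simp
      · have e1 : (v ≫ lift (𝟙 P) (toUnit P ≫ η[P])) ≫ snd P P = 1 := by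
          rw [Category.assoc, lift_snd, ← Hom.one_def, MonObj.comp_one]
        have e2 : (lift (𝟙 E) (1 : E ⟶ E) ≫ (v ⊗ₘ v)) ≫ snd P P = 1 := by
          rw [Category.assoc, tensorHom_snd, ← Category.assoc, lift_snd, MonObj.one_comp]
        rw [e1, e2]
    rw [← Category.assoc, e, Category.assoc, hc]
    symm
    apply hm_unique
    rw [hf1, MonObj.one_comp, _root_.mul_one, _root_.mul_one, _root_.mul_one]
  have hc2 : lift (toUnit P ≫ η[P]) (𝟙 P) ≫ c = 1 := by
    rw [← cancel_epi v, MonObj.comp_one]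
    have e : v ≫ lift (toUnit P ≫ η[P]) (𝟙 P) = lift (1 : E ⟶ E) (𝟙 E) ≫ (v ⊗ₘ v) := by
      apply CartesianMonoidalCategory.hom_ext
      · have e1 : (v ≫ lift (toUnit P ≫ η[P]) (𝟙 P)) ≫ fst P P = 1 := by
          rw [Category.assoc, lift_fst, ← Hom.one_def, MonObj.comp_one]
        have e2 : (lift (1 : E ⟶ E) (𝟙 E) ≫ (v ⊗ₘ v)) ≫ fst P P = 1 := by
          rw [Category.assoc, tensorHom_fst, ← Category.assoc, lift_fst, MonObj.one_comp]
        rw [e1, e2]
      · simp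
    rw [← Category.assoc, e, Category.assoc, hc]
    symm
    apply hm_unique
    rw [hf1, MonObj.one_comp, _root_.one_mul, _root_.one_mul, _root_.mul_one]
  have hcone := hPP c hc1 hc2
  have hm₀1 : m₀ = 1 := by rw [← hc, hcone, MonObj.comp_one]
  rw [hm₀1, MonObj.one_comp, _root_.mul_one] at hm₀
  refine ⟨h1, ?_⟩
  have e1 : μ[E] = fst E E * snd E E := by
    rw [Hom.mul_def, lift_fst_snd, Category.id_comp]
  have e2 : (f ⊗ₘ f) ≫ μ[E'] = (fst E E ≫ f) * (snd E E ≫ f) := by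
    rw [Hom.mul_def]
    congr 1
  rw [e1, e2, hm₀]

end Groth.Agent.Lib.Helper40.BitorsorHom
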