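import Mathlib
import Groth.Prelude.Def_W4bk4git07Quot

/-!
# A geometric quotient is a categorical quotient

Scheme-level argument: for `f : X ⟶ Y` surjective, submersive, with `O_Y → f_* O_X` injective
with image the invariant sections for a "relation" `σ, p : R ⇉ X` whose image is `X ×_Y X`
on points, every `g : X ⟶ Z` with `σ ≫ g = p ≫ g` factors uniquely through `f`.
-/

set_option autoImplicit false

universe u
open CategoryTheory CategoryTheory.Limits MonoidalCategory CartesianMonoidalCategory MonObj GrpObj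
  AlgebraicGeometry Topology

namespace Groth.Agent.Lib.Helper40.GeomQuotCat

/-! ### algebra -/

theorem exists_ringHom_factor {A B C : CommRingCat.{u}} (ρ : A ⟶ B) (τ : C ⟶ B)
    (hρ : Function.Injective ρ.hom) (h : ∀ c, τ.hom c ∈ Set.range ρ.hom) :
    ∃ r : C ⟶ A, r ≫ ρ = τ := by
  choose r₀ hr₀ using h
  let r : C →+* A :=
    { toFun := r₀
      map_one' := hρ (by rw [hr₀, map_one, map_one])
      map_mul' := fun x y => hρ (by rw [hr₀, map_mul, map_mul, hr₀, hr₀])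
      map_zero' := hρ (by rw [hr₀, map_zero, map_zero])
      map_add' := fun x y => hρ (by rw [hr₀, map_add, map_add, hr₀, hr₀]) }
  refine ⟨CommRingCat.ofHom r, ?_⟩
  ext c
  exact hr₀ c

/-! ### an epimorphism criterion -/

theorem ker_eq_bot_of_app_injective {X Y : Scheme.{u}} (r : X ⟶ Y)
    (hr : ∀ U : Y.Opens, IsAffineOpen U → Function.Injective (r.app U).hom) : r.ker = ⊥ := by
  ext U : 2
  refine le_antisymm ?_ bot_le
  refine (r.ideal_ker_le U).trans ?_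
  rw [(RingHom.injective_iff_ker_eq_bot _).mp (hr U.1 U.2)]
  simp

theorem eq_of_comp_eq_of_surjective_of_ker {X Y Z : Scheme.{u}} (f : X ⟶ Y)
    (hs : Function.Surjective f.base) (hk : f.ker = ⊥) (χ₁ χ₂ : Y ⟶ Z)
    (h : f ≫ χ₁ = f ≫ χ₂) : χ₁ = χ₂ := by
  have hl : equalizer.lift f h ≫ equalizer.ι χ₁ χ₂ = f := equalizer.lift_ι _ _
  have hsurj : Function.Surjective (equalizer.ι χ₁ χ₂).base := by
    intro y
    obtain ⟨x, rfl⟩ := hs y
    refine ⟨(equalizer.lift f h).base x, ?_⟩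
    have := congrArg (fun k => k.base x) hl
    exact this
  haveI : IsClosedImmersion (equalizer.ι χ₁ χ₂) :=
    IsClosedImmersion.of_isPreimmersion _ (by
      have : Set.range ⇑(equalizer.ι χ₁ χ₂) = Set.univ := hsurj.range_eq
      rw [this]; exact isClosed_univ)
  have hker : (equalizer.ι χ₁ χ₂).ker = ⊥ := by
    have h2 : (equalizer.ι χ₁ χ₂).ker ≤ (equalizer.lift f h ≫ equalizer.ι χ₁ χ₂).ker :=
      Scheme.Hom.le_ker_comp _ _
    rw [hl, hk] at h2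
    exact le_bot_iff.mp h2
  haveI : IsIso (equalizer.ι χ₁ χ₂) := IsClosedImmersion.isIso_iff_ker_eq_bot.mpr hker
  exact (cancel_epi (equalizer.ι χ₁ χ₂)).mp (equalizer.condition χ₁ χ₂)

/-- injectivity of sections is preserved by base change along an open immersion. -/
theorem app_injective_of_isPullback {X Y U V : Scheme.{u}} (f : X ⟶ Y) (f' : U ⟶ V) (iU : U ⟶ X)
    (iV : V ⟶ Y) [IsOpenImmersion iV] (H : IsPullback f' iU iV f)
    (hf : ∀ O : Y.Opens, Function.Injective (f.app O).hom) (W : V.Opens) :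
    Function.Injective (f'.app W).hom := by
  have : IsOpenImmersion iU := MorphismProperty.of_isPullback H inferInstance
  have e1 : iU ''ᵁ f' ⁻¹ᵁ W = f ⁻¹ᵁ iV ''ᵁ W :=
    IsOpenImmersion.image_preimage_eq_preimage_image_of_isPullback H W
  let e : Γ(X, f ⁻¹ᵁ iV ''ᵁ W) ≅ Γ(U, f' ⁻¹ᵁ W) :=
    X.presheaf.mapIso (eqToIso e1).op ≪≫ iU.appIso _
  have key : (iV.appIso W).inv ≫ f.app _ = f'.app W ≫ e.inv := by
    rw [Iso.inv_comp_eq, ← Category.assoc, Iso.eq_comp_inv]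
    simp only [Scheme.Hom.app_eq_appLE, Iso.trans_hom, Functor.mapIso_hom, Iso.op_hom, eqToIso.hom,
      eqToHom_op, Scheme.Hom.appIso_hom', Scheme.Hom.map_appLE, e, Scheme.Hom.appLE_comp_appLE, H.w]
  intro a b hab
  have h1 : ((iV.appIso W).inv ≫ f.app _).hom a = ((iV.appIso W).inv ≫ f.app _).hom b := by
    rw [key]
    show e.inv.hom ((f'.app W).hom a) = e.inv.hom ((f'.app W).hom b)
    rw [hab]
  have h2 : (iV.appIso W).inv.hom a = (iV.appIso W).inv.hom b := hf _ h1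
  exact (ConcreteCategory.bijective_of_isIso (iV.appIso W).inv).1 h2

theorem eq_of_pullback_snd_comp_eq {X Y P Z : Scheme.{u}} (f : X ⟶ Y)
    (hs : Function.Surjective f.base)
    (hf : ∀ O : Y.Opens, Function.Injective (f.app O).hom) (j : P ⟶ Y) [IsOpenImmersion j]
    (χ₁ χ₂ : P ⟶ Z) (h : pullback.snd f j ≫ χ₁ = pullback.snd f j ≫ χ₂) : χ₁ = χ₂ := by
  have H : IsPullback (pullback.snd f j) (pullback.fst f j) j f :=
    (IsPullback.of_hasPullback f j).flip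
  have hk : (pullback.snd f j).ker = ⊥ :=
    ker_eq_bot_of_app_injective _ (fun W _ => app_injective_of_isPullback f _ _ j H hf W)
  haveI : Surjective f := ⟨hs⟩
  have hs' : Function.Surjective (pullback.snd f j).base :=
    (inferInstance : Surjective (pullback.snd f j)).surj
  exact eq_of_comp_eq_of_surjective_of_ker _ hs' hk χ₁ χ₂ h

theorem appLE_congr {X Y : Scheme.{u}} {k₁ k₂ : X ⟶ Y} (hk : k₁ = k₂) (V : Y.Opens) (W : X.Opens)
    (e₁ : W ≤ k₁ ⁻¹ᵁ V) (e₂ : W ≤ k₂ ⁻¹ᵁ V) : k₁.appLE V W e₁ = k₂.appLE V W e₂ := by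
  subst hk; rfl

/-! ### the quotient data -/

/-- Scheme-level data of a geometric quotient `f : X ⟶ Y` of the relation `σ, p : R ⇉ X`. -/
structure QData {X Y R : Scheme.{u}} (f : X ⟶ Y) (σ p : R ⟶ X) : Prop where
  surj : Function.Surjective f.base
  orb : ∀ x x' : X, f.base x = f.base x' → ∃ w : R, σ.base w = x ∧ p.base w = x'
  quot : IsQuotientMap f.base
  inj : ∀ U : Y.Opens, Function.Injective (f.app U).hom
  sec : ∀ (U : Y.Opens) (t : Γ(X, f ⁻¹ᵁ U)),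
    σ.appLE (f ⁻¹ᵁ U) (σ ⁻¹ᵁ (f ⁻¹ᵁ U) ⊓ p ⁻¹ᵁ (f ⁻¹ᵁ U)) inf_le_left t =
      p.appLE (f ⁻¹ᵁ U) (σ ⁻¹ᵁ (f ⁻¹ᵁ U) ⊓ p ⁻¹ᵁ (f ⁻¹ᵁ U)) inf_le_right t →
    t ∈ Set.range (f.app U).hom

section Quot

variable {X Y R Z : Scheme.{u}} {f : X ⟶ Y} {σ p : R ⟶ X} (D : QData f σ p) (g : X ⟶ Z)
  (hg : σ ≫ g = p ≫ g)

include D hg in
theorem QData.sat (V : Z.Opens) :
    f.base ⁻¹' (f.base '' (g ⁻¹ᵁ V : Set X)) = (g ⁻¹ᵁ V : Set X) := by
  apply Set.Subset.antisymm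
  · rintro x ⟨x', hx', hxx'⟩
    obtain ⟨w, rfl, rfl⟩ := D.orb x x' hxx'.symm
    have e : g.base (σ.base w) = g.base (p.base w) := congrArg (fun k => k.base w) hg
    show g.base (σ.base w) ∈ V
    rw [e]; exact hx'
  · exact Set.subset_preimage_image _ _

/-- The open of `Y` which is the image of `g⁻¹ V`. -/
def QData.imgOpen (V : Z.Opens) : Y.Opens :=
  ⟨f.base '' (g ⁻¹ᵁ V : Set X), by
    rw [← D.quot.isOpen_preimage, D.sat g hg V]
    exact (g ⁻¹ᵁ V).2⟩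

theorem QData.preimage_imgOpen (V : Z.Opens) : f ⁻¹ᵁ (D.imgOpen g hg V) = g ⁻¹ᵁ V :=
  TopologicalSpace.Opens.ext (D.sat g hg V)

include D hg in
theorem QData.exists_local (U : Y.Opens) (V : Z.Opens) (hV : IsAffineOpen V)
    (e₀ : f ⁻¹ᵁ U ≤ g ⁻¹ᵁ V) :
    ∃ χ : U.toScheme ⟶ Z, pullback.snd f U.ι ≫ χ = pullback.fst f U.ι ≫ g := by
  have hrange : ∀ s, (g.appLE V (f ⁻¹ᵁ U) e₀).hom s ∈ Set.range (f.app U).hom := by
    intro s
    apply D.sec U
    have h1 := Scheme.Hom.appLE_comp_appLE σ g V (f ⁻¹ᵁ U)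
      (σ ⁻¹ᵁ (f ⁻¹ᵁ U) ⊓ p ⁻¹ᵁ (f ⁻¹ᵁ U)) e₀ inf_le_left
    have h2 := Scheme.Hom.appLE_comp_appLE p g V (f ⁻¹ᵁ U)
      (σ ⁻¹ᵁ (f ⁻¹ᵁ U) ⊓ p ⁻¹ᵁ (f ⁻¹ᵁ U)) e₀ inf_le_right
    have h4 := congrArg (fun k => k.hom s) (h1.trans ((appLE_congr hg V _ _ _).trans h2.symm))
    exact h4
  obtain ⟨r, hr⟩ := exists_ringHom_factor (f.app U) (g.appLE V (f ⁻¹ᵁ U) e₀) (D.inj U) hrange
  refine ⟨U.toSpecΓ ≫ Spec.map r ≫ hV.fromSpec, ?_⟩
  have hL : pullback.snd f U.ι = (pullbackRestrictIsoRestrict f U).hom ≫ f ∣_ U :=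
    (pullbackRestrictIsoRestrict_hom_morphismRestrict f U).symm
  have hF : pullback.fst f U.ι = (pullbackRestrictIsoRestrict f U).hom ≫ (f ⁻¹ᵁ U).ι :=
    (pullbackRestrictIsoRestrict_hom_ι f U).symm
  rw [hL, hF, Category.assoc, Category.assoc]
  congr 1
  calc f ∣_ U ≫ U.toSpecΓ ≫ Spec.map r ≫ hV.fromSpec
      = ((f ⁻¹ᵁ U).toSpecΓ ≫ Spec.map (f.app U)) ≫ Spec.map r ≫ hV.fromSpec := by
        rw [Scheme.Opens.toSpecΓ_naturality, Category.assoc]
    _ = (f ⁻¹ᵁ U).toSpecΓ ≫ Spec.map (r ≫ f.app U) ≫ hV.fromSpec := by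
        rw [Spec.map_comp, Category.assoc, Category.assoc]
    _ = (f ⁻¹ᵁ U).toSpecΓ ≫ Spec.map (g.appLE V (f ⁻¹ᵁ U) e₀) ≫ hV.fromSpec := by rw [hr]
    _ = (g.resLE V (f ⁻¹ᵁ U) e₀ ≫ V.toSpecΓ) ≫ hV.fromSpec := by
        rw [← Scheme.Opens.toSpecΓ_SpecMap_appLE, Category.assoc]
    _ = g.resLE V (f ⁻¹ᵁ U) e₀ ≫ V.ι := by rw [Category.assoc, hV.toSpecΓ_fromSpec]
    _ = (f ⁻¹ᵁ U).ι ≫ g := Scheme.Hom.resLE_comp_ι g e₀

include D in
theorem QData.compat {U U' : Y.Opens} {P : Scheme.{u}} (a : P ⟶ U.toScheme) (a' : P ⟶ U'.toScheme)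
    (w : a ≫ U.ι = a' ≫ U'.ι) [IsOpenImmersion (a ≫ U.ι)]
    (χ : U.toScheme ⟶ Z) (χ' : U'.toScheme ⟶ Z)
    (hχ : pullback.snd f U.ι ≫ χ = pullback.fst f U.ι ≫ g)
    (hχ' : pullback.snd f U'.ι ≫ χ' = pullback.fst f U'.ι ≫ g) :
    a ≫ χ = a' ≫ χ' := by
  apply eq_of_pullback_snd_comp_eq f D.surj D.inj (a ≫ U.ι)
  have c : pullback.fst f (a ≫ U.ι) ≫ f = pullback.snd f (a ≫ U.ι) ≫ a ≫ U.ι :=
    pullback.condition
  have c1 : pullback.fst f (a ≫ U.ι) ≫ f = (pullback.snd f (a ≫ U.ι) ≫ a) ≫ U.ι := by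
    rw [c, Category.assoc]
  have c2 : pullback.fst f (a ≫ U.ι) ≫ f = (pullback.snd f (a ≫ U.ι) ≫ a') ≫ U'.ι := by
    rw [c, w, Category.assoc]
  obtain ⟨m, m1, m2⟩ : ∃ m : pullback f (a ≫ U.ι) ⟶ pullback f U.ι,
      m ≫ pullback.fst f U.ι = pullback.fst f (a ≫ U.ι) ∧
      m ≫ pullback.snd f U.ι = pullback.snd f (a ≫ U.ι) ≫ a :=
    ⟨pullback.lift _ _ c1, pullback.lift_fst _ _ _, pullback.lift_snd _ _ _⟩
  obtain ⟨m', m1', m2'⟩ : ∃ m' : pullback f (a ≫ U.ι) ⟶ pullback f U'.ι,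
      m' ≫ pullback.fst f U'.ι = pullback.fst f (a ≫ U.ι) ∧
      m' ≫ pullback.snd f U'.ι = pullback.snd f (a ≫ U.ι) ≫ a' :=
    ⟨pullback.lift _ _ c2, pullback.lift_fst _ _ _, pullback.lift_snd _ _ _⟩
  calc pullback.snd f (a ≫ U.ι) ≫ a ≫ χ
      = (m ≫ pullback.snd f U.ι) ≫ χ := by rw [m2, Category.assoc]
    _ = m ≫ pullback.fst f U.ι ≫ g := by rw [Category.assoc, hχ]
    _ = pullback.fst f (a ≫ U.ι) ≫ g := by rw [← Category.assoc, m1]
    _ = m' ≫ pullback.fst f U'.ι ≫ g := by rw [← Category.assoc, m1']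
    _ = (m' ≫ pullback.snd f U'.ι) ≫ χ' := by rw [Category.assoc, hχ']
    _ = pullback.snd f (a ≫ U.ι) ≫ a' ≫ χ' := by rw [m2', Category.assoc]

include D hg in
theorem QData.exists_desc : ∃ χ : Y ⟶ Z, f ≫ χ = g := by
  classical
  let Uo : Z.affineOpens → Y.Opens := fun V => D.imgOpen g hg V.1
  have hcov : TopologicalSpace.IsOpenCover Uo := by
    apply TopologicalSpace.IsOpenCover.mk
    rw [eq_top_iff]
    intro y _
    obtain ⟨x, rfl⟩ := D.surj y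
    obtain ⟨_, ⟨V, hV, rfl⟩, hxV, -⟩ :=
      Z.isBasis_affineOpens.exists_subset_of_mem_open (Set.mem_univ (g.base x)) isOpen_univ
    exact TopologicalSpace.Opens.mem_iSup.mpr ⟨⟨V, hV⟩, ⟨x, hxV, rfl⟩⟩
  choose χV hχV using fun V : Z.affineOpens =>
    D.exists_local g hg (Uo V) V.1 V.2 (D.preimage_imgOpen g hg V.1).le
  have hcompat : ∀ V V' : Z.affineOpens,
      pullback.fst (Uo V).ι (Uo V').ι ≫ χV V = pullback.snd (Uo V).ι (Uo V').ι ≫ χV V' := by
    intro V V'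
    exact D.compat g (pullback.fst (Uo V).ι (Uo V').ι) (pullback.snd (Uo V).ι (Uo V').ι)
      pullback.condition (χV V) (χV V') (hχV V) (hχV V')
  refine ⟨(Y.openCoverOfIsOpenCover Uo hcov).glueMorphisms χV hcompat, ?_⟩
  apply ((Y.openCoverOfIsOpenCover Uo hcov).pullback₁ f).hom_ext
  intro V
  show pullback.fst f (Uo V).ι ≫ f ≫ _ = pullback.fst f (Uo V).ι ≫ g
  rw [← hχV V, pullback.condition_assoc]
  congr 1
  exact (Y.openCoverOfIsOpenCover Uo hcov).ι_glueMorphisms χV hcompat V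

end Quot

/-! ### geometric quotients -/

section Geom

variable {S : Scheme.{u}} {G X Y : Over S} [GrpObj G] (a : AlgGrp.Action G X) (φ : X ⟶ Y)

theorem qdata_of_isGeomQuot (h : GIT.IsGeomQuot a φ) :
    QData φ.left a.act.left (snd G X).left where
  surj := h.surj
  orb := by
    intro x x' hxx'
    obtain ⟨t, ht1, ht2⟩ :=
      Scheme.Pullback.exists_preimage_pullback (f := φ.left) (g := φ.left) x x' hxx'
    obtain ⟨w, hw⟩ := h.orbit t
    refine ⟨w, ?_, ?_⟩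
    · have e : GIT.PsiY a φ h.inv ≫ pullback.fst φ.left φ.left = a.act.left :=
        pullback.lift_fst _ _ _
      have e' := congrArg (fun k => k.base w) e
      calc a.act.left.base w
          = (pullback.fst φ.left φ.left).base ((GIT.PsiY a φ h.inv).base w) := e'.symm
        _ = (pullback.fst φ.left φ.left).base t := by rw [hw]
        _ = x := ht1
    · have e : GIT.PsiY a φ h.inv ≫ pullback.snd φ.left φ.left = (snd G X).left :=
        pullback.lift_snd _ _ _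
      have e' := congrArg (fun k => k.base w) e
      calc (snd G X).left.base w
          = (pullback.snd φ.left φ.left).base ((GIT.PsiY a φ h.inv).base w) := e'.symm
        _ = (pullback.snd φ.left φ.left).base t := by rw [hw]
        _ = x' := ht2
  quot := h.subm (𝟙 X.left) (𝟙 Y.left) φ.left (IsPullback.id_vert φ.left)
  inj := fun U => (h.sections U).1
  sec := fun U t ht => by
    have e := (h.sections U).2
    rw [Set.ext_iff] at e
    exact (e t).mpr ht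

theorem isCatQuot_of_isGeomQuot (h : GIT.IsGeomQuot a φ) : GIT.IsCatQuot a φ := by
  refine ⟨h.inv, ?_⟩
  intro Z ψ hψ
  have D := qdata_of_isGeomQuot a φ h
  have hψ' : a.act.left ≫ ψ.left = (snd G X).left ≫ ψ.left := hψ.left
  obtain ⟨χ', hχ'⟩ := D.exists_desc ψ.left hψ'
  have hk : φ.left.ker = ⊥ := ker_eq_bot_of_app_injective _ (fun U _ => D.inj U)
  have hover : χ' ≫ Z.hom = Y.hom := by
    apply eq_of_comp_eq_of_surjective_of_ker φ.left D.surj hk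
    rw [← Category.assoc, hχ', Over.w ψ, Over.w φ]
  refine ⟨Over.homMk χ' hover, ?_, ?_⟩
  · apply Over.OverMorphism.ext
    exact hχ'
  · intro χ₂ hχ₂
    apply Over.OverMorphism.ext
    apply eq_of_comp_eq_of_surjective_of_ker φ.left D.surj hk
    have e : (φ ≫ χ₂).left = ψ.left := congrArg CommaMorphism.left hχ₂
    show φ.left ≫ χ₂.left = φ.left ≫ χ'
    rw [hχ']; exact e

theorem result' (h : GIT.IsGeomQuot a φ) :
    GIT.IsCatQuot a φ ∧ (GIT.IsUnivGeomQuot a φ → GIT.IsUnivCatQuot a φ) := by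
  refine ⟨isCatQuot_of_isGeomQuot a φ h, ?_⟩
  intro hu
  refine ⟨isCatQuot_of_isGeomQuot a φ h, ?_⟩
  intro X' Y' pr φ' g hQ hpb a' heq hinv'
  exact isCatQuot_of_isGeomQuot a' φ' (hu.2 pr φ' g hQ hpb a' heq hinv')

end Geom

end Groth.Agent.Lib.Helper40.GeomQuotCat
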