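import Mathlib
import Groth.Agent.Lib.Helper40.GeomQuotCat

/-!
# Descending a morphism along a topological quotient with injective sections

`f : X ⟶ Y` surjective, a quotient map, `O_Y → f_* O_X` injective.  A morphism `g : X ⟶ Z`
which is constant on the fibres of `f` and whose pulled back functions come from `Y`
factors through `f`.
-/

set_option autoImplicit false

universe u
open CategoryTheory CategoryTheory.Limits AlgebraicGeometry Topology

namespace Groth.Agent.Lib.Helper40.QuotDesc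

open Groth.Agent.Lib.Helper40.GeomQuotCat

/-- Topological quotient with injective sections. -/
structure TData {X Y : Scheme.{u}} (f : X ⟶ Y) : Prop where
  surj : Function.Surjective f.base
  quot : IsQuotientMap f.base
  inj : ∀ U : Y.Opens, Function.Injective (f.app U).hom

theorem TData.ker {X Y : Scheme.{u}} {f : X ⟶ Y} (D : TData f) : f.ker = ⊥ :=
  ker_eq_bot_of_app_injective _ (fun U _ => D.inj U)

theorem TData.cancel {X Y Z : Scheme.{u}} {f : X ⟶ Y} (D : TData f) (χ₁ χ₂ : Y ⟶ Z)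
    (h : f ≫ χ₁ = f ≫ χ₂) : χ₁ = χ₂ :=
  eq_of_comp_eq_of_surjective_of_ker f D.surj D.ker χ₁ χ₂ h

/-- A closed map with injective sections is surjective. -/
theorem surjective_of_app_injective {X Y : Scheme.{u}} (f : X ⟶ Y) (hc : IsClosedMap f.base)
    (hinj : ∀ U : Y.Opens, Function.Injective (f.app U).hom) : Function.Surjective f.base := by
  let U : Y.Opens := ⟨(Set.range f.base)ᶜ, hc.isClosed_range.isOpen_compl⟩
  have hU : f ⁻¹ᵁ U = ⊥ := eq_bot_iff.mpr (fun x hx => ((hx : f.base x ∈ (Set.range f.base)ᶜ) ⟨x, rfl⟩).elim)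
  haveI hsub : Subsingleton Γ(X, f ⁻¹ᵁ U) := by rw [hU]; infer_instance
  have h01 : (1 : Γ(Y, U)) = 0 := hinj U (Subsingleton.elim _ _)
  have hbot : U = ⊥ := by rw [← Y.basicOpen_one (U := U), h01, Y.basicOpen_zero]
  intro y
  by_contra hy
  have hyU : y ∈ U := hy
  rw [hbot] at hyU
  exact hyU

theorem TData.of_isClosedMap {X Y : Scheme.{u}} (f : X ⟶ Y) (hc : IsClosedMap f.base)
    (hinj : ∀ U : Y.Opens, Function.Injective (f.app U).hom) : TData f where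
  surj := surjective_of_app_injective f hc hinj
  quot := hc.isQuotientMap f.base.hom.continuous (surjective_of_app_injective f hc hinj)
  inj := hinj

section Desc

variable {X Y Z : Scheme.{u}} {f : X ⟶ Y} (D : TData f) (g : X ⟶ Z)
  (hfib : ∀ x x' : X, f.base x = f.base x' → g.base x = g.base x')

include hfib in
theorem sat (V : Z.Opens) :
    f.base ⁻¹' (f.base '' (g ⁻¹ᵁ V : Set X)) = (g ⁻¹ᵁ V : Set X) := by
  apply Set.Subset.antisymm
  · rintro x ⟨x', hx', hxx'⟩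
    have e : g.base x = g.base x' := hfib x x' hxx'.symm
    show g.base x ∈ V
    rw [e]; exact hx'
  · exact Set.subset_preimage_image _ _

/-- The open of `Y` which is the image of `g⁻¹ V`. -/
def imgOpen (V : Z.Opens) : Y.Opens :=
  ⟨f.base '' (g ⁻¹ᵁ V : Set X), by
    rw [← D.quot.isOpen_preimage, sat g hfib V]
    exact (g ⁻¹ᵁ V).2⟩

theorem preimage_imgOpen (V : Z.Opens) : f ⁻¹ᵁ (imgOpen D g hfib V) = g ⁻¹ᵁ V :=
  TopologicalSpace.Opens.ext (sat g hfib V)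

include D in
theorem exists_local (U : Y.Opens) (V : Z.Opens) (hV : IsAffineOpen V)
    (e₀ : f ⁻¹ᵁ U ≤ g ⁻¹ᵁ V)
    (hrange : ∀ s, (g.appLE V (f ⁻¹ᵁ U) e₀).hom s ∈ Set.range (f.app U).hom) :
    ∃ χ : U.toScheme ⟶ Z, pullback.snd f U.ι ≫ χ = pullback.fst f U.ι ≫ g := by
  obtain ⟨r, hr⟩ := exists_ringHom_factor (f.app U) (g.appLE V (f ⁻¹ᵁ U) e₀) (D.inj U) hrange
  refine ⟨U.toSpecΓ ≫ Spec.map r ≫ hV.fromSpec, ?_⟩
  have hL : pullback.snd f U.ι = (pullbackRestrictIsoRestrict f U).hom ≫ f ∣_ U :=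
    (pullbackRestrictIsoRestrict_hom_morphismRestrict f U).symm
  have hF : pullback.fst f U.ι = (pullbackRestrictIsoRestrict f U).hom ≫ (f ⁻¹ᵁ U).ι :=
    (pullbackRestrictIsoRestrict_hom_ι f U).symm
  rw [hL, hF, Category.assoc, Category.assoc]
  congr 1
  calc f ∣_ U ≫ U.toSpecΓ ≫ Spec.map r ≫ hV.fromSpec
      = ((f ⁻¹ᵁ U).toSpecΓ ≫ Spec.map (f.app U)) ≫ Spec.map r ≫ hV.fromSpec := by
        rw [Scheme.Opens.toSpecΓ_naturality, Category.assoc]
    _ = (f ⁻¹ᵁ U).toSpecΓ ≫ Spec.map (r ≫ f.app U) ≫ hV.fromSpec := by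
        rw [Spec.map_comp, Category.assoc, Category.assoc]
    _ = (f ⁻¹ᵁ U).toSpecΓ ≫ Spec.map (g.appLE V (f ⁻¹ᵁ U) e₀) ≫ hV.fromSpec := by rw [hr]
    _ = (g.resLE V (f ⁻¹ᵁ U) e₀ ≫ V.toSpecΓ) ≫ hV.fromSpec := by
        rw [← Scheme.Opens.toSpecΓ_SpecMap_appLE, Category.assoc]
    _ = g.resLE V (f ⁻¹ᵁ U) e₀ ≫ V.ι := by rw [Category.assoc, hV.toSpecΓ_fromSpec]
    _ = (f ⁻¹ᵁ U).ι ≫ g := Scheme.Hom.resLE_comp_ι g e₀

include D in
theorem compat {U U' : Y.Opens} {P : Scheme.{u}} (a : P ⟶ U.toScheme) (a' : P ⟶ U'.toScheme)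
    (w : a ≫ U.ι = a' ≫ U'.ι) [IsOpenImmersion (a ≫ U.ι)]
    (χ : U.toScheme ⟶ Z) (χ' : U'.toScheme ⟶ Z)
    (hχ : pullback.snd f U.ι ≫ χ = pullback.fst f U.ι ≫ g)
    (hχ' : pullback.snd f U'.ι ≫ χ' = pullback.fst f U'.ι ≫ g) :
    a ≫ χ = a' ≫ χ' := by
  apply eq_of_pullback_snd_comp_eq f D.surj D.inj (a ≫ U.ι)
  have c : pullback.fst f (a ≫ U.ι) ≫ f = pullback.snd f (a ≫ U.ι) ≫ a ≫ U.ι :=
    pullback.condition
  have c1 : pullback.fst f (a ≫ U.ι) ≫ f = (pullback.snd f (a ≫ U.ι) ≫ a) ≫ U.ι := by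
    rw [c, Category.assoc]
  have c2 : pullback.fst f (a ≫ U.ι) ≫ f = (pullback.snd f (a ≫ U.ι) ≫ a') ≫ U'.ι := by
    rw [c, w, Category.assoc]
  obtain ⟨m, m1, m2⟩ : ∃ m : pullback f (a ≫ U.ι) ⟶ pullback f U.ι,
      m ≫ pullback.fst f U.ι = pullback.fst f (a ≫ U.ι) ∧
      m ≫ pullback.snd f U.ι = pullback.snd f (a ≫ U.ι) ≫ a :=
    ⟨pullback.lift _ _ c1, pullback.lift_fst _ _ _, pullback.lift_snd _ _ _⟩
  obtain ⟨m', m1', m2'⟩ : ∃ m' : pullback f (a ≫ U.ι) ⟶ pullback f U'.ι,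
      m' ≫ pullback.fst f U'.ι = pullback.fst f (a ≫ U.ι) ∧
      m' ≫ pullback.snd f U'.ι = pullback.snd f (a ≫ U.ι) ≫ a' :=
    ⟨pullback.lift _ _ c2, pullback.lift_fst _ _ _, pullback.lift_snd _ _ _⟩
  calc pullback.snd f (a ≫ U.ι) ≫ a ≫ χ
      = (m ≫ pullback.snd f U.ι) ≫ χ := by rw [m2, Category.assoc]
    _ = m ≫ pullback.fst f U.ι ≫ g := by rw [Category.assoc, hχ]
    _ = pullback.fst f (a ≫ U.ι) ≫ g := by rw [← Category.assoc, m1]
    _ = m' ≫ pullback.fst f U'.ι ≫ g := by rw [← Category.assoc, m1']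
    _ = (m' ≫ pullback.snd f U'.ι) ≫ χ' := by rw [Category.assoc, hχ']
    _ = pullback.snd f (a ≫ U.ι) ≫ a' ≫ χ' := by rw [m2', Category.assoc]

include D hfib in
theorem exists_desc
    (hrange : ∀ (U : Y.Opens) (V : Z.Opens) (e₀ : f ⁻¹ᵁ U ≤ g ⁻¹ᵁ V) (s : Γ(Z, V)),
      (g.appLE V (f ⁻¹ᵁ U) e₀).hom s ∈ Set.range (f.app U).hom) :
    ∃ χ : Y ⟶ Z, f ≫ χ = g := by
  classical
  let Uo : Z.affineOpens → Y.Opens := fun V => imgOpen D g hfib V.1
  have hcov : TopologicalSpace.IsOpenCover Uo := by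
    apply TopologicalSpace.IsOpenCover.mk
    rw [eq_top_iff]
    intro y _
    obtain ⟨x, rfl⟩ := D.surj y
    obtain ⟨_, ⟨V, hV, rfl⟩, hxV, -⟩ :=
      Z.isBasis_affineOpens.exists_subset_of_mem_open (Set.mem_univ (g.base x)) isOpen_univ
    exact TopologicalSpace.Opens.mem_iSup.mpr ⟨⟨V, hV⟩, ⟨x, hxV, rfl⟩⟩
  choose χV hχV using fun V : Z.affineOpens =>
    exists_local D g (Uo V) V.1 V.2 (preimage_imgOpen D g hfib V.1).le
      (hrange (Uo V) V.1 (preimage_imgOpen D g hfib V.1).le)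
  have hcompat : ∀ V V' : Z.affineOpens,
      pullback.fst (Uo V).ι (Uo V').ι ≫ χV V = pullback.snd (Uo V).ι (Uo V').ι ≫ χV V' := by
    intro V V'
    exact compat D g (pullback.fst (Uo V).ι (Uo V').ι) (pullback.snd (Uo V).ι (Uo V').ι)
      pullback.condition (χV V) (χV V') (hχV V) (hχV V')
  refine ⟨(Y.openCoverOfIsOpenCover Uo hcov).glueMorphisms χV hcompat, ?_⟩
  apply ((Y.openCoverOfIsOpenCover Uo hcov).pullback₁ f).hom_ext
  intro V
  show pullback.fst f (Uo V).ι ≫ f ≫ _ = pullback.fst f (Uo V).ι ≫ g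
  rw [← hχV V, pullback.condition_assoc]
  congr 1
  exact (Y.openCoverOfIsOpenCover Uo hcov).ι_glueMorphisms χV hcompat V

end Desc

end Groth.Agent.Lib.Helper40.QuotDesc
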