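import Mathlib
import Groth.Prelude.Def_AlgGrp
import Groth.Prelude.Def_ChGrp

/-!
# Automorphisms of a principal bundle are given by equivariant maps to the group
-/

set_option autoImplicit false

universe u
open CategoryTheory MonoidalCategory CartesianMonoidalCategory MonObj GrpObj AlgebraicGeometry
  CategoryTheory.Limits

namespace Groth.Agent.Lib.Helper40.BundleAut

variable {S : Scheme.{u}} {G X Y : Over S} [GrpObj G] (a : AlgGrp.Action G X) (π : X ⟶ Y)

theorem exists_unique_gauge (hcart : IsPullback (snd G X) a.act π π)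
    (φ : X ⟶ X) (hφ : φ ≫ π = π) (hφeq : (G ◁ φ) ≫ a.act = a.act ≫ φ) :
    ∃! f : X ⟶ G, (∀ (T : Over S) (g : T ⟶ G) (x : T ⟶ X),
        lift g x ≫ a.act ≫ f = g * (x ≫ f) * g⁻¹) ∧ φ = lift f (𝟙 X) ≫ a.act := by
  have w : 𝟙 X ≫ π = φ ≫ π := by rw [Category.id_comp, hφ]
  obtain ⟨u, hu1, hu2⟩ : ∃ u : X ⟶ G ⊗ X, u ≫ snd G X = 𝟙 X ∧ u ≫ a.act = φ :=
    ⟨hcart.lift (𝟙 X) φ w, hcart.lift_fst _ _ _, hcart.lift_snd _ _ _⟩
  obtain ⟨f, hf⟩ : ∃ f : X ⟶ G, f = u ≫ fst G X := ⟨_, rfl⟩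
  have huf : u = lift f (𝟙 X) := by
    apply CartesianMonoidalCategory.hom_ext
    · rw [lift_fst, hf]
    · rw [lift_snd, hu1]
  have hφf : φ = lift f (𝟙 X) ≫ a.act := by rw [← huf, hu2]
  have jm : ∀ {T : Over S} (p q : T ⟶ G) (y : T ⟶ X),
      lift p y ≫ a.act = lift q y ≫ a.act → p = q := by
    intro T p q y h
    have e : lift p y = lift q y := by
      apply hcart.hom_ext
      · rw [lift_snd, lift_snd]
      · exact h
    have e' := congrArg (fun k => k ≫ fst G X) e
    simpa using e'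
  refine ⟨f, ⟨?_, hφf⟩, ?_⟩
  · intro T g x
    have L : lift (lift g x ≫ a.act ≫ f) (lift g x ≫ a.act) ≫ a.act
        = (lift g x ≫ a.act) ≫ φ := by
      have e : lift (lift g x ≫ a.act ≫ f) (lift g x ≫ a.act)
          = (lift g x ≫ a.act) ≫ lift f (𝟙 X) := by
        rw [comp_lift, Category.comp_id, Category.assoc]
      rw [e, Category.assoc, ← hφf]
    have R : lift (g * (x ≫ f) * g⁻¹) (lift g x ≫ a.act) ≫ a.act
        = (lift g x ≫ a.act) ≫ φ := by
      rw [a.lift_mul_act, a.lift_mul_act]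
      have e1 : lift g⁻¹ (lift g x ≫ a.act) ≫ a.act = x := by
        rw [← a.lift_mul_act, inv_mul_cancel, a.lift_one_act]
      rw [e1]
      have e2 : lift (x ≫ f) x ≫ a.act = x ≫ φ := by
        have e : lift (x ≫ f) x = x ≫ lift f (𝟙 X) := by rw [comp_lift, Category.comp_id]
        rw [e, Category.assoc, ← hφf]
      rw [e2]
      have e3 : lift g (x ≫ φ) = lift g x ≫ (G ◁ φ) := by rw [lift_whiskerLeft]
      rw [e3, Category.assoc, hφeq, Category.assoc]
    exact jm _ _ _ (L.trans R.symm)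
  · rintro f' ⟨-, hf'⟩
    have e : lift f' (𝟙 X) = u := by
      apply hcart.hom_ext
      · rw [lift_snd, hu1]
      · rw [← hf', hu2]
    have e' := congrArg (fun k => k ≫ fst G X) e
    simp only [lift_fst] at e'
    rw [hf]
    exact e'

end Groth.Agent.Lib.Helper40.BundleAut
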