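import Mathlib
import Groth.Prelude.Def_W4bk4git07Quot
import Groth.Agent.Lib.Helper40.QuotDesc

/-!
# Categorical quotients from invariant functions and closed images (Mumford GIT 0.2, Remark 6)
-/

set_option autoImplicit false

universe u
open CategoryTheory CategoryTheory.Limits MonoidalCategory CartesianMonoidalCategory MonObj GrpObj
  AlgebraicGeometry Topology

namespace Groth.Agent.Lib.Helper40.CatQuotClosed

open Groth.Agent.Lib.Helper40.QuotDesc Groth.Agent.Lib.Helper40.GeomQuotCat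

section General

variable {X Y Z : Scheme.{u}} {f : X ⟶ Y} (D : TData f) (g : X ⟶ Z)

include D in
theorem exists_desc_of_cover {J : Type u} (Uo : J → Y.Opens) (Vo : J → Z.Opens)
    (hV : ∀ i, IsAffineOpen (Vo i)) (hcov : TopologicalSpace.IsOpenCover Uo)
    (e₀ : ∀ i, f ⁻¹ᵁ Uo i ≤ g ⁻¹ᵁ Vo i)
    (hrange : ∀ i s, (g.appLE (Vo i) (f ⁻¹ᵁ Uo i) (e₀ i)).hom s ∈
      Set.range (f.app (Uo i)).hom) :
    ∃ χ : Y ⟶ Z, f ≫ χ = g := by
  choose χV hχV using fun i => exists_local D g (Uo i) (Vo i) (hV i) (e₀ i) (hrange i)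
  have hcompat : ∀ i j,
      pullback.fst (Uo i).ι (Uo j).ι ≫ χV i = pullback.snd (Uo i).ι (Uo j).ι ≫ χV j :=
    fun i j => compat D g (pullback.fst (Uo i).ι (Uo j).ι) (pullback.snd (Uo i).ι (Uo j).ι)
      pullback.condition (χV i) (χV j) (hχV i) (hχV j)
  refine ⟨(Y.openCoverOfIsOpenCover Uo hcov).glueMorphisms χV hcompat, ?_⟩
  apply ((Y.openCoverOfIsOpenCover Uo hcov).pullback₁ f).hom_ext
  intro i
  show pullback.fst f (Uo i).ι ≫ f ≫ _ = pullback.fst f (Uo i).ι ≫ g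
  rw [← hχV i, pullback.condition_assoc]
  congr 1
  exact (Y.openCoverOfIsOpenCover Uo hcov).ι_glueMorphisms χV hcompat i

end General

section Geom

variable {S : Scheme.{u}} {G X Y : Over S} [GrpObj G] (a : AlgGrp.Action G X) (φ : X ⟶ Y)

theorem result' (hi : GIT.IsInvariant a φ)
    (hii : ∀ U : Y.left.Opens,
      Function.Injective (φ.left.app U) ∧ Set.range (φ.left.app U) = {f | GIT.IsInvSection a φ U f})
    (hiii : ∀ W : Set X.left, IsClosed W → a.act.left.base '' ((snd G X).left.base ⁻¹' W) ⊆ W →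
      IsClosed (φ.left.base '' W))
    (hiii' : ∀ (J : Type u) (W : J → Set X.left),
      (∀ i, IsClosed (W i) ∧ a.act.left.base '' ((snd G X).left.base ⁻¹' W i) ⊆ W i) →
      φ.left.base '' (⋂ i, W i) = ⋂ i, φ.left.base '' W i) :
    GIT.IsCatQuot a φ ∧ IsQuotientMap φ.left.base := by
  have hsurj : Function.Surjective φ.left.base := by
    have h := hiii' PEmpty (fun i => PEmpty.elim i) (fun i => PEmpty.elim i)
    simp only [Set.iInter_of_empty, Set.image_univ] at h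
    exact Set.range_eq_univ.mp h
  have hpt : ∀ w, φ.left.base (a.act.left.base w) = φ.left.base ((snd G X).left.base w) :=
    fun w => congrArg (fun k => k.base w) hi.left
  have hquot : IsQuotientMap φ.left.base := by
    refine isQuotientMap_iff_isClosed.mpr ⟨hsurj, fun s =>
      ⟨fun hs => hs.preimage φ.left.base.hom.continuous, fun hs => ?_⟩⟩
    have hinv : a.act.left.base '' ((snd G X).left.base ⁻¹' (φ.left.base ⁻¹' s)) ⊆
        φ.left.base ⁻¹' s := by
      rintro _ ⟨w, hw, rfl⟩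
      show φ.left.base (a.act.left.base w) ∈ s
      rw [hpt w]; exact hw
    have h := hiii _ hs hinv
    rwa [Set.image_preimage_eq s hsurj] at h
  have D : TData φ.left := ⟨hsurj, hquot, fun U => (hii U).1⟩
  refine ⟨⟨hi, ?_⟩, hquot⟩
  intro Z ψ hψ
  have hψ' : a.act.left ≫ ψ.left = (snd G X).left ≫ ψ.left := hψ.left
  have hψpt : ∀ w, ψ.left.base (a.act.left.base w) = ψ.left.base ((snd G X).left.base w) :=
    fun w => congrArg (fun k => k.base w) hψ'
  let Wc : Z.left.affineOpens → Set X.left := fun V => (ψ.left ⁻¹ᵁ V.1 : Set X.left)ᶜ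
  have hWc : ∀ V, IsClosed (Wc V) ∧
      a.act.left.base '' ((snd G X).left.base ⁻¹' Wc V) ⊆ Wc V := by
    intro V
    refine ⟨(ψ.left ⁻¹ᵁ V.1).2.isClosed_compl, ?_⟩
    rintro _ ⟨w, hw, rfl⟩
    intro hmem
    apply hw
    show ψ.left.base ((snd G X).left.base w) ∈ V.1
    rw [← hψpt w]; exact hmem
  let Uo : Z.left.affineOpens → Y.left.Opens := fun V =>
    ⟨(φ.left.base '' Wc V)ᶜ, (hiii _ (hWc V).1 (hWc V).2).isOpen_compl⟩
  have hcov : TopologicalSpace.IsOpenCover Uo := by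
    apply TopologicalSpace.IsOpenCover.mk
    rw [eq_top_iff]
    intro y _
    by_contra hy
    have hall : y ∈ ⋂ V, φ.left.base '' Wc V := by
      rw [Set.mem_iInter]
      intro V
      by_contra hV
      exact hy (TopologicalSpace.Opens.mem_iSup.mpr ⟨V, hV⟩)
    rw [← hiii' _ Wc hWc] at hall
    obtain ⟨x, hx, -⟩ := hall
    obtain ⟨_, ⟨V, hV, rfl⟩, hxV, -⟩ :=
      Z.left.isBasis_affineOpens.exists_subset_of_mem_open
        (Set.mem_univ (ψ.left.base x)) isOpen_univ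
    exact (Set.mem_iInter.mp hx ⟨V, hV⟩) hxV
  have e₀ : ∀ V, φ.left ⁻¹ᵁ Uo V ≤ ψ.left ⁻¹ᵁ V.1 := by
    intro V x hx
    by_contra hxV
    exact hx ⟨x, hxV, rfl⟩
  have hrange : ∀ V s, (ψ.left.appLE V.1 (φ.left ⁻¹ᵁ Uo V) (e₀ V)).hom s ∈
      Set.range (φ.left.app (Uo V)).hom := by
    intro V s
    have e := (hii (Uo V)).2
    rw [Set.ext_iff] at e
    have h1 := Scheme.Hom.appLE_comp_appLE a.act.left ψ.left V.1 (φ.left ⁻¹ᵁ Uo V)
      (a.act.left ⁻¹ᵁ (φ.left ⁻¹ᵁ Uo V) ⊓ (snd G X).left ⁻¹ᵁ (φ.left ⁻¹ᵁ Uo V)) (e₀ V) inf_le_left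
    have h2 := Scheme.Hom.appLE_comp_appLE (snd G X).left ψ.left V.1 (φ.left ⁻¹ᵁ Uo V)
      (a.act.left ⁻¹ᵁ (φ.left ⁻¹ᵁ Uo V) ⊓ (snd G X).left ⁻¹ᵁ (φ.left ⁻¹ᵁ Uo V)) (e₀ V) inf_le_right
    have h4 := congrArg (fun k => k.hom s)
      (h1.trans ((appLE_congr hψ' V.1 _ _ _).trans h2.symm))
    exact (e _).mpr h4
  obtain ⟨χ', hχ'⟩ := exists_desc_of_cover D ψ.left Uo (fun V => V.1) (fun V => V.2) hcov e₀ hrange
  have hover : χ' ≫ Z.hom = Y.hom := by
    apply D.cancel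
    rw [← Category.assoc, hχ', Over.w ψ, Over.w φ]
  refine ⟨Over.homMk χ' hover, ?_, ?_⟩
  · apply Over.OverMorphism.ext
    exact hχ'
  · intro χ₂ hχ₂
    apply Over.OverMorphism.ext
    apply D.cancel
    have e : (φ ≫ χ₂).left = ψ.left := congrArg CommaMorphism.left hχ₂
    show φ.left ≫ χ₂.left = φ.left ≫ χ'
    rw [hχ']; exact e

end Geom

end Groth.Agent.Lib.Helper40.CatQuotClosed
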