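import Mathlib
import Groth.Agent.Lib.Helper40.QuotDesc

/-!
# The locus where a morphism collapses the fibres of a proper morphism with `O_S = ξ_* O_X` (helper40)
-/

set_option autoImplicit false

universe u
open CategoryTheory CategoryTheory.Limits AlgebraicGeometry Topology

namespace Groth.Agent.Lib.Helper40.Collapse

open Groth.Agent.Lib.Helper40.QuotDesc

theorem bij_comp {A B C : CommRingCat.{u}} (a : A ⟶ B) (b : B ⟶ C)
    (ha : Function.Bijective a.hom) (hb : Function.Bijective b.hom) :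
    Function.Bijective (a ≫ b).hom := by
  rw [CommRingCat.hom_comp]
  exact hb.comp ha

theorem bij_iso {A B : CommRingCat.{u}} (a : A ⟶ B) [IsIso a] : Function.Bijective a.hom :=
  ConcreteCategory.bijective_of_isIso a

theorem bij_map_eqToHom (X : Scheme.{u}) {U V : X.Opens} (h : U = V) :
    Function.Bijective (X.presheaf.map (eqToHom h).op).hom := by
  subst h
  rw [eqToHom_refl, op_id, X.presheaf.map_id]
  exact Function.bijective_id

theorem bij_app_iso {X Y : Scheme.{u}} (e : X ≅ Y) (U : Y.Opens) :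
    Function.Bijective (e.hom.app U).hom := by
  haveI : IsIso e.hom := inferInstance
  haveI : IsIso (e.hom.app U) := inferInstance
  exact bij_iso _

variable {X Y S : Scheme.{u}} (ξ : X ⟶ S) (f : X ⟶ Y)

theorem bijective_app_snd (h0 : ∀ U : S.Opens, Function.Bijective (ξ.app U).hom) (U : S.Opens)
    (W' : U.toScheme.Opens) : Function.Bijective ((pullback.snd ξ U.ι).app W').hom := by
  have e : pullback.snd ξ U.ι = (pullbackRestrictIsoRestrict ξ U).hom ≫ ξ ∣_ U :=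
    (pullbackRestrictIsoRestrict_hom_morphismRestrict ξ U).symm
  rw [Scheme.Hom.congr_app e W']
  refine bij_comp _ _ ?_ (bij_map_eqToHom _ _)
  rw [Scheme.Hom.comp_app]
  refine bij_comp _ _ ?_ (bij_app_iso _ _)
  rw [morphismRestrict_app]
  exact bij_comp _ _ (h0 _) (bij_map_eqToHom _ _)

/-- the collapsed locus -/
def C : Set ↥S := {s : ↥S | ∃ y : ↥Y, ∀ x : ↥X, ξ.base x = s → f.base x = y}

theorem exists_local_factor [IsProper ξ] (h0 : ∀ U : S.Opens, Function.Bijective (ξ.app U).hom)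
    (s : ↥S) (hs : s ∈ C ξ f) :
    ∃ (W : S.Opens) (_ : s ∈ W) (χ : W.toScheme ⟶ Y),
      pullback.snd ξ W.ι ≫ χ = pullback.fst ξ W.ι ≫ f := by
  obtain ⟨y, hy⟩ := hs
  obtain ⟨_, ⟨V, hV, rfl⟩, hyV, -⟩ :=
    Y.isBasis_affineOpens.exists_subset_of_mem_open (Set.mem_univ y) isOpen_univ
  have D : TData ξ := TData.of_isClosedMap ξ ξ.isClosedMap (fun U => (h0 U).1)
  obtain ⟨F, hFdef⟩ : ∃ F : Set ↥X, F = ((f ⁻¹ᵁ V : X.Opens) : Set ↥X)ᶜ := ⟨_, rfl⟩
  have hF : IsClosed F := by rw [hFdef]; exact (f ⁻¹ᵁ V).2.isClosed_compl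
  have hWo : IsOpen (ξ.base '' F)ᶜ := (ξ.isClosedMap _ hF).isOpen_compl
  obtain ⟨W, hWdef⟩ : ∃ W : S.Opens, (W : Set ↥S) = (ξ.base '' F)ᶜ := ⟨⟨_, hWo⟩, rfl⟩
  have hmemW : ∀ t : ↥S, t ∈ W ↔ t ∉ ξ.base '' F := by
    intro t
    rw [← SetLike.mem_coe, hWdef]
    rfl
  have hsW : s ∈ W := by
    rw [hmemW]
    rintro ⟨x, hxF, hxs⟩
    rw [hFdef] at hxF
    exact hxF (show f.base x ∈ V by rw [hy x hxs]; exact hyV)
  have e₀ : ξ ⁻¹ᵁ W ≤ f ⁻¹ᵁ V := by
    intro x hx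
    by_contra hxV
    have hx' : ξ.base x ∈ W := hx
    rw [hmemW] at hx'
    exact hx' ⟨x, by rw [hFdef]; exact hxV, rfl⟩
  obtain ⟨χ, hχ⟩ := exists_local D f W V hV e₀ (fun t => (h0 W).2 _)
  exact ⟨W, hsW, χ, hχ⟩

theorem apply_eq_of_factor (W : S.Opens) (χ : W.toScheme ⟶ Y)
    (hχ : pullback.snd ξ W.ι ≫ χ = pullback.fst ξ W.ι ≫ f) (x : ↥X) (hx : ξ.base x ∈ W) :
    f.base x = χ.base ⟨ξ.base x, hx⟩ := by
  obtain ⟨x', hx'1, hx'2⟩ := Scheme.Pullback.exists_preimage_pullback (f := ξ) (g := W.ι) x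
    ⟨ξ.base x, hx⟩ rfl
  have h : (pullback.fst ξ W.ι ≫ f).base x' = (pullback.snd ξ W.ι ≫ χ).base x' := by rw [hχ]
  have h2 : f.base ((pullback.fst ξ W.ι).base x') = χ.base ((pullback.snd ξ W.ι).base x') := h
  rw [hx'1, hx'2] at h2
  exact h2

theorem isOpen_C [IsProper ξ] (h0 : ∀ U : S.Opens, Function.Bijective (ξ.app U).hom) :
    IsOpen (C ξ f) := by
  rw [isOpen_iff_forall_mem_open]
  intro s hs
  obtain ⟨W, hsW, χ, hχ⟩ := exists_local_factor ξ f h0 s hs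
  refine ⟨W, ?_, W.2, hsW⟩
  intro s' hs'
  refine ⟨χ.base ⟨s', hs'⟩, fun x hx => ?_⟩
  have hxW : ξ.base x ∈ W := by rw [hx]; exact hs'
  rw [apply_eq_of_factor ξ f W χ hχ x hxW]
  congr 1
  exact Subtype.ext hx

/-- global factorization over the collapsed locus -/
theorem exists_factor [IsProper ξ] (h0 : ∀ U : S.Opens, Function.Bijective (ξ.app U).hom)
    (Uo : S.Opens) (hUo : (Uo : Set ↥S) = C ξ f) :
    ∃ σ : Uo.toScheme ⟶ Y, pullback.snd ξ Uo.ι ≫ σ = pullback.fst ξ Uo.ι ≫ f := by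
  have D' : TData (pullback.snd ξ Uo.ι) :=
    TData.of_isClosedMap _ (pullback.snd ξ Uo.ι).isClosedMap
      (fun W' => (bijective_app_snd ξ h0 Uo W').1)
  refine exists_desc D' (pullback.fst ξ Uo.ι ≫ f) ?_ ?_
  · intro x x' hxx'
    have hc : ∀ z : ↥(pullback ξ Uo.ι),
        ξ.base ((pullback.fst ξ Uo.ι).base z) = ((pullback.snd ξ Uo.ι).base z).1 := by
      intro z
      have h : (pullback.fst ξ Uo.ι ≫ ξ).base z = (pullback.snd ξ Uo.ι ≫ Uo.ι).base z := by
        rw [pullback.condition]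
      exact h
    have hmem : ((pullback.snd ξ Uo.ι).base x).1 ∈ C ξ f := by
      rw [← hUo]
      exact ((pullback.snd ξ Uo.ι).base x).2
    obtain ⟨y, hy⟩ := hmem
    have h1 : f.base ((pullback.fst ξ Uo.ι).base x) = y := hy _ (hc x)
    have h2 : f.base ((pullback.fst ξ Uo.ι).base x') = y := hy _ (by rw [hc x', ← hxx'])
    show f.base ((pullback.fst ξ Uo.ι).base x) = f.base ((pullback.fst ξ Uo.ι).base x')
    rw [h1, h2]
  · intro U V e₀ t
    exact (bijective_app_snd ξ h0 Uo U).2 _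

end Groth.Agent.Lib.Helper40.Collapse
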