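import Mathlib
import Groth.Agent.Lib.Helper40.FpqcCovOver

/-!
# Factoring through a closed immersion on a scheme-theoretically dense part
-/

set_option autoImplicit false
open CategoryTheory CategoryTheory.Limits AlgebraicGeometry MonoidalCategory CartesianMonoidalCategory
universe u

namespace Groth.Agent.Lib.Helper40.DenseFactor

theorem exists_factor_of_schemeDominant {D W X Z : Scheme.{u}} (d : D ⟶ W)
    [IsSchemeTheoreticallyDominant d] (c : Z ⟶ X) [IsClosedImmersion c] (φ : W ⟶ X) (ψ : D ⟶ Z)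
    (h : d ≫ φ = ψ ≫ c) : ∃ χ : W ⟶ Z, χ ≫ c = φ := by
  have hle : (pullback.fst φ c).ker ≤ (pullback.lift d ψ h ≫ pullback.fst φ c).ker :=
    Scheme.Hom.le_ker_comp _ _
  rw [pullback.lift_fst, IsSchemeTheoreticallyDominant.ker_eq_bot d, le_bot_iff] at hle
  haveI : IsIso (pullback.fst φ c) := IsClosedImmersion.isIso_iff_ker_eq_bot.mpr hle
  exact ⟨inv (pullback.fst φ c) ≫ pullback.snd φ c, by
    rw [Category.assoc, ← pullback.condition, IsIso.inv_hom_id_assoc]⟩

theorem exists_factor_over {S : Scheme.{u}} {D W X Z : Over S} (d : D ⟶ W)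
    [IsSchemeTheoreticallyDominant d.left] (c : Z ⟶ X) [IsClosedImmersion c.left] (φ : W ⟶ X)
    (ψ : D ⟶ Z) (h : d ≫ φ = ψ ≫ c) : ∃ χ : W ⟶ Z, χ ≫ c = φ := by
  have h' : d.left ≫ φ.left = ψ.left ≫ c.left := by
    rw [← Over.comp_left, ← Over.comp_left, h]
  obtain ⟨χ₀, hχ₀⟩ := exists_factor_of_schemeDominant d.left c.left φ.left ψ.left h'
  refine ⟨Over.homMk χ₀ ?_, ?_⟩
  · rw [← Over.w c, ← Category.assoc, hχ₀, Over.w φ]
  · ext
    exact hχ₀

theorem mono_of_isClosedImmersion_left {S : Scheme.{u}} {X Z : Over S} (c : Z ⟶ X)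
    [IsClosedImmersion c.left] : Mono c := by
  haveI : Mono ((Over.forget S).map c) := inferInstanceAs (Mono c.left)
  exact (Over.forget S).mono_of_mono_map this

/-- Over a field, `i ▷ T` is scheme-theoretically dominant if `i` is (quasi-compact). -/
theorem dominant_whiskerRight {k : Type u} [Field k] {G M : Over (Spec (CommRingCat.of k))}
    (i : G ⟶ M) [IsSchemeTheoreticallyDominant i.left] [QuasiCompact i.left]
    (T : Over (Spec (CommRingCat.of k))) : IsSchemeTheoreticallyDominant (i ▷ T).left := by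
  have sq : IsPullback (i ▷ T).left (fst G T).left (fst M T).left i.left :=
    (Groth.Agent.Lib.Helper40.FpqcCov.isPullback_whiskerRight i T).map (Over.forget _)
  haveI : Flat T.hom := inferInstance
  haveI : Flat (fst M T).left := by
    rw [Over.fst_left]
    infer_instance
  exact IsSchemeTheoreticallyDominant.of_isPullback sq.flip

end Groth.Agent.Lib.Helper40.DenseFactor
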