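import Mathlib

/-!
# `U · V = G` for dense opens of a group scheme (core argument)

If `g` is a point of a group scheme `G` over `S`, `K'` an `S`-scheme all of whose points map to `g`
under a morphism `K' ⟶ G`, and the projection `G × K' ⟶ G` is open and surjective, then `g` is a
product of a point of `U` and a point of `V` for any dense opens `U, V`.
-/

set_option autoImplicit false

universe u
open CategoryTheory CategoryTheory.Limits MonoidalCategory CartesianMonoidalCategory MonObj GrpObj
  AlgebraicGeometry

namespace Groth.Agent.Lib.Helper40.DenseMul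

theorem exists_mul_of_dense {S : Scheme.{u}} (G : Over S) [GrpObj G] (U V : G.left.Opens)
    (hU : Dense (U : Set G.left)) (hV : Dense (V : Set G.left)) (g : G.left)
    (K' : Over S) (gK : K' ⟶ G) (hpt : ∀ t : K'.left, gK.left.base t = g)
    (hopen : IsOpenMap (fst G K').left.base)
    (hsurj : Function.Surjective (fst G K').left.base) :
    ∃ z : ↥(G ⊗ G).left, (fst G G).left.base z ∈ U ∧ (snd G G).left.base z ∈ V ∧
      μ[G].left.base z = g := by
  let a : G ⊗ K' ⟶ G := fst G K'
  let c : G ⊗ K' ⟶ G := snd G K' ≫ gK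
  let ψ : G ⊗ K' ⟶ G := a⁻¹ * c
  let τ : G ⊗ K' ⟶ G ⊗ G := lift a ψ
  let θ : G ⊗ K' ⟶ G ⊗ K' := lift ψ (snd G K')
  let θ' : G ⊗ K' ⟶ G ⊗ K' := lift (c * a⁻¹) (snd G K')
  have hθ'a : θ' ≫ a = c * a⁻¹ := lift_fst _ _
  have hθ'c : θ' ≫ c = c := by
    show θ' ≫ snd G K' ≫ gK = snd G K' ≫ gK
    rw [← Category.assoc, lift_snd]
  have hθθ : θ' ≫ θ = 𝟙 _ := by
    apply CartesianMonoidalCategory.hom_ext
    · rw [Category.assoc, lift_fst, Category.id_comp]
      show θ' ≫ (a⁻¹ * c) = a
      rw [MonObj.comp_mul, GrpObj.comp_inv, hθ'a, hθ'c]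
      group
    · rw [Category.assoc, lift_snd, lift_snd, Category.id_comp]
  have hψ : θ ≫ a = ψ := lift_fst _ _
  have hθsurj : Function.Surjective θ.left.base := by
    intro t
    refine ⟨θ'.left.base t, ?_⟩
    have := congrArg (fun f => f.left.base t) hθθ
    simpa using this
  have hψsurj : Function.Surjective ψ.left.base := by
    rw [← hψ]
    intro x
    obtain ⟨t, ht⟩ := hsurj x
    obtain ⟨t', ht'⟩ := hθsurj t
    refine ⟨t', ?_⟩
    rw [← ht, ← ht']
    simp [a]
  -- the two open sets
  have hA : Dense (a.left.base ⁻¹' (U : Set G.left)) := hU.preimage hopen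
  have hBo : IsOpen (ψ.left.base ⁻¹' (V : Set G.left)) :=
    V.isOpen.preimage ψ.left.base.hom.continuous
  have hBn : (ψ.left.base ⁻¹' (V : Set G.left)).Nonempty := by
    have : Nonempty G.left := ⟨g⟩
    obtain ⟨v, hv⟩ := hV.nonempty
    obtain ⟨t, rfl⟩ := hψsurj v
    exact ⟨t, hv⟩
  obtain ⟨t, htB, htA⟩ := hA.inter_open_nonempty _ hBo hBn
  refine ⟨τ.left.base t, ?_, ?_, ?_⟩
  · have : τ ≫ fst G G = a := lift_fst _ _
    have h2 := congrArg (fun f => f.left.base t) this
    simp only [Over.comp_left, Scheme.Hom.comp_base, TopCat.comp_app] at h2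
    rw [h2]
    exact htA
  · have : τ ≫ snd G G = ψ := lift_snd _ _
    have h2 := congrArg (fun f => f.left.base t) this
    simp only [Over.comp_left, Scheme.Hom.comp_base, TopCat.comp_app] at h2
    rw [h2]
    exact htB
  · have : τ ≫ μ[G] = c := by
      show a * (a⁻¹ * c) = c
      group
    have h2 := congrArg (fun f => f.left.base t) this
    simp only [Over.comp_left, Scheme.Hom.comp_base, TopCat.comp_app] at h2
    rw [h2]
    exact hpt _


/-- Over a field: any point of a group scheme is a product of a point of `U` and a point of `V`,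
for dense opens `U`, `V`. -/
theorem exists_mul_of_dense_field (k : Type u) [Field k] (G : Over (Spec (CommRingCat.of k)))
    [GrpObj G] (U V : G.left.Opens) (hU : Dense (U : Set G.left)) (hV : Dense (V : Set G.left))
    (g : G.left) :
    ∃ z : ↥(G ⊗ G).left, (fst G G).left.base z ∈ U ∧ (snd G G).left.base z ∈ V ∧
      μ[G].left.base z = g := by
  let K' : Over (Spec (CommRingCat.of k)) := Over.mk (G.left.fromSpecResidueField g ≫ G.hom)
  let gK : K' ⟶ G := Over.homMk (G.left.fromSpecResidueField g) rfl
  have hpt : ∀ t : K'.left, gK.left.base t = g := by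
    intro t
    exact Scheme.fromSpecResidueField_apply g t
  have hne : Nonempty K'.left := by
    show Nonempty (Spec (G.left.residueField g))
    infer_instance
  have hsurjK : Surjective K'.hom := by
    refine ⟨fun y => ?_⟩
    obtain ⟨t⟩ := hne
    exact ⟨t, Subsingleton.elim _ _⟩
  have huo : UniversallyOpen K'.hom := inferInstance
  have hfst : (fst G K').left = pullback.fst G.hom K'.hom := rfl
  have hopen : IsOpenMap (fst G K').left.base := by
    rw [hfst]
    exact (pullback.fst G.hom K'.hom).isOpenMap
  have hsurj : Function.Surjective (fst G K').left.base := by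
    rw [hfst]
    exact (pullback.fst G.hom K'.hom).surjective
  exact exists_mul_of_dense G U V hU hV g K' gK hpt hopen hsurj

end Groth.Agent.Lib.Helper40.DenseMul
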