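import Mathlib
import Groth.Prelude.Def_W4c1extbt15Mult
import Groth.Prelude.Def_CGrpSh
import Groth.Agent.Lib.Helper40.CGrpShApi

/-!
# Helpers for multilinear morphisms of group schemes (`MultSch`) and local arguments on the big site
-/

set_option autoImplicit false
open CategoryTheory CategoryTheory.Limits AlgebraicGeometry Opposite MonObj
open CartesianMonoidalCategory
universe u v

namespace Groth.Agent.Lib.Helper40.MultSchApi

section Sieves

variable {C : Type*} [Category C]

/-- The sieve of arrows lying in all the sieves `s l`, `l ∈ F`. -/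
def sieveForall {T : C} {κ : Type*} (F : Finset κ) (s : κ → Sieve T) : Sieve T where
  arrows T' g := ∀ l ∈ F, s l g
  downward_closed := fun h g l hl => (s l).downward_closed (h l hl) g

theorem sieveForall_mem (J : GrothendieckTopology C) {T : C} {κ : Type*} [DecidableEq κ]
    (F : Finset κ) (s : κ → Sieve T) (h : ∀ l ∈ F, s l ∈ J T) : sieveForall F s ∈ J T := by
  induction F using Finset.induction_on with
  | empty =>
    convert J.top_mem T
    ext T' g
    simp [sieveForall]
  | insert a F ha ih =>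
    have h1 := ih (fun l hl => h l (Finset.mem_insert_of_mem hl))
    have h2 := h a (Finset.mem_insert_self a F)
    refine J.superset_covering ?_ (J.intersection_covering h2 h1)
    rintro T' g ⟨hg1, hg2⟩ l hl
    rcases Finset.mem_insert.mp hl with rfl | hl
    · exact hg1
    · exact hg2 l hl

/-- In a subcanonical topology, morphisms that agree on a covering sieve are equal. -/
theorem eq_of_locally_eq (J : GrothendieckTopology C) [J.Subcanonical] {T A : C} (u v : T ⟶ A)
    (E : Sieve T) (hE : E ∈ J T) (h : ∀ (T' : C) (g : T' ⟶ T), E g → g ≫ u = g ≫ v) : u = v := by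
  have hsh := GrothendieckTopology.Subcanonical.isSheaf_of_isRepresentable (J := J) (yoneda.obj A)
  exact (hsh.isSheafFor E (by rwa [Sieve.generate_sieve])).isSeparatedFor.ext
    (fun T' g hg => h T' g hg)

/-- The sieve on `B` of arrows that lift through `e : A ⟶ B`. -/
def liftSieve' {A B : C} (e : A ⟶ B) : Sieve B where
  arrows T g := ∃ a : T ⟶ A, a ≫ e = g
  downward_closed := by
    rintro T T' g ⟨a, rfl⟩ h
    exact ⟨h ≫ a, Category.assoc _ _ _⟩

/-- Descent of morphisms along a morphism which is locally surjective on points, for a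
subcanonical topology. -/
theorem existsUnique_desc_of_liftSieve_mem (J : GrothendieckTopology C) [J.Subcanonical]
    {A B N : C} (e : A ⟶ B) (he : liftSieve' e ∈ J B) (f : A ⟶ N)
    (hf : ∀ (T : C) (a₁ a₂ : T ⟶ A), a₁ ≫ e = a₂ ≫ e → a₁ ≫ f = a₂ ≫ f) :
    ∃! f' : B ⟶ N, e ≫ f' = f := by
  have hsh := GrothendieckTopology.Subcanonical.isSheaf_of_isRepresentable (J := J) (yoneda.obj N)
  have hE : Presieve.IsSheafFor (yoneda.obj N) (liftSieve' e).arrows :=
    hsh (liftSieve' e) he
  let x : Presieve.FamilyOfElements (yoneda.obj N) (liftSieve' e).arrows :=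
    fun T g hg => (Classical.choose hg) ≫ f
  have hx : ∀ {T : C} (g : T ⟶ B) (hg : (liftSieve' e).arrows g) (a : T ⟶ A), a ≫ e = g →
      x g hg = a ≫ f := by
    intro T g hg a ha
    exact hf T _ _ ((Classical.choose_spec hg).trans ha.symm)
  have hcompat : x.Compatible := by
    intro T₁ T₂ Z h₁ h₂ g₁ g₂ hg₁ hg₂ hcomm
    change h₁ ≫ x g₁ hg₁ = h₂ ≫ x g₂ hg₂
    obtain ⟨a₁, ha₁⟩ := hg₁
    obtain ⟨a₂, ha₂⟩ := hg₂
    rw [hx g₁ _ a₁ ha₁, hx g₂ _ a₂ ha₂, ← Category.assoc, ← Category.assoc]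
    apply hf
    rw [Category.assoc, Category.assoc, ha₁, ha₂, hcomm]
  obtain ⟨f', hf', huniq⟩ := hE x hcompat
  have hfac : ∀ {T : C} (a : T ⟶ A), (a ≫ e) ≫ f' = a ≫ f := by
    intro T a
    have h1 := hf' (a ≫ e) ⟨a, rfl⟩
    change (a ≫ e) ≫ f' = _ at h1
    rw [h1, hx (a ≫ e) ⟨a, rfl⟩ a rfl]
  refine ⟨f', by simpa using hfac (𝟙 A), ?_⟩
  intro f'' hf''
  apply huniq
  intro T g hg
  obtain ⟨a, rfl⟩ := hg
  change (a ≫ e) ≫ f'' = _
  rw [Category.assoc, hf'', hx (a ≫ e) ⟨a, rfl⟩ a rfl]

end Sieves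

section Tuple

variable {C : Type u} [Category.{v} C] [CartesianMonoidalCategory C]

theorem comp_tuple {M T T' : C} (g : T' ⟶ T) :
    ∀ {n : ℕ} (x : Fin n → (T ⟶ M)), g ≫ MultSch.tuple x = MultSch.tuple (fun l => g ≫ x l)
  | 0, _ => toUnit_unique _ _
  | n + 1, x => by
    change g ≫ lift (x 0) (MultSch.tuple fun i => x i.succ) = lift (g ≫ x 0) (MultSch.tuple fun i => g ≫ x i.succ)
    rw [comp_lift, comp_tuple g]

/-- The coordinate projections of `pow M n`. -/
noncomputable def proj (M : C) : {n : ℕ} → Fin n → (MultSch.pow M n ⟶ M)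
  | 0, l => l.elim0
  | _ + 1, l => Fin.cases (fst M _) (fun l' => snd M _ ≫ proj M l') l

theorem tuple_proj {M T : C} : ∀ {n : ℕ} (x : Fin n → (T ⟶ M)) (l : Fin n),
    MultSch.tuple x ≫ proj M l = x l
  | 0, _, l => l.elim0
  | n + 1, x, l => by
    refine Fin.cases ?_ (fun l' => ?_) l
    · change lift (x 0) (MultSch.tuple fun i => x i.succ) ≫ fst M _ = x 0
      rw [lift_fst]
    · change lift (x 0) (MultSch.tuple fun i => x i.succ) ≫ snd M _ ≫ proj M l' = x l'.succ
      rw [lift_snd_assoc, tuple_proj]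

theorem eq_tuple_proj {M T : C} : ∀ {n : ℕ} (a : T ⟶ MultSch.pow M n),
    a = MultSch.tuple (fun l => a ≫ proj M l)
  | 0, a => toUnit_unique _ _
  | n + 1, a => by
    change a = lift (a ≫ fst M _) (MultSch.tuple fun i : Fin n => a ≫ snd M _ ≫ proj M i)
    apply CartesianMonoidalCategory.hom_ext
    · rw [lift_fst]
      rfl
    · rw [lift_snd]
      exact (eq_tuple_proj (a ≫ snd M (MultSch.pow M n))).trans
        (congrArg MultSch.tuple (funext fun l => Category.assoc _ _ _))

theorem tuple_ext {M T : C} {n : ℕ} (a b : T ⟶ MultSch.pow M n)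
    (h : ∀ l, a ≫ proj M l = b ≫ proj M l) : a = b := by
  rw [eq_tuple_proj a, eq_tuple_proj b]
  congr 1
  funext l
  exact h l

/-- The map `M^n ⟶ M'^n` induced by `f : M ⟶ M'`. -/
noncomputable def powMap {M M' : C} (f : M ⟶ M') (n : ℕ) : MultSch.pow M n ⟶ MultSch.pow M' n :=
  MultSch.tuple (fun l => proj M l ≫ f)

theorem tuple_powMap {M M' T : C} (f : M ⟶ M') {n : ℕ} (x : Fin n → (T ⟶ M)) :
    MultSch.tuple x ≫ powMap f n = MultSch.tuple (fun l => x l ≫ f) := by
  unfold powMap
  rw [comp_tuple]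
  congr 1
  funext l
  rw [← Category.assoc, tuple_proj]

end Tuple

end Groth.Agent.Lib.Helper40.MultSchApi
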