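import Mathlib
import Groth.Prelude.Def_Magnet
import Groth.Agent.Lib.Helper40.MultSchApi

/-!
# The functor of equivariant maps `T ↦ {B ⊗ T ⟶ X equivariant}` is a sheaf

For any subcanonical topology on a cartesian monoidal category.
-/

set_option autoImplicit false
open CategoryTheory CategoryTheory.Limits MonoidalCategory CartesianMonoidalCategory MonObj Opposite
open Magnet

universe v₁ u₁

namespace Groth.Agent.Lib.Helper40.EqvHomSheaf

variable {C : Type u₁} [Category.{v₁} C] [CartesianMonoidalCategory C]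
  (J : GrothendieckTopology C) [J.Subcanonical] {A B X : C} [MonObj A]
  (ρ : MonAct A B) (a : MonAct A X)

theorem isSheaf_eqvHom : Presieve.IsSheaf J (MonAct.eqvHom ρ a) := by
  intro T R hR
  have hsh := GrothendieckTopology.Subcanonical.isSheaf_of_isRepresentable (J := J) (yoneda.obj X)
  intro x hx
  rw [Presieve.compatible_iff_sieveCompatible] at hx
  have hcongr : ∀ {Y : C} (f f' : Y ⟶ T) (_ : f = f') (h : R f) (h' : R f'),
      x f h = x f' h' := by
    intro Y f f' e h h'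
    subst e
    rfl
  have hR' : R.pullback (snd B T) ∈ J (B ⊗ T) := J.pullback_stable (snd B T) hR
  let y : Presieve.FamilyOfElements (yoneda.obj X) (R.pullback (snd B T)).arrows :=
    fun W w hw => lift (w ≫ fst B T) (𝟙 W) ≫ (x (w ≫ snd B T) hw).1
  have hy : y.Compatible := by
    rw [Presieve.compatible_iff_sieveCompatible]
    intro W W' w g hw
    have hw' : R ((g ≫ w) ≫ snd B T) := (R.pullback (snd B T)).downward_closed hw g
    have e1 : x ((g ≫ w) ≫ snd B T) hw' =
        (MonAct.eqvHom ρ a).map g.op (x (w ≫ snd B T) hw) := by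
      rw [← hx]
      exact hcongr _ _ (Category.assoc _ _ _) _ _
    change lift ((g ≫ w) ≫ fst B T) (𝟙 W') ≫ (x ((g ≫ w) ≫ snd B T) hw').1 =
      g ≫ lift (w ≫ fst B T) (𝟙 W) ≫ (x (w ≫ snd B T) hw).1
    rw [e1, MonAct.eqvHom_map_coe, ← Category.assoc, ← Category.assoc, lift_whiskerLeft, comp_lift]
    simp
  obtain ⟨φ, hφ, hφuniq⟩ := hsh _ hR' y hy
  have hφ' : ∀ {W : C} (w : W ⟶ B ⊗ T) (hw : R (w ≫ snd B T)),
      w ≫ φ = lift (w ≫ fst B T) (𝟙 W) ≫ (x (w ≫ snd B T) hw).1 := fun w hw => hφ w hw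
  have h3 : ∀ {Y : C} (t : Y ⟶ T) (ht : R t), (B ◁ t) ≫ φ = (x t ht).1 := by
    intro Y t ht
    have hmem : R ((B ◁ t) ≫ snd B T) := by
      rw [whiskerLeft_snd]
      exact R.downward_closed ht _
    have e1 : x ((B ◁ t) ≫ snd B T) hmem = (MonAct.eqvHom ρ a).map (snd B Y).op (x t ht) := by
      rw [← hx]
      exact hcongr _ _ (whiskerLeft_snd _ _) _ _
    rw [hφ' (B ◁ t) hmem, e1, MonAct.eqvHom_map_coe, whiskerLeft_fst, ← Category.assoc,
      lift_whiskerLeft]
    simp
  have heq : MonAct.IsEquivariant (ρ.prod (MonAct.trivial A T)) a φ := by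
    rw [MonAct.mem_eqvHom_iff]
    intro T' g b t
    apply MultSchApi.eq_of_locally_eq J _ _ (R.pullback t) (J.pullback_stable t hR)
    intro T'' s hs
    have hs' : R (s ≫ t) := hs
    have hxs := (x (s ≫ t) hs').2
    rw [MonAct.mem_eqvHom_iff] at hxs
    have key : ∀ (β : T'' ⟶ B), lift β (s ≫ t) ≫ φ = lift β (𝟙 T'') ≫ (x (s ≫ t) hs').1 := by
      intro β
      rw [← h3 (s ≫ t) hs', ← Category.assoc, lift_whiskerLeft, Category.id_comp]
    have hL : s ≫ lift (lift g b ≫ ρ.act) t ≫ φ =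
        lift (lift (s ≫ g) (s ≫ b) ≫ ρ.act) (𝟙 T'') ≫ (x (s ≫ t) hs').1 := by
      rw [← Category.assoc, comp_lift, key, ← Category.assoc, comp_lift]
    have hRr : s ≫ lift g (lift b t ≫ φ) ≫ a.act =
        lift (s ≫ g) (lift (s ≫ b) (𝟙 T'') ≫ (x (s ≫ t) hs').1) ≫ a.act := by
      rw [← Category.assoc, comp_lift, ← Category.assoc, comp_lift, key]
    rw [hL, hRr]
    exact hxs _ _ _ _
  refine ⟨⟨φ, heq⟩, ?_, ?_⟩
  · intro Y t ht
    apply Subtype.ext
    rw [MonAct.eqvHom_map_coe]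
    exact h3 t ht
  · intro ψ hψ
    apply Subtype.ext
    apply hφuniq
    intro W w hw
    have hw' : R (w ≫ snd B T) := hw
    have h1 := congrArg Subtype.val (hψ (w ≫ snd B T) hw')
    rw [MonAct.eqvHom_map_coe] at h1
    change w ≫ ψ.1 = lift (w ≫ fst B T) (𝟙 W) ≫ (x (w ≫ snd B T) hw').1
    rw [← h1, ← Category.assoc, lift_whiskerLeft]
    simp

end Groth.Agent.Lib.Helper40.EqvHomSheaf
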