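import Mathlib
import Groth.Agent.Lib.Helper24.CompTop

/-!
# The fibre of the affinization of a proper scheme over a field through a rational point
is the connected component of that point (helper40)
-/

universe u

open CategoryTheory CategoryTheory.Limits AlgebraicGeometry Opposite

namespace Groth.Agent.Lib.Helper40.ProperComp

section Alg

variable {K R : Type*} [Field K] [CommRing R]

/-- For a ring integral over a field, zero loci of single elements are clopen. -/
theorem isClopen_zeroLocus (φ : K →+* R) (hφ : φ.IsIntegral) (f : R) :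
    IsClopen (PrimeSpectrum.zeroLocus ({f} : Set R)) := by
  refine ⟨PrimeSpectrum.isClosed_zeroLocus _, ?_⟩
  obtain ⟨P, hPm, hP0⟩ := hφ f
  have hPne : P ≠ 0 := hPm.ne_zero
  obtain ⟨Q, hPQ, hQ⟩ :=
    Polynomial.exists_eq_pow_rootMultiplicity_mul_and_not_dvd P hPne (0 : K)
  obtain ⟨m, hm⟩ : ∃ m : ℕ, m = Polynomial.rootMultiplicity (0 : K) P := ⟨_, rfl⟩
  rw [← hm] at hPQ
  have hX : (Polynomial.X - Polynomial.C (0 : K)) = Polynomial.X := by simp
  rw [hX] at hPQ hQ
  have hc : Q.coeff 0 ≠ 0 := fun h => hQ (Polynomial.X_dvd_iff.mpr h)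
  obtain ⟨g, hg⟩ : ∃ g : R, g = Polynomial.eval₂ φ f Q := ⟨_, rfl⟩
  obtain ⟨g', hg'⟩ : ∃ g' : R, g' = Polynomial.eval₂ φ f Q.divX := ⟨_, rfl⟩
  have h1 : f ^ m * g = 0 := by
    rw [hg, ← hP0, hPQ, Polynomial.eval₂_mul, Polynomial.eval₂_pow, Polynomial.eval₂_X]
  have h2 : g = g' * f + φ (Q.coeff 0) := by
    rw [hg, hg']
    conv_lhs => rw [← Polynomial.divX_mul_X_add Q]
    rw [Polynomial.eval₂_add, Polynomial.eval₂_mul, Polynomial.eval₂_X, Polynomial.eval₂_C]
  have hu : IsUnit (φ (Q.coeff 0)) := (IsUnit.mk0 _ hc).map φ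
  have heq : PrimeSpectrum.zeroLocus ({f} : Set R) =
      (PrimeSpectrum.zeroLocus ({g} : Set R))ᶜ := by
    ext x
    simp only [PrimeSpectrum.mem_zeroLocus, Set.singleton_subset_iff, SetLike.mem_coe,
      Set.mem_compl_iff]
    constructor
    · intro hf hgx
      apply x.2.ne_top
      apply Ideal.eq_top_of_isUnit_mem _ _ hu
      have e : φ (Q.coeff 0) = g - g' * f := by rw [h2]; ring
      rw [e]
      exact x.asIdeal.sub_mem hgx (x.asIdeal.mul_mem_left _ hf)
    · intro hgx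
      have hmem : f ^ m * g ∈ x.asIdeal := by rw [h1]; exact x.asIdeal.zero_mem
      rcases x.2.mem_or_mem hmem with h | h
      · exact x.2.mem_of_pow_mem _ h
      · exact absurd h hgx
  rw [heq]
  exact (PrimeSpectrum.isClosed_zeroLocus _).isOpen_compl

/-- For a ring integral over a field, preconnected subsets of the spectrum are subsingletons. -/
theorem eq_of_isPreconnected (φ : K →+* R) (hφ : φ.IsIntegral) {S : Set (PrimeSpectrum R)}
    (hS : _root_.IsPreconnected S) {p q : PrimeSpectrum R} (hp : p ∈ S) (hq : q ∈ S) : p = q := by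
  have key : ∀ p q : PrimeSpectrum R, p ∈ S → q ∈ S → p.asIdeal ≤ q.asIdeal := by
    intro p q hp hq f hf
    have hcl := isClopen_zeroLocus φ hφ f
    have hpm : p ∈ PrimeSpectrum.zeroLocus ({f} : Set R) := by
      rw [PrimeSpectrum.mem_zeroLocus, Set.singleton_subset_iff]; exact hf
    have hsub : S ⊆ PrimeSpectrum.zeroLocus ({f} : Set R) :=
      hS.subset_isClopen hcl ⟨p, hp, hpm⟩
    have hqm := hsub hq
    rw [PrimeSpectrum.mem_zeroLocus, Set.singleton_subset_iff] at hqm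
    exact hqm
  exact PrimeSpectrum.ext (le_antisymm (key p q hp hq) (key q p hq hp))

end Alg

section Sec

/-- A clopen subset of a scheme is cut out by a global section (an idempotent): `s` vanishes
on `C` and is invertible off `C`. -/
theorem exists_section_of_isClopen (X : Scheme.{u}) (C : Set X) (hC : IsClopen C) :
    ∃ s : Γ(X, ⊤), (∀ x, x ∈ C → x ∉ X.basicOpen s) ∧ (∀ x, x ∉ C → x ∈ X.basicOpen s) := by
  obtain ⟨U₁, hU₁⟩ : ∃ U₁ : X.Opens, (U₁ : Set X) = C := ⟨⟨C, hC.isOpen⟩, rfl⟩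
  obtain ⟨U₂, hU₂⟩ : ∃ U₂ : X.Opens, (U₂ : Set X) = Cᶜ := ⟨⟨Cᶜ, hC.compl.isOpen⟩, rfl⟩
  have hmem₁ : ∀ x, x ∈ U₁ ↔ x ∈ C := fun x => by
    rw [← hU₁]; rfl
  have hmem₂ : ∀ x, x ∈ U₂ ↔ x ∉ C := fun x => by
    rw [← Set.mem_compl_iff, ← hU₂]; rfl
  have hbot : U₂ ⊓ U₁ = ⊥ := by
    ext x
    constructor
    · rintro ⟨h2, h1⟩
      exact ((hmem₂ x).mp h2 ((hmem₁ x).mp h1)).elim
    · intro h
      exact (by simpa using h : False).elim
  have hbot' : U₁ ⊓ U₂ = ⊥ := by rw [inf_comm]; exact hbot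
  let U : Bool → X.Opens := fun b => Bool.rec U₂ U₁ b
  let sf : ∀ b : Bool, ToType (X.sheaf.1.obj (op (U b))) := fun b =>
    Bool.rec (motive := fun b => ToType (X.sheaf.1.obj (op (U b))))
      (1 : Γ(X, U₂)) (0 : Γ(X, U₁)) b
  have hsub : ∀ (V : X.Opens), V = ⊥ → ∀ a b : Γ(X, V), a = b := by
    intro V hV
    subst hV
    exact fun a b => Subsingleton.elim a b
  have hcompat : TopCat.Presheaf.IsCompatible X.sheaf.1 U sf := by
    intro i j
    cases i <;> cases j
    · exact congrArg (fun m => (ConcreteCategory.hom (X.sheaf.1.map (Quiver.Hom.op m))) (sf false))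
        (Subsingleton.elim _ _)
    · exact hsub (U₂ ⊓ U₁) hbot _ _
    · exact hsub (U₁ ⊓ U₂) hbot' _ _
    · exact congrArg (fun m => (ConcreteCategory.hom (X.sheaf.1.map (Quiver.Hom.op m))) (sf true))
        (Subsingleton.elim _ _)
  have hcover : (⊤ : X.Opens) ≤ iSup U := by
    intro x _
    rw [TopologicalSpace.Opens.mem_iSup]
    by_cases hx : x ∈ C
    · exact ⟨true, (hmem₁ x).mpr hx⟩
    · exact ⟨false, (hmem₂ x).mpr hx⟩
  obtain ⟨s, hs, -⟩ :=
    X.sheaf.existsUnique_gluing' U ⊤ (fun b => homOfLE le_top) hcover sf hcompat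
  have hs1 : (X.presheaf.map (homOfLE (le_top : U₁ ≤ ⊤)).op) s = (0 : Γ(X, U₁)) := hs true
  have hs2 : (X.presheaf.map (homOfLE (le_top : U₂ ≤ ⊤)).op) s = (1 : Γ(X, U₂)) := hs false
  have hb1 : U₁ ⊓ X.basicOpen s = ⊥ :=
    (Scheme.basicOpen_res X s (homOfLE (le_top : U₁ ≤ ⊤)).op).symm.trans
      ((congrArg (fun z : Γ(X, U₁) => X.basicOpen z) hs1).trans (Scheme.basicOpen_zero X U₁))
  have hb2 : U₂ ⊓ X.basicOpen s = U₂ :=
    (Scheme.basicOpen_res X s (homOfLE (le_top : U₂ ≤ ⊤)).op).symm.trans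
      ((congrArg (fun z : Γ(X, U₂) => X.basicOpen z) hs2).trans
        (Scheme.basicOpen_of_isUnit X isUnit_one))
  refine ⟨s, ?_, ?_⟩
  · intro x hx hxs
    have hmem : x ∈ U₁ ⊓ X.basicOpen s := ⟨(hmem₁ x).mpr hx, hxs⟩
    rw [hb1] at hmem
    simpa using hmem
  · intro x hx
    have hmem : x ∈ U₂ ⊓ X.basicOpen s := by
      rw [hb2]; exact (hmem₂ x).mpr hx
    exact hmem.2

end Sec

section Main

variable (k : Type u) [Field k]

/-- For `X` proper over a field with a rational point `e`, the fibre of `X ⟶ Spec Γ(X)` through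
`e` is the connected component of `e`. -/
theorem range_fst_eq_connectedComponent (X : Scheme.{u}) (a : X ⟶ Spec (CommRingCat.of k))
    [IsProper a] (e : Spec (CommRingCat.of k) ⟶ X) (t : ↥(Spec (CommRingCat.of k))) :
    Set.range ⇑(pullback.fst X.toSpecΓ (e ≫ X.toSpecΓ)).base =
      connectedComponent (e.base t) := by
  haveI : CompactSpace X := QuasiCompact.compactSpace_of_compactSpace a
  haveI : IsNoetherian X := { __ := LocallyOfFiniteType.isLocallyNoetherian a }
  let F := (Scheme.ΓSpecIso (CommRingCat.of k)).inv ≫ a.appTop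
  have hint : F.hom.IsIntegral := by
    apply RingHom.isIntegral_respectsIso.2 (e := (Scheme.ΓSpecIso _).symm.commRingCatIsoToRingEquiv)
    exact isIntegral_appTop_of_universallyClosed a
  obtain ⟨x₀, hx₀⟩ : ∃ x₀ : X, x₀ = e.base t := ⟨_, rfl⟩
  rw [← hx₀]
  have hsingle : ∀ t' : ↥(Spec (CommRingCat.of k)), t' = t := fun t' => Subsingleton.elim _ _
  -- the component is clopen
  have hclopen : IsClopen (connectedComponent x₀) :=
    ⟨isClosed_connectedComponent,
      Groth.Agent.Lib.Helper24.CompTop.isOpen_connectedComponent_of_noetherianSpace x₀⟩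
  obtain ⟨s, hs1, hs2⟩ := exists_section_of_isClopen X (connectedComponent x₀) hclopen
  have hbo : ∀ x : X, x ∈ X.basicOpen s ↔
      X.toSpecΓ.base x ∈ (PrimeSpectrum.basicOpen s : Set (PrimeSpectrum Γ(X, ⊤))) := by
    intro x
    rw [← Scheme.toSpecΓ_preimage_basicOpen X s]
    rfl
  -- part 1
  have part1 : ∀ y : X, y ∈ connectedComponent x₀ → X.toSpecΓ.base y = X.toSpecΓ.base x₀ := by
    intro y hy
    have hpre : _root_.IsPreconnected (X.toSpecΓ.base '' connectedComponent x₀) :=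
      isPreconnected_connectedComponent.image _ X.toSpecΓ.continuous.continuousOn
    exact eq_of_isPreconnected (R := Γ(X, ⊤)) F.hom hint hpre ⟨y, hy, rfl⟩
      ⟨x₀, mem_connectedComponent, rfl⟩
  -- part 2
  have part2 : ∀ y : X, X.toSpecΓ.base y = X.toSpecΓ.base x₀ → y ∈ connectedComponent x₀ := by
    intro y hy
    by_contra hyC
    have h1 := (hbo y).mp (hs2 y hyC)
    rw [hy] at h1
    exact hs1 x₀ mem_connectedComponent ((hbo x₀).mpr h1)
  ext y
  constructor
  · rintro ⟨z, rfl⟩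
    apply part2
    have hcond := congrArg (fun m => m.base z)
      (pullback.condition (f := X.toSpecΓ) (g := e ≫ X.toSpecΓ))
    have h3 : (pullback.snd X.toSpecΓ (e ≫ X.toSpecΓ)).base z = t := hsingle _
    calc X.toSpecΓ.base ((pullback.fst X.toSpecΓ (e ≫ X.toSpecΓ)).base z)
        = (e ≫ X.toSpecΓ).base ((pullback.snd X.toSpecΓ (e ≫ X.toSpecΓ)).base z) := hcond
      _ = (e ≫ X.toSpecΓ).base t := by rw [h3]
      _ = X.toSpecΓ.base x₀ := by rw [hx₀]; rfl
  · intro hy
    have h1 : X.toSpecΓ.base y = (e ≫ X.toSpecΓ).base t := by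
      rw [part1 y hy, hx₀]; rfl
    obtain ⟨z, hz1, hz2⟩ := Scheme.Pullback.exists_preimage_pullback
      (f := X.toSpecΓ) (g := e ≫ X.toSpecΓ) y t h1
    exact ⟨z, hz1⟩

end Main

end Groth.Agent.Lib.Helper40.ProperComp
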