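import Mathlib
import Groth.Agent.Lib.Helper21.RedSubscheme
import Groth.Agent.Lib.Helper40.ProperComp

/-!
# The reduced connected component of a fibre through a rational point (helper40)
-/

universe u

open CategoryTheory CategoryTheory.Limits AlgebraicGeometry Opposite TopologicalSpace

namespace Groth.Agent.Lib.Helper40.RedComp

/-- A morphism from a reduced scheme whose range lies in the range of a closed immersion factors
through it. -/
theorem lift_of_reduced {T X R : Scheme.{u}} (z : T ⟶ X) [IsClosedImmersion z] (g : R ⟶ X)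
    [IsReduced R] (h : Set.range g ⊆ Set.range z) : ∃ g' : R ⟶ T, g' ≫ z = g := by
  haveI : Surjective (pullback.fst g z) := by
    constructor
    intro r
    have hr : r ∈ Set.range (pullback.fst g z) := by
      rw [Scheme.Pullback.range_fst]
      exact h ⟨r, rfl⟩
    exact hr
  haveI : IsIso (pullback.fst g z) := isIso_of_isClosedImmersion_of_surjective _
  refine ⟨inv (pullback.fst g z) ≫ pullback.snd g z, ?_⟩
  rw [Category.assoc, ← pullback.condition, ← Category.assoc, IsIso.inv_hom_id, Category.id_comp]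

theorem isClosed_connectedComponentIn {α : Type*} [TopologicalSpace α] {F : Set α}
    (hF : IsClosed F) (x : α) : IsClosed (connectedComponentIn F x) := by
  by_cases hx : x ∈ F
  · rw [connectedComponentIn_eq_image hx]
    exact hF.isClosedEmbedding_subtypeVal.isClosedMap _ isClosed_connectedComponent
  · rw [connectedComponentIn_eq_empty hx]
    exact isClosed_empty

section B

variable (k : Type u) [Field k]

/-- A universally closed, reduced, connected `k`-scheme with a rational point has only constant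
global functions. -/
theorem bijective_appTop_of_connected_reduced {T : Scheme.{u}} (a : T ⟶ Spec (CommRingCat.of k))
    [UniversallyClosed a] [IsReduced T] [ConnectedSpace T]
    (p : Spec (CommRingCat.of k) ⟶ T) (hp : p ≫ a = 𝟙 _) :
    Function.Bijective ((Scheme.ΓSpecIso (CommRingCat.of k)).inv ≫ a.appTop).hom := by
  obtain ⟨e, he⟩ : ∃ e : Γ(Spec (CommRingCat.of k), ⊤) ≅ CommRingCat.of k,
      e = Scheme.ΓSpecIso (CommRingCat.of k) := ⟨_, rfl⟩
  rw [← he]
  obtain ⟨F, hF⟩ : ∃ F : CommRingCat.of k ⟶ Γ(T, ⊤), F = e.inv ≫ a.appTop := ⟨_, rfl⟩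
  rw [← hF]
  have hFdef : ∀ c : k, F.hom c = a.appTop.hom (e.inv.hom c) := by
    intro c; rw [hF]; rfl
  have hint : F.hom.IsIntegral := by
    rw [hF, he]
    apply RingHom.isIntegral_respectsIso.2 (e := (Scheme.ΓSpecIso _).symm.commRingCatIsoToRingEquiv)
    exact isIntegral_appTop_of_universallyClosed a
  have h1 : a.appTop ≫ p.appTop = 𝟙 _ := by
    rw [← Scheme.Hom.comp_appTop, hp]; rfl
  have hFp : ∀ c : k, p.appTop.hom (F.hom c) = e.inv.hom c := by
    intro c
    have := congrArg (fun φ => φ.hom (e.inv.hom c)) h1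
    rw [hFdef]
    simpa using this
  have hc : ∀ c : k, e.hom.hom (e.inv.hom c) = c := fun c => by
    have := congrArg (fun φ => φ.hom c) e.inv_hom_id
    simpa using this
  have hc' : ∀ y : Γ(Spec (CommRingCat.of k), ⊤), e.inv.hom (e.hom.hom y) = y := fun y => by
    have := congrArg (fun φ => φ.hom y) e.hom_inv_id
    simpa using this
  obtain ⟨pt⟩ : Nonempty ↥(Spec (CommRingCat.of k)) := inferInstance
  have key : ∀ s : Γ(T, ⊤), p.appTop.hom s = 0 → s = 0 := by
    intro s hs
    have hpre : T.toSpecΓ ⁻¹ᵁ PrimeSpectrum.basicOpen s = T.basicOpen s :=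
      Scheme.toSpecΓ_preimage_basicOpen T s
    have hclopen : IsClopen ((T.basicOpen s : T.Opens) : Set T) := by
      rw [← hpre]
      show IsClopen (T.toSpecΓ ⁻¹' (PrimeSpectrum.basicOpen s : Set (PrimeSpectrum Γ(T, ⊤))))
      rw [PrimeSpectrum.basicOpen_eq_zeroLocus_compl]
      exact (Groth.Agent.Lib.Helper40.ProperComp.isClopen_zeroLocus F.hom hint s).compl.preimage
        T.toSpecΓ.continuous
    have h2 : p ⁻¹ᵁ T.basicOpen s = ⊥ :=
      (Scheme.preimage_basicOpen p s).trans
        ((congrArg (fun z => (Spec (CommRingCat.of k)).basicOpen z) hs).trans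
          (Scheme.basicOpen_zero _ _))
    have hnot : p pt ∉ T.basicOpen s := by
      intro hmem
      have : pt ∈ p ⁻¹ᵁ T.basicOpen s := hmem
      rw [h2] at this
      exact this
    rcases isClopen_iff.mp hclopen with h | h
    · have h3 : T.basicOpen s = ⊥ := by
        ext x
        simp only [Opens.coe_bot, Set.mem_empty_iff_false, iff_false]
        intro hx
        have : x ∈ ((T.basicOpen s : T.Opens) : Set T) := hx
        rw [h] at this
        exact this
      exact (basicOpen_eq_bot_iff s).mp h3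
    · exfalso
      apply hnot
      have : p pt ∈ ((T.basicOpen s : T.Opens) : Set T) := by rw [h]; exact Set.mem_univ _
      exact this
  constructor
  · intro c d hcd
    have := congrArg p.appTop.hom hcd
    rw [hFp, hFp] at this
    have := congrArg e.hom.hom this
    rwa [hc, hc] at this
  · intro s
    refine ⟨e.hom.hom (p.appTop.hom s), ?_⟩
    have h0 : s - F.hom (e.hom.hom (p.appTop.hom s)) = 0 := by
      apply key
      rw [map_sub, hFp, hc', sub_self]
    exact (sub_eq_zero.mp h0).symm

end B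

section A

variable (k : Type u) [Field k]

theorem exists_reduced_component {X Y : Scheme.{u}} (a : X ⟶ Spec (CommRingCat.of k))
    (q : Y ⟶ Spec (CommRingCat.of k)) [IsSeparated q] (f : X ⟶ Y) (hf : f ≫ q = a)
    (p : Spec (CommRingCat.of k) ⟶ X) (hp : p ≫ a = 𝟙 _) (pt : ↥(Spec (CommRingCat.of k))) :
    ∃ (T : Scheme.{u}) (z : T ⟶ X) (p' : Spec (CommRingCat.of k) ⟶ T),
      IsClosedImmersion z ∧ IsReduced T ∧ ConnectedSpace T ∧
      Set.range z = connectedComponentIn (f ⁻¹' {f (p pt)}) (p pt) ∧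
      p' ≫ z = p ∧ z ≫ f = (z ≫ a) ≫ p ≫ f := by
  obtain ⟨y₀, hy₀⟩ : ∃ y₀ : Spec (CommRingCat.of k) ⟶ Y, y₀ = p ≫ f := ⟨_, rfl⟩
  have hy₀q : y₀ ≫ q = 𝟙 _ := by rw [hy₀, Category.assoc, hf, hp]
  haveI : IsClosedImmersion (y₀ ≫ q) := by rw [hy₀q]; infer_instance
  haveI : IsClosedImmersion y₀ := IsClosedImmersion.of_comp y₀ q
  have hy₀pt : y₀ pt = f (p pt) := by rw [hy₀, Scheme.Hom.comp_apply]
  have hry : Set.range y₀ = {f (p pt)} := by
    ext y
    constructor
    · rintro ⟨t, rfl⟩
      rw [Subsingleton.elim t pt, hy₀pt]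
      exact Set.mem_singleton _
    · intro hy
      rw [Set.mem_singleton_iff] at hy
      exact ⟨pt, by rw [hy, hy₀pt]⟩
  have hclpt : IsClosed ({f (p pt)} : Set Y) := by
    rw [← hry]; exact y₀.isClosedEmbedding.isClosed_range
  have hFib : IsClosed (f ⁻¹' {f (p pt)}) := hclpt.preimage f.continuous
  have hx₀ : p pt ∈ f ⁻¹' {f (p pt)} := rfl
  have hC : IsClosed (connectedComponentIn (f ⁻¹' {f (p pt)}) (p pt)) :=
    isClosed_connectedComponentIn hFib _
  let W : Closeds X := ⟨connectedComponentIn (f ⁻¹' {f (p pt)}) (p pt), hC⟩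
  obtain ⟨T, z, hzc, hTred, hrz⟩ : ∃ (T : Scheme.{u}) (z : T ⟶ X), IsClosedImmersion z ∧
      IsReduced T ∧ Set.range z = (W : Set X) :=
    ⟨_, (Scheme.IdealSheafData.vanishingIdeal W).subschemeι, inferInstance,
      Groth.Agent.Lib.Helper21.RedSubscheme.isReduced_vanishingIdeal_subscheme W,
      Groth.Agent.Lib.Helper21.RedSubscheme.range_subschemeι_vanishingIdeal W⟩
  have hrz' : Set.range z = connectedComponentIn (f ⁻¹' {f (p pt)}) (p pt) := hrz
  haveI := hzc
  haveI := hTred
  have hconn : ConnectedSpace T := by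
    have h1 : ConnectedSpace ↥(Set.range z) := by
      rw [hrz']
      exact isConnected_iff_connectedSpace.mp (isConnected_connectedComponentIn_iff.mpr hx₀)
    exact z.isClosedEmbedding.isEmbedding.toHomeomorph.connectedSpace_iff.mpr h1
  obtain ⟨p', hp'⟩ := lift_of_reduced z p (by
    rintro _ ⟨t, rfl⟩
    rw [hrz', Subsingleton.elim t pt]
    exact mem_connectedComponentIn hx₀)
  obtain ⟨u, hu⟩ := lift_of_reduced y₀ (z ≫ f) (by
    rintro _ ⟨t, rfl⟩
    rw [hry, Scheme.Hom.comp_apply]
    have : z t ∈ connectedComponentIn (f ⁻¹' {f (p pt)}) (p pt) := by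
      rw [← hrz']; exact ⟨t, rfl⟩
    have h2 : z t ∈ f ⁻¹' {f (p pt)} :=
      connectedComponentIn_subset (f ⁻¹' {f (p pt)}) (p pt) this
    exact h2)
  have hu' : u = z ≫ a := by
    calc u = u ≫ y₀ ≫ q := by rw [hy₀q, Category.comp_id]
      _ = (z ≫ f) ≫ q := by rw [← Category.assoc, hu]
      _ = z ≫ a := by rw [Category.assoc, hf]
  refine ⟨T, z, p', hzc, hTred, hconn, hrz', hp', ?_⟩
  rw [← hu, hu', hy₀]

end A

end Groth.Agent.Lib.Helper40.RedComp
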