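import Mathlib
import Groth.Agent.Lib.Helper40.RedComp
import Groth.Agent.Lib.Helper60.AntiAffRigidity2

/-!
# Translates of fibre components of a morphism from an abelian variety (helper40)
-/

set_option autoImplicit false

universe u

open CategoryTheory CategoryTheory.Limits MonoidalCategory CartesianMonoidalCategory MonObj
  AlgebraicGeometry

namespace Groth.Agent.Lib.Helper40.FibreTranslate

variable (k : Type u) [Field k] (X : Over (Spec (CommRingCat.of k))) [GrpObj X]

/-- Translation by a rational point. -/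
noncomputable def tr (x : 𝟙_ (Over (Spec (CommRingCat.of k))) ⟶ X) : X ⟶ X :=
  (toUnit X ≫ x) * 𝟙 X

theorem comp_tr {T : Over (Spec (CommRingCat.of k))} (g : T ⟶ X)
    (x : 𝟙_ (Over (Spec (CommRingCat.of k))) ⟶ X) :
    g ≫ tr k X x = (toUnit T ≫ x) * g := by
  unfold tr
  rw [MonObj.comp_mul, Category.comp_id, ← Category.assoc, toUnit_unique (g ≫ toUnit X) (toUnit T)]

theorem tr_comp_tr (x x' : 𝟙_ (Over (Spec (CommRingCat.of k))) ⟶ X) :
    tr k X x' ≫ tr k X x = tr k X (x * x') := by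
  rw [comp_tr]
  unfold tr
  rw [← _root_.mul_assoc, ← MonObj.comp_mul]

theorem tr_one : tr k X 1 = 𝟙 X := by
  unfold tr
  rw [MonObj.comp_one, _root_.one_mul]

theorem pt_comp_tr (p x : 𝟙_ (Over (Spec (CommRingCat.of k))) ⟶ X) :
    p ≫ tr k X x = x * p := by
  rw [comp_tr, toUnit_unique (toUnit (𝟙_ (Over (Spec (CommRingCat.of k))))) (𝟙 _), Category.id_comp]

variable [IsProper X.hom] [GeometricallyIntegral X.hom]
  {Y : Scheme.{u}} (q : Y ⟶ Spec (CommRingCat.of k)) [IsSeparated q] (f : X.left ⟶ Y)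
  (hf : f ≫ q = X.hom)

include hf in
theorem L (pt : ↥(Spec (CommRingCat.of k)))
    (p x' : 𝟙_ (Over (Spec (CommRingCat.of k))) ⟶ X) :
    (tr k X x').left '' connectedComponentIn (f ⁻¹' {f (p.left pt)}) (p.left pt) ⊆
      connectedComponentIn (f ⁻¹' {f ((x' * p).left pt)}) ((x' * p).left pt) := by
  have hpa : p.left ≫ X.hom = 𝟙 (Spec (CommRingCat.of k)) := Over.w p
  obtain ⟨T, z, p', hzc, hTred, hconn, hrz, hp', hzf⟩ :=
    Groth.Agent.Lib.Helper40.RedComp.exists_reduced_component k X.hom q f hf p.left hpa pt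
  haveI := hzc
  haveI := hTred
  haveI := hconn
  let To : Over (Spec (CommRingCat.of k)) := Over.mk (z ≫ X.hom)
  let zo : To ⟶ X := Over.homMk z rfl
  let Yo : Over (Spec (CommRingCat.of k)) := Over.mk q
  let fo : X ⟶ Yo := Over.homMk f hf
  have hp'a : p' ≫ z ≫ X.hom = 𝟙 (Spec (CommRingCat.of k)) := by rw [← Category.assoc, hp', hpa]
  let p'o : 𝟙_ (Over (Spec (CommRingCat.of k))) ⟶ To := Over.homMk p' hp'a
  have hz₀ : (p.left ≫ f) ≫ q = 𝟙 (Spec (CommRingCat.of k)) := by rw [Category.assoc, hf, hpa]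
  let z₀ : 𝟙_ (Over (Spec (CommRingCat.of k))) ⟶ Yo := Over.homMk (p.left ≫ f) hz₀
  haveI : IsProper To.hom := (inferInstance : IsProper (z ≫ X.hom))
  haveI : IsSeparated Yo.hom := ‹IsSeparated q›
  have hX : Function.Bijective ((Scheme.ΓSpecIso (CommRingCat.of k)).inv ≫ To.hom.appTop).hom :=
    Groth.Agent.Lib.Helper40.RedComp.bijective_appTop_of_connected_reduced k (z ≫ X.hom) p' hp'a
  haveI : IsIntegral X.left := GeometricallyIntegral.isIntegral_of_subsingleton X.hom
  haveI : IsLocallyNoetherian X.left := LocallyOfFiniteType.isLocallyNoetherian X.hom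
  haveI : CompactSpace ↥X.left := QuasiCompact.compactSpace_of_compactSpace X.hom
  haveI : IsNoetherian X.left := {}
  have hpo : p'o ≫ zo = p := by
    apply Over.OverMorphism.ext
    exact hp'
  obtain ⟨φ, hφdef⟩ : ∃ φ : To ⊗ X ⟶ Yo, φ = (snd To X * (fst To X ≫ zo)) ≫ fo := ⟨_, rfl⟩
  have hsec : ∀ (a : To ⟶ X), lift (𝟙 To) a ≫ φ = (a * zo) ≫ fo := by
    intro a
    rw [hφdef, ← Category.assoc, MonObj.comp_mul, lift_snd, ← Category.assoc, lift_fst,
      Category.id_comp]
  have hzofo : zo ≫ fo = toUnit To ≫ z₀ := by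
    apply Over.OverMorphism.ext
    show z ≫ f = (z ≫ X.hom) ≫ p.left ≫ f
    exact hzf
  have hφ : lift (𝟙 To) (toUnit To ≫ η[X]) ≫ φ = toUnit To ≫ z₀ := by
    rw [hsec, ← Hom.one_def, _root_.one_mul, hzofo]
  have key := Groth.Agent.Lib.Helper60.AntiAffRigidity.rigidity_over_connected k To X Yo hX p'o
    η[X] z₀ φ hφ
  have hstar : ((toUnit To ≫ x') * zo) ≫ fo = (toUnit To ≫ (x' * p)) ≫ fo := by
    have e1 : lift (𝟙 To) (toUnit To ≫ x') ≫ φ = lift (𝟙 To) (toUnit To ≫ x') ≫ snd To X ≫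
        lift (toUnit X ≫ p'o) (𝟙 X) ≫ φ := congrArg (fun m => lift (𝟙 To) (toUnit To ≫ x') ≫ m) key
    rw [hsec] at e1
    rw [e1, ← Category.assoc, lift_snd, Category.assoc]
    have e2 : lift (toUnit X ≫ p'o) (𝟙 X) ≫ φ = ((𝟙 X) * (toUnit X ≫ p)) ≫ fo := by
      rw [hφdef, ← Category.assoc, MonObj.comp_mul, lift_snd, ← Category.assoc, lift_fst,
        Category.assoc, hpo]
    have e6 : (toUnit To ≫ x') ≫ (𝟙 X * (toUnit X ≫ p)) =
        (toUnit To ≫ x') * (toUnit To ≫ p) := by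
      rw [MonObj.comp_mul, Category.comp_id, ← Category.assoc,
        toUnit_unique ((toUnit To ≫ x') ≫ toUnit X) (toUnit To)]
    rw [e2]
    calc (toUnit To ≫ x') ≫ (𝟙 X * (toUnit X ≫ p)) ≫ fo
        = ((toUnit To ≫ x') ≫ (𝟙 X * (toUnit X ≫ p))) ≫ fo := (Category.assoc _ _ _).symm
      _ = ((toUnit To ≫ x') * (toUnit To ≫ p)) ≫ fo := by rw [e6]
      _ = (toUnit To ≫ (x' * p)) ≫ fo := by rw [MonObj.comp_mul]
  have hpt : ∀ τ : ↥T, f ((tr k X x').left (z τ)) = f ((x' * p).left pt) := by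
    intro τ
    have e3 : (zo ≫ tr k X x') ≫ fo = (toUnit To ≫ (x' * p)) ≫ fo := by
      rw [comp_tr]; exact hstar
    have e4 := congrArg (fun m => (m.left : To.left ⟶ Yo.left) τ) e3
    have e5 : (toUnit To).left τ = pt := Subsingleton.elim (α := ↥(Spec (CommRingCat.of k))) _ _
    calc f ((tr k X x').left (z τ)) = ((zo ≫ tr k X x') ≫ fo).left τ := by
          simp only [Over.comp_left, Scheme.Hom.comp_apply]; rfl
      _ = ((toUnit To ≫ (x' * p)) ≫ fo).left τ := e4
      _ = f ((x' * p).left ((toUnit To).left τ)) := by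
          simp only [Over.comp_left, Scheme.Hom.comp_apply]; rfl
      _ = f ((x' * p).left pt) := by rw [e5]
  have hpre : _root_.IsPreconnected ((tr k X x').left ''
      connectedComponentIn (f ⁻¹' {f (p.left pt)}) (p.left pt)) :=
    isPreconnected_connectedComponentIn.image _ (tr k X x').left.continuous.continuousOn
  have hx₀ : p.left pt ∈ f ⁻¹' {f (p.left pt)} := rfl
  have hmem : (x' * p).left pt ∈ (tr k X x').left ''
      connectedComponentIn (f ⁻¹' {f (p.left pt)}) (p.left pt) := by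
    refine ⟨p.left pt, mem_connectedComponentIn hx₀, ?_⟩
    have := congrArg (fun m => (m.left : (𝟙_ (Over (Spec (CommRingCat.of k)))).left ⟶ X.left) pt)
      (pt_comp_tr k X p x')
    simp only [Over.comp_left, Scheme.Hom.comp_apply] at this
    exact this
  have hsub : (tr k X x').left '' connectedComponentIn (f ⁻¹' {f (p.left pt)}) (p.left pt) ⊆
      f ⁻¹' {f ((x' * p).left pt)} := by
    rintro _ ⟨c, hc, rfl⟩
    obtain ⟨τ, rfl⟩ : c ∈ Set.range z := by rw [hrz]; exact hc
    exact hpt τ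
  exact hpre.subset_connectedComponentIn hmem hsub

include hf in
theorem main (x : 𝟙_ (Over (Spec (CommRingCat.of k))) ⟶ X) :
    (lift (toUnit X ≫ x) (𝟙 X) ≫ μ[X]).left ''
        connectedComponentIn (f ⁻¹' {f (η[X].left (IsLocalRing.closedPoint k))})
          (η[X].left (IsLocalRing.closedPoint k)) =
      connectedComponentIn (f ⁻¹' {f (x.left (IsLocalRing.closedPoint k))})
        (x.left (IsLocalRing.closedPoint k)) := by
  have hη : (η[X] : 𝟙_ (Over (Spec (CommRingCat.of k))) ⟶ X) = 1 := by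
    rw [Hom.one_def, toUnit_unique (toUnit (𝟙_ (Over (Spec (CommRingCat.of k))))) (𝟙 _),
      Category.id_comp]
  have htr : lift (toUnit X ≫ x) (𝟙 X) ≫ μ[X] = tr k X x := rfl
  rw [htr]
  apply Set.Subset.antisymm
  · have h1 := L k X q f hf (IsLocalRing.closedPoint k) η[X] x
    have hxη : x * η[X] = x := by rw [hη, _root_.mul_one]
    rw [hxη] at h1
    exact h1
  · intro y hy
    have h2 := L k X q f hf (IsLocalRing.closedPoint k) x x⁻¹
    have hxx : x⁻¹ * x = η[X] := by rw [hη, _root_.inv_mul_cancel]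
    rw [hxx] at h2
    refine ⟨(tr k X x⁻¹).left y, h2 ⟨y, hy, rfl⟩, ?_⟩
    have e : tr k X x⁻¹ ≫ tr k X x = 𝟙 X := by
      rw [tr_comp_tr, _root_.mul_inv_cancel, tr_one]
    have := congrArg (fun m => (m.left : X.left ⟶ X.left) y) e
    simp only [Over.comp_left, Scheme.Hom.comp_apply] at this
    exact this

end Groth.Agent.Lib.Helper40.FibreTranslate
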