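import Mathlib
import Groth.Prelude.Def_Magnet
import Groth.Agent.Lib.Helper40.MultSchApi

/-!
# The fixed-point subfunctor of an action is a sheaf (for any subcanonical topology)
-/

set_option autoImplicit false
open CategoryTheory CategoryTheory.Limits MonoidalCategory CartesianMonoidalCategory MonObj Opposite
open Magnet

universe v₁ u₁

namespace Groth.Agent.Lib.Helper40.FixedPshSheaf

variable {C : Type u₁} [Category.{v₁} C] [CartesianMonoidalCategory C]
  (J : GrothendieckTopology C) [J.Subcanonical] {A X : C} [MonObj A]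
  (a : MonAct A X)

theorem fixedPsh_map_coe {T T' : Cᵒᵖ} (t : T ⟶ T') (x : (MonAct.fixedPsh a).obj T) :
    ((MonAct.fixedPsh a).map t x).1 = t.unop ≫ x.1 := rfl

theorem isSheaf_fixedPsh : Presieve.IsSheaf J (MonAct.fixedPsh a) := by
  intro T R hR
  have hsh := GrothendieckTopology.Subcanonical.isSheaf_of_isRepresentable (J := J) (yoneda.obj X)
  intro x hx
  rw [Presieve.compatible_iff_sieveCompatible] at hx
  have hcongr : ∀ {Y : C} (f f' : Y ⟶ T) (_ : f = f') (h : R f) (h' : R f'),
      x f h = x f' h' := by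
    intro Y f f' e h h'
    subst e
    rfl
  let y : Presieve.FamilyOfElements (yoneda.obj X) R.arrows :=
    fun W w hw => (x w hw).1
  have hy : y.Compatible := by
    rw [Presieve.compatible_iff_sieveCompatible]
    intro W W' w g hw
    have hw' : R (g ≫ w) := R.downward_closed hw g
    have e1 : x (g ≫ w) hw' = (MonAct.fixedPsh a).map g.op (x w hw) := by
      rw [← hx]
    change (x (g ≫ w) hw').1 = g ≫ (x w hw).1
    rw [e1, fixedPsh_map_coe]
    rfl
  obtain ⟨φ, hφ, hφuniq⟩ := hsh _ hR y hy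
  have hφ' : ∀ {W : C} (w : W ⟶ T) (hw : R w), w ≫ φ = (x w hw).1 := fun w hw => hφ w hw
  have hfix : ∀ (T' : C) (t : T' ⟶ T) (g : T' ⟶ A), lift g (t ≫ φ) ≫ a.act = t ≫ φ := by
    intro T' t g
    apply MultSchApi.eq_of_locally_eq J _ _ (R.pullback t) (J.pullback_stable t hR)
    intro T'' s hs
    have hs' : R (s ≫ t) := hs
    have hxs := (x (s ≫ t) hs').2 T'' (𝟙 T'') (s ≫ g)
    rw [Category.id_comp] at hxs
    rw [← Category.assoc, comp_lift, ← Category.assoc s t φ, hφ' (s ≫ t) hs']
    exact hxs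
  refine ⟨⟨φ, hfix⟩, ?_, ?_⟩
  · intro Y t ht
    apply Subtype.ext
    rw [fixedPsh_map_coe]
    exact hφ' t ht
  · intro ψ hψ
    apply Subtype.ext
    apply hφuniq
    intro W w hw
    have h1 := congrArg Subtype.val (hψ w hw)
    rw [fixedPsh_map_coe] at h1
    exact h1

end Groth.Agent.Lib.Helper40.FixedPshSheaf
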