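import Mathlib
import Groth.Agent.Lib.Helper48.FibBaseChange

/-!
# Injectivity of `O_Y → f_* O_X` is stable under flat base change (helper40)
-/

set_option autoImplicit false

universe u
open CategoryTheory CategoryTheory.Limits AlgebraicGeometry TopologicalSpace Opposite

namespace Groth.Agent.Lib.Helper40.FlatInj

open Groth.Agent.Lib.Helper48.FibBaseChange

/-- A pushout of an injective ring map along a flat ring map is injective. -/
theorem pushout_injective {R A B P : CommRingCat.{u}} {a : R ⟶ A} {b : R ⟶ B} {c : A ⟶ P}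
    {d : B ⟶ P} (h : IsPushout a b c d) (ha : Function.Injective a.hom) (hb : b.hom.Flat) :
    Function.Injective d.hom := by
  letI := a.hom.toAlgebra
  letI := b.hom.toAlgebra
  haveI : Module.Flat R B := hb
  have ht := CommRingCat.isPushout_tensorProduct R A B
  have e1 : (CommRingCat.ofHom (algebraMap R A) : R ⟶ A) = a := rfl
  have e2 : (CommRingCat.ofHom (algebraMap R B) : R ⟶ B) = b := rfl
  have ht' : IsPushout a b
      (CommRingCat.ofHom (S := TensorProduct R A B) Algebra.TensorProduct.includeLeftRingHom)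
      (CommRingCat.ofHom (S := TensorProduct R A B)
        (Algebra.TensorProduct.includeRight (R := R) (A := A) (B := B)).toRingHom) := ht
  have hd : d = CommRingCat.ofHom (S := TensorProduct R A B)
      (Algebra.TensorProduct.includeRight (R := R) (A := A) (B := B)).toRingHom ≫
      (ht'.isoIsPushout _ _ h).hom := (IsPushout.inr_isoIsPushout_hom _ _ ht' h).symm
  rw [hd, CommRingCat.hom_comp]
  have hi : Function.Injective (ht'.isoIsPushout _ _ h).hom.hom :=
    (ConcreteCategory.bijective_of_isIso (ht'.isoIsPushout _ _ h).hom).1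
  refine hi.comp ?_
  exact Algebra.TensorProduct.includeRight_injective (R := R) (A := A) (B := B) ha

/-- `f.app` injective on a basis ⇒ injective everywhere. -/
theorem injective_app_of_basis {X Y : Scheme.{u}} (f : X ⟶ Y) (P : Y.Opens → Prop)
    (hP : ∀ (V : Y.Opens) (y : Y), y ∈ V → ∃ B : Y.Opens, P B ∧ y ∈ B ∧ B ≤ V)
    (h : ∀ B, P B → Function.Injective (f.app B).hom) (V : Y.Opens) :
    Function.Injective (f.app V).hom := by
  intro s t hst
  refine ext_of_cover (fun i : {B : Y.Opens // P B ∧ B ≤ V} => i.1) V (fun i => i.2.2) ?_ s t ?_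
  · intro y hy
    obtain ⟨B, hB, hyB, hBV⟩ := hP V y hy
    exact Opens.mem_iSup.mpr ⟨⟨B, hB, hBV⟩, hyB⟩
  · intro i
    apply h i.1 i.2.1
    rw [app_res, app_res, hst]

/-- Flat base change preserves injectivity of `O_Y → f_* O_X` for `f` qcqs. -/
theorem injective_app_of_isPullback {X Y X' Y' : Scheme.{u}} {f : X ⟶ Y} {g : Y' ⟶ Y}
    {f' : X' ⟶ Y'} {g' : X' ⟶ X}
    (H : IsPullback g' f' f g) [Flat g] [QuasiCompact f] [QuasiSeparated f]
    (hinj : ∀ V : Y.Opens, Function.Injective (f.app V).hom) (V' : Y'.Opens) :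
    Function.Injective (f'.app V').hom := by
  have key : ∀ B : Y'.Opens,
      (IsAffineOpen B ∧ ∃ W : Y.Opens, IsAffineOpen W ∧ B ≤ g ⁻¹ᵁ W) →
        Function.Injective (f'.app B).hom := by
    rintro B ⟨hB, W, hW, hBW⟩
    have hUY : f' ⁻¹ᵁ B = g' ⁻¹ᵁ (f ⁻¹ᵁ W) ⊓ f' ⁻¹ᵁ B := by
      refine (inf_eq_right.mpr ?_).symm
      intro x hx
      have h1 : g (f' x) ∈ W := hBW hx
      have h2 : f (g' x) = g (f' x) := by
        have := congrArg (fun φ : X' ⟶ Y => φ x) H.w
        simpa using this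
      show f (g' x) ∈ W
      rw [h2]; exact h1
    have hiso := isIso_pushoutSection_of_isQuasiSeparated_of_flat_right H hBW
      (le_refl (f ⁻¹ᵁ W)) hUY hW hB (f.isCompact_preimage hW.isCompact)
      (f.isQuasiSeparated_preimage hW.isQuasiSeparated)
    have hpo := (isIso_pushoutSection_iff H hBW (le_refl (f ⁻¹ᵁ W)) hUY).mp hiso
    have h3 := pushout_injective hpo
      (by rw [Scheme.Hom.appLE_eq_app]; exact hinj W) (g.flat_appLE hW hB _)
    rw [Scheme.Hom.app_eq_appLE]
    exact h3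
  refine injective_app_of_basis f'
    (fun B => IsAffineOpen B ∧ ∃ W : Y.Opens, IsAffineOpen W ∧ B ≤ g ⁻¹ᵁ W) ?_ key V'
  intro V y hy
  obtain ⟨_, ⟨W, hW, rfl⟩, hyW, -⟩ :=
    Y.isBasis_affineOpens.exists_subset_of_mem_open (Set.mem_univ (g y)) isOpen_univ
  have hy2 : y ∈ g ⁻¹ᵁ W ⊓ V := ⟨hyW, hy⟩
  obtain ⟨_, ⟨B, hB, rfl⟩, hyB, hBle⟩ :=
    Y'.isBasis_affineOpens.exists_subset_of_mem_open hy2 (g ⁻¹ᵁ W ⊓ V).2
  exact ⟨B, ⟨hB, W, hW, fun z hz => (hBle hz).1⟩, hyB, fun z hz => (hBle hz).2⟩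

end Groth.Agent.Lib.Helper40.FlatInj
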