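import Mathlib
import Groth.Prelude.Def_Pi1
import Groth.Agent.Lib.Helper7.BiratIso
import Groth.Agent.S2266

/-!
# Generic sections of integral morphisms over normal integral schemes extend

If `π : Y ⟶ X` is integral (e.g. finite), `X` is a normal integral scheme and `π` has a section
over the generic stalk `Spec 𝒪_{X,η} ⟶ X`, then `π` has a section.
-/

set_option autoImplicit false
universe u
open CategoryTheory CategoryTheory.Limits AlgebraicGeometry

namespace Groth.Agent.Lib.Helper40.GenericSection

open Groth.Agent.Lib.Helper7

theorem quasiCompact_of_subsingleton {T Y : Scheme.{u}} (s : T ⟶ Y) [Subsingleton T] :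
    QuasiCompact s := by
  constructor
  intro U _ _
  exact (Set.toFinite _).isCompact

theorem subsingleton_spec_of_isField (R : CommRingCat.{u}) (h : IsField R) :
    Subsingleton ↥(Spec R) := by
  refine ⟨fun a b => ?_⟩
  have key : ∀ p : PrimeSpectrum R, p.asIdeal = ⊥ := by
    intro p
    letI := h.toField
    exact (Ideal.eq_bot_or_top p.asIdeal).resolve_right p.2.ne_top
  exact PrimeSpectrum.ext ((key a).trans (key b).symm)

theorem exists_section_of_generic_section {X Y : Scheme.{u}} [IsIntegral X]
    (hX : Pi1.IsNormalScheme X) (π : Y ⟶ X) [IsIntegralHom π]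
    (s : Spec (X.presheaf.stalk (genericPoint X)) ⟶ Y)
    (hs : s ≫ π = X.fromSpecStalk (genericPoint X)) :
    ∃ σ : X ⟶ Y, σ ≫ π = 𝟙 X := by
  have : Subsingleton (Spec (X.presheaf.stalk (genericPoint X))) :=
    subsingleton_spec_of_isField _ (BiratIso.isField_stalk_of_eq_genericPoint' _ rfl)
  have hqc : QuasiCompact s := quasiCompact_of_subsingleton s
  have : IsReduced (Spec (X.presheaf.stalk (genericPoint X))) := inferInstance
  have : IrreducibleSpace (Spec (X.presheaf.stalk (genericPoint X))) := inferInstance
  obtain ⟨hred, hirr⟩ := Groth.Agent.S2266.result s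
  have : IsReduced s.image := hred
  have : IrreducibleSpace s.image := hirr hqc inferInstance
  have : IsIntegral s.image := isIntegral_of_irreducibleSpace_of_isReduced _
  let d : s.image ⟶ X := s.imageι ≫ π
  have : IsIntegralHom d := by
    dsimp only [d]
    infer_instance
  let x : Spec (X.presheaf.stalk (genericPoint X)) := IsLocalRing.closedPoint _
  have htd : s.toImage ≫ d = X.fromSpecStalk (genericPoint X) := by
    dsimp only [d]
    rw [← Category.assoc, Scheme.Hom.toImage_imageι, hs]
  have h1 : d (s.toImage x) = genericPoint X := by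
    have h := congr($htd x)
    rw [Scheme.Hom.comp_apply] at h
    rw [h]
    exact Scheme.fromSpecStalk_closedPoint
  have h2 : s.toImage x = genericPoint s.image :=
    NormField.eq_genericPoint_of_isIntegralHom d (s.toImage x) h1
  have hiso : IsIso d := by
    refine BiratIso.isIso_of_isIntegralHom_of_birational' hX d (s.toImage x) h2 h1 ?_
    refine BiratIso.bijective_stalkMap_of_comp s.toImage d x h2 ?_
    have h3 : IsIso ((s.toImage ≫ d).stalkMap x) := by
      rw [htd]
      exact (ConcreteCategory.isIso_iff_bijective _).mpr
        (BiratIso.bijective_stalkMap_fromSpecStalk_closedPoint X (genericPoint X))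
    exact (ConcreteCategory.isIso_iff_bijective _).mp h3
  refine ⟨inv d ≫ s.imageι, ?_⟩
  rw [Category.assoc]
  exact IsIso.inv_hom_id d

end Groth.Agent.Lib.Helper40.GenericSection
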