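import Mathlib
import Groth.Prelude.Def_StCurv2

/-!
# Geometric fibres of `h_X → h_{Spec k}` and geometric reducedness

* `isReduced_of_flat_of_surjective`: reducedness descends along flat surjective morphisms.
* `forall_algClosed_iff`: `p` is geometrically reduced iff all base changes to algebraically
  closed fields are reduced.
* `geomFib_iff`: the `CurvSt.GeomFib` predicate of the sheaf family of a scheme family
  `p : X ⟶ T` unfolds to a statement about the scheme fibre products `X ×_T Spec Ω`.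
-/

set_option autoImplicit false
universe u
open CategoryTheory CategoryTheory.Limits AlgebraicGeometry

namespace Groth.Agent.Lib.Helper40.GeomFibRed

lemma stalkMap_injective_of_flat {X Y : Scheme.{u}} (f : X ⟶ Y) [Flat f] (x : X) :
    Function.Injective (f.stalkMap x).hom := by
  algebraize [(f.stalkMap x).hom]
  have : Module.FaithfullyFlat (Y.presheaf.stalk (f x)) (X.presheaf.stalk x) :=
    @Module.FaithfullyFlat.of_flat_of_isLocalHom _ _ _ _ _ _ _
      (Flat.stalkMap f x) (f.toLRSHom.prop x)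
  exact ‹RingHom.FaithfullyFlat _›.injective

/-- Reducedness descends along flat surjective morphisms. -/
lemma isReduced_of_flat_of_surjective {X Y : Scheme.{u}} (f : X ⟶ Y) [Flat f] [Surjective f]
    [IsReduced X] : IsReduced Y := by
  haveI : ∀ y : Y, _root_.IsReduced (Y.presheaf.stalk y) := by
    intro y
    obtain ⟨x, rfl⟩ := f.surjective y
    exact isReduced_of_injective (f.stalkMap x).hom (stalkMap_injective_of_flat f x)
  exact isReduced_of_isReduced_stalk Y

/-- Geometric reducedness can be tested on algebraically closed fields. -/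
theorem forall_algClosed_iff {X Y : Scheme.{u}} (p : X ⟶ Y) :
    (∀ (Ω : Type u) [Field Ω] [IsAlgClosed Ω] (t' : Spec (CommRingCat.of Ω) ⟶ Y),
      IsReduced (pullback p t')) ↔ GeometricallyReduced p := by
  constructor
  · intro h
    refine ⟨fun K _ y Z fst snd hZ => ?_⟩
    let ι : Spec (CommRingCat.of (AlgebraicClosure K)) ⟶ Spec (CommRingCat.of K) :=
      Spec.map (CommRingCat.ofHom (algebraMap K (AlgebraicClosure K)))
    haveI hW : IsReduced (pullback p (ι ≫ y)) := h (AlgebraicClosure K) (ι ≫ y)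
    have hcond : pullback.fst p (ι ≫ y) ≫ p = (pullback.snd p (ι ≫ y) ≫ ι) ≫ y := by
      rw [pullback.condition, Category.assoc]
    have hg1 : hZ.lift (pullback.fst p (ι ≫ y)) (pullback.snd p (ι ≫ y) ≫ ι) hcond ≫ fst =
        pullback.fst p (ι ≫ y) := hZ.lift_fst _ _ _
    have hg2 : hZ.lift (pullback.fst p (ι ≫ y)) (pullback.snd p (ι ≫ y) ≫ ι) hcond ≫ snd =
        pullback.snd p (ι ≫ y) ≫ ι := hZ.lift_snd _ _ _
    have big : IsPullback
        (hZ.lift (pullback.fst p (ι ≫ y)) (pullback.snd p (ι ≫ y) ≫ ι) hcond ≫ fst)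
        (pullback.snd p (ι ≫ y)) p (ι ≫ y) := by
      rw [hg1]; exact IsPullback.of_hasPullback p (ι ≫ y)
    have left : IsPullback
        (hZ.lift (pullback.fst p (ι ≫ y)) (pullback.snd p (ι ≫ y) ≫ ι) hcond)
        (pullback.snd p (ι ≫ y)) snd ι := IsPullback.of_right big hg2 hZ
    have hff : (CommRingCat.ofHom (algebraMap K (AlgebraicClosure K))).hom.FaithfullyFlat := by
      show (algebraMap K (AlgebraicClosure K)).FaithfullyFlat
      rw [RingHom.faithfullyFlat_algebraMap_iff]
      infer_instance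
    have hfs := (flat_and_surjective_SpecMap_iff
      (CommRingCat.ofHom (algebraMap K (AlgebraicClosure K)))).mpr hff
    haveI : Flat ι := hfs.1
    haveI : Surjective ι := hfs.2
    haveI : Flat (hZ.lift (pullback.fst p (ι ≫ y)) (pullback.snd p (ι ≫ y) ≫ ι) hcond) :=
      MorphismProperty.of_isPullback (P := @Flat) left.flip inferInstance
    haveI : Surjective (hZ.lift (pullback.fst p (ι ≫ y)) (pullback.snd p (ι ≫ y) ≫ ι) hcond) :=
      MorphismProperty.of_isPullback (P := @Surjective) left.flip inferInstance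
    exact isReduced_of_flat_of_surjective
      (hZ.lift (pullback.fst p (ι ≫ y)) (pullback.snd p (ι ≫ y) ≫ ι) hcond)
  · intro h Ω _ _ t'
    exact pullback_of_geometrically h.geometrically_isReduced Ω t'

section

variable (S : Scheme.{u})

lemma isPullback_over {A B C D : Over S} (f : A ⟶ B) (g : A ⟶ C) (h : B ⟶ D) (k : C ⟶ D)
    (H : IsPullback f.left g.left h.left k.left) : IsPullback f g h k :=
  IsPullback.of_map (Over.forget S) (Over.OverMorphism.ext H.w) H

lemma geomFib_aux {T X : Scheme.{u}} (tS : T ⟶ S) (p : X ⟶ T) (P : Scheme.{u} → Prop)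
    (hPiso : ∀ {Z Z' : Scheme.{u}} (_ : Z ≅ Z'), P Z → P Z')
    (Ω : Type u) [Field Ω] (t' : Spec (CommRingCat.of Ω) ⟶ T) (X' : Scheme.{u})
    (q : X' ⟶ Spec (CommRingCat.of Ω))
    (i : (AlgSp.yon S).obj (Over.mk ((q ≫ t') ≫ tS)) ⟶ (AlgSp.yon S).obj (Over.mk (p ≫ tS)))
    (hP : IsPullback i
        ((AlgSp.yon S).map
          (Over.homMk q (by simp only [Over.mk_hom, Category.assoc]) :
            Over.mk ((q ≫ t') ≫ tS) ⟶ Over.mk (t' ≫ tS)))
        ((AlgSp.yon S).map (Over.homMk p rfl : Over.mk (p ≫ tS) ⟶ Over.mk tS))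
        ((AlgSp.yon S).map (Over.homMk t' rfl : Over.mk (t' ≫ tS) ⟶ Over.mk tS)))
    (h : P (pullback p t')) : P X' := by
  have hi : (AlgSp.yon S).map ((AlgSp.yon S).preimage i) = i := Functor.map_preimage _ _
  have hP' : IsPullback ((AlgSp.yon S).map ((AlgSp.yon S).preimage i))
      ((AlgSp.yon S).map
        (Over.homMk q (by simp only [Over.mk_hom, Category.assoc]) :
          Over.mk ((q ≫ t') ≫ tS) ⟶ Over.mk (t' ≫ tS)))
      ((AlgSp.yon S).map (Over.homMk p rfl : Over.mk (p ≫ tS) ⟶ Over.mk tS))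
      ((AlgSp.yon S).map (Over.homMk t' rfl : Over.mk (t' ≫ tS) ⟶ Over.mk tS)) := by
    rw [hi]; exact hP
  have w : (AlgSp.yon S).preimage i ≫ (Over.homMk p rfl : Over.mk (p ≫ tS) ⟶ Over.mk tS) =
      (Over.homMk q (by simp only [Over.mk_hom, Category.assoc]) :
          Over.mk ((q ≫ t') ≫ tS) ⟶ Over.mk (t' ≫ tS)) ≫
        (Over.homMk t' rfl : Over.mk (t' ≫ tS) ⟶ Over.mk tS) := by
    apply (AlgSp.yon S).map_injective
    exact ((AlgSp.yon S).map_comp _ _).trans (hP'.w.trans ((AlgSp.yon S).map_comp _ _).symm)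
  have hO := IsPullback.of_map (AlgSp.yon S) w hP'
  have hS : IsPullback ((AlgSp.yon S).preimage i).left q p t' := hO.map (Over.forget S)
  exact hPiso hS.isoPullback.symm h

/-- Unfolding of `CurvSt.GeomFib` for the sheaf family of a scheme family without marked points. -/
theorem geomFib_iff {T X : Scheme.{u}} (tS : T ⟶ S) (p : X ⟶ T) (P : Scheme.{u} → Prop)
    (hPiso : ∀ {Z Z' : Scheme.{u}} (_ : Z ≅ Z'), P Z → P Z') :
    CurvSt.GeomFib (fun _ _ _ X' _ _ => P X')
        ((CurvSt.toSpFam S 0).obj ⟨Over.mk tS, X, p, Fin.elim0, fun i => i.elim0⟩) ↔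
      ∀ (Ω : Type u) [Field Ω] [IsAlgClosed Ω] (t' : Spec (CommRingCat.of Ω) ⟶ T),
        P (pullback p t') := by
  constructor
  · intro hG Ω _ _ t'
    have hc : pullback.fst p t' ≫ (p ≫ tS) = (pullback.snd p t' ≫ t') ≫ tS := by
      rw [← Category.assoc, pullback.condition]
    let i₀ : Over.mk ((pullback.snd p t' ≫ t') ≫ tS) ⟶ Over.mk (p ≫ tS) :=
      Over.homMk (pullback.fst p t') hc
    have H : IsPullback i₀.left (pullback.snd p t') p t' := IsPullback.of_hasPullback p t'
    have hO : IsPullback i₀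
        (Over.homMk (pullback.snd p t') (by simp only [Over.mk_hom, Category.assoc]) :
          Over.mk ((pullback.snd p t' ≫ t') ≫ tS) ⟶ Over.mk (t' ≫ tS))
        (Over.homMk p rfl : Over.mk (p ≫ tS) ⟶ Over.mk tS)
        (Over.homMk t' rfl : Over.mk (t' ≫ tS) ⟶ Over.mk tS) :=
      isPullback_over S _ _ _ _ H
    exact hG Ω t' (pullback p t') (pullback.snd p t') ((AlgSp.yon S).map i₀)
      (hO.map (AlgSp.yon S))
  · intro h Ω _ _ t' X' q i hP
    exact geomFib_aux S tS p P hPiso Ω t' X' q i hP (h Ω t')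

end

end Groth.Agent.Lib.Helper40.GeomFibRed
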