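import Mathlib
import Groth.Prelude.Def_W4bk4git07Quot
import Groth.Prelude.Def_NonAbH2
import Groth.Agent.Lib.Helper40.GeomQuot
import Groth.Agent.Lib.Helper40.LocTrivCov
import Groth.Agent.S0082

/-!
# Principal bundles (cartesian action square + covering) are geometric quotients
-/

set_option autoImplicit false
open CategoryTheory CategoryTheory.Limits AlgebraicGeometry MonoidalCategory
open CartesianMonoidalCategory MonObj
universe u

namespace Groth.Agent.Lib.Helper40.GeomQuot

open Groth.Agent.Lib.Helper40.FpqcCov Groth.Agent.Lib.Helper40.GeomQuotSec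

variable {S : Scheme.{u}} {G X Y : Over S} [GrpObj G]

/-- A covering `φ : X ⟶ Y` whose kernel pair is `(act, snd) : G ⊗ X ⇉ X` is a geometric quotient. -/
theorem isGeomQuot_of_isPullback (a : AlgGrp.Action G X) (φ : X ⟶ Y)
    (hpb : IsPullback a.act.left (snd G X).left φ.left φ.left) (hcov : IsCov φ.left) :
    GIT.IsGeomQuot a φ := by
  have hinv : GIT.IsInvariant a φ := by
    apply (Over.forget S).map_injective
    exact hpb.w
  refine isGeomQuot_of_isCov a φ hinv hcov ?_ (RelCovers.of_isPullback hpb)
  intro z
  have e : GIT.PsiY a φ hinv = hpb.isoPullback.hom := by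
    apply pullback.hom_ext
    · rw [IsPullback.isoPullback_hom_fst]
      exact pullback.lift_fst _ _ _
    · rw [IsPullback.isoPullback_hom_snd]
      exact pullback.lift_snd _ _ _
  refine ⟨hpb.isoPullback.inv.base z, ?_⟩
  rw [e, ← Scheme.Hom.comp_apply, Iso.inv_hom_id]
  rfl

set_option backward.isDefEq.respectTransparency.types false in
/-- Affineness of a covering whose kernel pair is `(act, snd)` with `G` affine over `S`. -/
theorem isAffineHom_of_isPullback (a : AlgGrp.Action G X) (φ : X ⟶ Y)
    (hpb : IsPullback a.act.left (snd G X).left φ.left φ.left) (hcov : IsCov φ.left)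
    [IsAffineHom G.hom] : IsAffineHom φ.left := by
  have i82 := Groth.Agent.S0082.result.{u}
  have h : IsAffineHom (snd G X).left := by
    rw [Over.snd_left]
    exact MorphismProperty.pullback_snd (P := @IsAffineHom) _ _ inferInstance
  exact hcov.descends @IsAffineHom hpb.flip h

end Groth.Agent.Lib.Helper40.GeomQuot
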