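import Mathlib
import Groth.Prelude.Def_QuotSh
import Groth.Prelude.Def_W4bk4git07Quot
import Groth.Agent.Lib.Helper40.GeomQuot
import Groth.Agent.Lib.Helper40.QuotShEff
import Groth.Agent.Lib.Helper40.LocTrivCov
import Groth.Agent.Lib.Helper40.ActShear

/-!
# An fppf quotient sheaf represented by `q : X ⟶ Y` is a geometric quotient
-/

set_option autoImplicit false
open CategoryTheory CategoryTheory.Limits AlgebraicGeometry MonoidalCategory
open CartesianMonoidalCategory MonObj
universe u

namespace Groth.Agent.Lib.Helper40.GeomQuot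

open Groth.Agent.Lib.Helper40.FpqcCov Groth.Agent.Lib.Helper40.GeomQuotSec
open Groth.Agent.Lib.Helper40.QuotShApi Groth.Agent.Lib.Helper40.ActPts

variable {S : Scheme.{u}} {G X Y : Over S} [GrpObj G] (a : AlgGrp.Action G X)

theorem pRel_act_iff {T : Over S} (x y : T ⟶ X) :
    PRel a.act (snd G X) T x y ↔ ∃ g : T ⟶ G, smul a g y = x := by
  constructor
  · rintro ⟨r, rfl, rfl⟩
    refine ⟨r ≫ fst G X, ?_⟩
    rw [smul_def]
    congr 1
    ext <;> simp
  · rintro ⟨g, rfl⟩
    exact ⟨lift g y, rfl, lift_snd _ _⟩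

theorem pRel_act_equivalence (T : Over S) : Equivalence (PRel a.act (snd G X) T) where
  refl x := (pRel_act_iff a x x).mpr ⟨1, ActPts.one_smul a x⟩
  symm := by
    intro x y h
    obtain ⟨g, rfl⟩ := (pRel_act_iff a _ _).mp h
    exact (pRel_act_iff a _ _).mpr ⟨g⁻¹, inv_smul_smul a g y⟩
  trans := by
    intro x y z h1 h2
    obtain ⟨g, rfl⟩ := (pRel_act_iff a _ _).mp h1
    obtain ⟨h, rfl⟩ := (pRel_act_iff a _ _).mp h2
    exact (pRel_act_iff a _ _).mpr ⟨g * h, ActPts.mul_smul a g h z⟩

theorem isGeomQuot_of_isQuotient_fppf (q : X ⟶ Y)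
    (hq : QuotSh.IsQuotient Scheme.fppfPrecoverage a.act (snd G X) q) : GIT.IsGeomQuot a q := by
  rw [isQuotient_iff] at hq
  obtain ⟨w, hsurj, hinj⟩ := hq
  have hcov : IsCov q.left := by
    obtain ⟨Rc, hRc, hsec⟩ := exists_precover_sections Scheme.fppfPrecoverage hsurj
    exact isCov_of_isLocallyTrivialFor_fppf (Over.mk q.left) ⟨Rc, hRc, fun S' f hf => hsec f hf⟩
  have H : RelCovers q.left a.act.left (snd G X).left := by
    intro Z g₁ g₂ h12 A u v huv
    let T : Over S := Over.mk (g₁ ≫ X.hom)
    let a' : T ⟶ X := Over.homMk g₁ rfl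
    have hg₂ : g₂ ≫ X.hom = g₁ ≫ X.hom := by
      rw [← Over.w q, ← Category.assoc, ← Category.assoc, h12]
    let b' : T ⟶ X := Over.homMk g₂ hg₂
    have hab : a' ≫ q = b' ≫ q := Over.OverMorphism.ext h12
    have hmem := hinj T a' b' hab
    rw [GrothendieckTopology.mem_over_iff] at hmem
    let E : Sieve Z :=
      { arrows := fun Z' c => c ≫ u = c ≫ v
        downward_closed := by
          intro Z' Z'' c hc d
          change (d ≫ c) ≫ u = (d ≫ c) ≫ v
          rw [Category.assoc, hc, Category.assoc] }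
    have hE : E ∈ Scheme.fppfTopology Z := by
      refine GrothendieckTopology.superset_covering _ ?_ hmem
      intro Z' c hc
      rw [Sieve.overEquiv_iff] at hc
      have hc' := (pRel_act_equivalence a _).eqvGen_iff.mp hc
      obtain ⟨r, hr1, hr2⟩ := hc'
      refine huv Z' c ⟨r.left, ?_, ?_⟩
      · have := congrArg (fun k => k.left) hr1
        exact this
      · have := congrArg (fun k => k.left) hr2
        exact this
    have hsh := GrothendieckTopology.Subcanonical.isSheaf_of_isRepresentable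
      (J := Scheme.fppfTopology) (yoneda.obj A)
    exact (hsh.isSheafFor E (by rwa [Sieve.generate_sieve])).isSeparatedFor.ext
      (fun Z' c hc => hc)
  exact isGeomQuot_of_isCov a q w hcov (surjective_lift_of_relCovers _ H) H

end Groth.Agent.Lib.Helper40.GeomQuot
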