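import Mathlib
import Groth.Prelude.Def_W4bk4git07Quot
import Groth.Agent.Lib.Helper40.FpqcCov
import Groth.Agent.Lib.Helper40.GeomQuot
import Groth.Agent.Lib.Helper40.GeomQuotSec
import Groth.Agent.Lib.Helper40.GeomQuotCat
import Groth.Agent.Lib.Helper40.FlatInj

/-!
# fpqc descent of geometric quotients (helper40)

Scheme-level pieces: for a cartesian square `pr, φ', φ, α` with `α` an fpqc covering and
relations `σ, p : GX ⇉ X`, `σ', p' : GX' ⇉ X'` compatible via `ρ : GX' ⟶ GX`, the properties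
making `φ'` a geometric quotient descend to `φ`.
-/

set_option autoImplicit false
open CategoryTheory CategoryTheory.Limits AlgebraicGeometry
universe u

namespace Groth.Agent.Lib.Helper40.GeomQuotDesc

open Groth.Agent.Lib.Helper40.FpqcCov Groth.Agent.Lib.Helper40.GeomQuotSec
open Groth.Agent.Lib.Helper40.GeomQuotCat (appLE_congr)
open Groth.Agent.Lib.Helper40

variable {GX GX' X Y X' Y' : Scheme.{u}}
  {σ p : GX ⟶ X} {φ : X ⟶ Y} {α : Y' ⟶ Y} {pr : X' ⟶ X} {φ' : X' ⟶ Y'}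
  {σ' p' : GX' ⟶ X'} {ρ : GX' ⟶ GX}

theorem surj_desc (hpb : IsPullback pr φ' φ α) (hα : Function.Surjective α.base)
    (h : Function.Surjective φ'.base) : Function.Surjective φ.base := by
  intro y
  obtain ⟨y', rfl⟩ := hα y
  obtain ⟨x', rfl⟩ := h y'
  refine ⟨pr.base x', ?_⟩
  have := congrArg (fun k : X' ⟶ Y => k.base x') hpb.w
  exact this

theorem orbit_desc (hinv : σ ≫ φ = p ≫ φ) (hinv' : σ' ≫ φ' = p' ≫ φ')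
    (hpb : IsPullback pr φ' φ α) [Surjective α]
    (hσ : σ' ≫ pr = ρ ≫ σ) (hp : p' ≫ pr = ρ ≫ p)
    (h : Function.Surjective (pullback.lift σ' p' hinv').base) :
    Function.Surjective (pullback.lift σ p hinv).base := by
  intro z
  obtain ⟨κ, hκ⟩ : ∃ κ : pullback φ φ ⟶ Y, κ = pullback.fst φ φ ≫ φ := ⟨_, rfl⟩
  obtain ⟨t, rfl⟩ := (inferInstance : Surjective (pullback.fst κ α)).surj z
  have c1 : (pullback.fst κ α ≫ pullback.fst φ φ) ≫ φ = pullback.snd κ α ≫ α := by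
    rw [Category.assoc, ← hκ]; exact pullback.condition
  have c2 : (pullback.fst κ α ≫ pullback.snd φ φ) ≫ φ = pullback.snd κ α ≫ α := by
    rw [Category.assoc, ← pullback.condition (f := φ) (g := φ), ← hκ]; exact pullback.condition
  obtain ⟨w1, hw1a, hw1b⟩ : ∃ w : pullback κ α ⟶ X',
      w ≫ pr = pullback.fst κ α ≫ pullback.fst φ φ ∧ w ≫ φ' = pullback.snd κ α :=
    ⟨hpb.lift _ _ c1, hpb.lift_fst _ _ _, hpb.lift_snd _ _ _⟩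
  obtain ⟨w2, hw2a, hw2b⟩ : ∃ w : pullback κ α ⟶ X',
      w ≫ pr = pullback.fst κ α ≫ pullback.snd φ φ ∧ w ≫ φ' = pullback.snd κ α :=
    ⟨hpb.lift _ _ c2, hpb.lift_fst _ _ _, hpb.lift_snd _ _ _⟩
  obtain ⟨m, hm1, hm2⟩ : ∃ m : pullback κ α ⟶ pullback φ' φ',
      m ≫ pullback.fst φ' φ' = w1 ∧ m ≫ pullback.snd φ' φ' = w2 :=
    ⟨pullback.lift w1 w2 (hw1b.trans hw2b.symm), pullback.lift_fst _ _ _, pullback.lift_snd _ _ _⟩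
  have cc : (pullback.fst φ' φ' ≫ pr) ≫ φ = (pullback.snd φ' φ' ≫ pr) ≫ φ := by
    rw [Category.assoc, Category.assoc, hpb.w, ← Category.assoc, ← Category.assoc,
      pullback.condition]
  obtain ⟨c, hc1, hc2⟩ : ∃ c : pullback φ' φ' ⟶ pullback φ φ,
      c ≫ pullback.fst φ φ = pullback.fst φ' φ' ≫ pr ∧
        c ≫ pullback.snd φ φ = pullback.snd φ' φ' ≫ pr :=
    ⟨pullback.lift _ _ cc, pullback.lift_fst _ _ _, pullback.lift_snd _ _ _⟩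
  have h1 : ρ ≫ pullback.lift σ p hinv = pullback.lift σ' p' hinv' ≫ c := by
    apply pullback.hom_ext
    · rw [Category.assoc, Category.assoc, pullback.lift_fst, hc1, pullback.lift_fst_assoc, hσ]
    · rw [Category.assoc, Category.assoc, pullback.lift_snd, hc2, pullback.lift_snd_assoc, hp]
  have h2 : m ≫ c = pullback.fst κ α := by
    apply pullback.hom_ext
    · rw [Category.assoc, hc1, ← Category.assoc, hm1, hw1a]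
    · rw [Category.assoc, hc2, ← Category.assoc, hm2, hw2a]
  obtain ⟨g', hg'⟩ := h (m.base t)
  refine ⟨ρ.base g', ?_⟩
  have e1 := congrArg (fun k : GX' ⟶ pullback φ φ => k.base g') h1
  have e2 := congrArg (fun k : pullback κ α ⟶ pullback φ φ => k.base t) h2
  calc (pullback.lift σ p hinv).base (ρ.base g')
      = c.base ((pullback.lift σ' p' hinv').base g') := e1
    _ = c.base (m.base t) := by rw [hg']
    _ = (pullback.fst κ α).base t := e2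

theorem subm_desc (hpb : IsPullback pr φ' φ α) (hα : IsCov α) (h : GIT.IsUnivSubmersive φ') :
    GIT.IsUnivSubmersive φ := by
  intro X₁ Z i₁ i₂ f₁ sq
  have hu : IsCov (pullback.fst i₂ α) := hα.of_isPullback (IsPullback.of_hasPullback i₂ α)
  have cj : (pullback.fst f₁ (pullback.fst i₂ α) ≫ i₁) ≫ φ =
      (pullback.snd f₁ (pullback.fst i₂ α) ≫ pullback.snd i₂ α) ≫ α := by
    calc (pullback.fst f₁ (pullback.fst i₂ α) ≫ i₁) ≫ φ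
        = pullback.fst f₁ (pullback.fst i₂ α) ≫ f₁ ≫ i₂ := by rw [Category.assoc, ← sq.w]
      _ = (pullback.snd f₁ (pullback.fst i₂ α) ≫ pullback.fst i₂ α) ≫ i₂ := by
          rw [← Category.assoc, pullback.condition (f := f₁) (g := pullback.fst i₂ α)]
      _ = (pullback.snd f₁ (pullback.fst i₂ α) ≫ pullback.snd i₂ α) ≫ α := by
          rw [Category.assoc, pullback.condition (f := i₂) (g := α), Category.assoc]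
  obtain ⟨j₁, hj1, hj2⟩ : ∃ j : pullback f₁ (pullback.fst i₂ α) ⟶ X',
      j ≫ pr = pullback.fst f₁ (pullback.fst i₂ α) ≫ i₁ ∧
        j ≫ φ' = pullback.snd f₁ (pullback.fst i₂ α) ≫ pullback.snd i₂ α :=
    ⟨hpb.lift _ _ cj, hpb.lift_fst _ _ _, hpb.lift_snd _ _ _⟩
  have big : IsPullback (pullback.fst f₁ (pullback.fst i₂ α) ≫ i₁)
      (pullback.snd f₁ (pullback.fst i₂ α)) φ (pullback.fst i₂ α ≫ i₂) :=
    (IsPullback.of_hasPullback f₁ (pullback.fst i₂ α)).paste_horiz sq.flip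
  have big' : IsPullback (j₁ ≫ pr) (pullback.snd f₁ (pullback.fst i₂ α)) φ
      (pullback.snd i₂ α ≫ α) := by
    rw [hj1, ← pullback.condition (f := i₂) (g := α)]; exact big
  have sq' : IsPullback j₁ (pullback.snd f₁ (pullback.fst i₂ α)) φ' (pullback.snd i₂ α) :=
    IsPullback.of_right big' hj2 hpb
  have hq1 : Topology.IsQuotientMap (pullback.snd f₁ (pullback.fst i₂ α)).base :=
    h _ _ _ sq'.flip
  have hq2 : Topology.IsQuotientMap (pullback.fst i₂ α).base := hu.isQuotientMap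
  have hq3 : Topology.IsQuotientMap
      (pullback.snd f₁ (pullback.fst i₂ α) ≫ pullback.fst i₂ α).base := by
    rw [Scheme.Hom.comp_base, TopCat.coe_comp]; exact hq2.comp hq1
  rw [← pullback.condition (f := f₁) (g := pullback.fst i₂ α), Scheme.Hom.comp_base,
    TopCat.coe_comp] at hq3
  exact Topology.IsQuotientMap.of_comp (pullback.fst f₁ (pullback.fst i₂ α)).continuous
    f₁.continuous hq3

theorem appLE_injective_of_eq {A B : Scheme.{u}} (f : A ⟶ B) (V : B.Opens) (V' : A.Opens)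
    (e : V' ≤ f ⁻¹ᵁ V) (h : V' = f ⁻¹ᵁ V) (hi : Function.Injective (f.app V).hom) :
    Function.Injective (f.appLE V V' e).hom := by
  subst h
  rw [Scheme.Hom.appLE_eq_app]; exact hi

theorem inv_transfer (hσ : σ' ≫ pr = ρ ≫ σ) (hp : p' ≫ pr = ρ ≫ p) (V : X.Opens)
    (V' : X'.Opens) (e : V' ≤ pr ⁻¹ᵁ V) (f : Γ(X, V))
    (hf : (σ.appLE V (σ ⁻¹ᵁ V ⊓ p ⁻¹ᵁ V) inf_le_left).hom f =
      (p.appLE V (σ ⁻¹ᵁ V ⊓ p ⁻¹ᵁ V) inf_le_right).hom f) :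
    (σ'.appLE V' (σ' ⁻¹ᵁ V' ⊓ p' ⁻¹ᵁ V') inf_le_left).hom ((pr.appLE V V' e).hom f) =
      (p'.appLE V' (σ' ⁻¹ᵁ V' ⊓ p' ⁻¹ᵁ V') inf_le_right).hom ((pr.appLE V V' e).hom f) := by
  have hW : σ' ⁻¹ᵁ V' ⊓ p' ⁻¹ᵁ V' ≤ ρ ⁻¹ᵁ (σ ⁻¹ᵁ V ⊓ p ⁻¹ᵁ V) := by
    rintro x ⟨hx1, hx2⟩
    have a1 : pr.base (σ'.base x) = σ.base (ρ.base x) :=
      congrArg (fun k : GX' ⟶ X => k.base x) hσ
    have a2 : pr.base (p'.base x) = p.base (ρ.base x) :=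
      congrArg (fun k : GX' ⟶ X => k.base x) hp
    have b1 : pr.base (σ'.base x) ∈ V := e hx1
    have b2 : pr.base (p'.base x) ∈ V := e hx2
    rw [a1] at b1; rw [a2] at b2
    exact ⟨b1, b2⟩
  have i1 : pr.appLE V V' e ≫ σ'.appLE V' (σ' ⁻¹ᵁ V' ⊓ p' ⁻¹ᵁ V') inf_le_left =
      σ.appLE V (σ ⁻¹ᵁ V ⊓ p ⁻¹ᵁ V) inf_le_left ≫ ρ.appLE _ _ hW := by
    rw [Scheme.Hom.appLE_comp_appLE, Scheme.Hom.appLE_comp_appLE]
    exact appLE_congr hσ _ _ _ _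
  have i2 : pr.appLE V V' e ≫ p'.appLE V' (σ' ⁻¹ᵁ V' ⊓ p' ⁻¹ᵁ V') inf_le_right =
      p.appLE V (σ ⁻¹ᵁ V ⊓ p ⁻¹ᵁ V) inf_le_right ≫ ρ.appLE _ _ hW := by
    rw [Scheme.Hom.appLE_comp_appLE, Scheme.Hom.appLE_comp_appLE]
    exact appLE_congr hp _ _ _ _
  have e1 := congrArg (fun k => k.hom f) i1
  have e2 := congrArg (fun k => k.hom f) i2
  calc (σ'.appLE V' (σ' ⁻¹ᵁ V' ⊓ p' ⁻¹ᵁ V') inf_le_left).hom ((pr.appLE V V' e).hom f)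
      = (ρ.appLE _ _ hW).hom ((σ.appLE V (σ ⁻¹ᵁ V ⊓ p ⁻¹ᵁ V) inf_le_left).hom f) := e1
    _ = (ρ.appLE _ _ hW).hom ((p.appLE V (σ ⁻¹ᵁ V ⊓ p ⁻¹ᵁ V) inf_le_right).hom f) := by rw [hf]
    _ = (p'.appLE V' (σ' ⁻¹ᵁ V' ⊓ p' ⁻¹ᵁ V') inf_le_right).hom ((pr.appLE V V' e).hom f) :=
        e2.symm

theorem eq_pullbacks {R : Scheme.{u}} (π₁ π₂ : R ⟶ Y') (hπ : π₁ ≫ α = π₂ ≫ α) [Flat π₁]
    (hpb : IsPullback pr φ' φ α) [QuasiCompact φ'] [QuasiSeparated φ']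
    (hinj : ∀ U' : Y'.Opens, Function.Injective (φ'.app U').hom)
    (U' : Y'.Opens) (V : X.Opens) (e : φ' ⁻¹ᵁ U' ≤ pr ⁻¹ᵁ V) (f : Γ(X, V)) (t' : Γ(Y', U'))
    (ht' : (φ'.app U').hom t' = (pr.appLE V (φ' ⁻¹ᵁ U') e).hom f)
    (W : R.Opens) (hW1 : W ≤ π₁ ⁻¹ᵁ U') (hW2 : W ≤ π₂ ⁻¹ᵁ U') :
    (π₁.appLE U' W hW1).hom t' = (π₂.appLE U' W hW2).hom t' := by
  obtain ⟨P, q₁, ψ, hP⟩ : ∃ (P : Scheme.{u}) (q₁ : P ⟶ X') (ψ : P ⟶ R),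
      IsPullback q₁ ψ φ' π₁ := ⟨_, _, _, IsPullback.of_hasPullback φ' π₁⟩
  have hψinj : Function.Injective (ψ.app W).hom :=
    FlatInj.injective_app_of_isPullback hP hinj W
  have cq : (q₁ ≫ pr) ≫ φ = (ψ ≫ π₂) ≫ α := by
    rw [Category.assoc, hpb.w, ← Category.assoc, hP.w, Category.assoc, hπ, Category.assoc]
  obtain ⟨q₂, hq2a, hq2b⟩ : ∃ q₂ : P ⟶ X', q₂ ≫ pr = q₁ ≫ pr ∧ q₂ ≫ φ' = ψ ≫ π₂ :=
    ⟨hpb.lift _ _ cq, hpb.lift_fst _ _ _, hpb.lift_snd _ _ _⟩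
  have n1 : ψ ⁻¹ᵁ W ≤ q₁ ⁻¹ᵁ (φ' ⁻¹ᵁ U') := by
    intro x hx
    have a : φ'.base (q₁.base x) = π₁.base (ψ.base x) :=
      congrArg (fun k : P ⟶ Y' => k.base x) hP.w
    have b : π₁.base (ψ.base x) ∈ U' := hW1 hx
    show φ'.base (q₁.base x) ∈ U'
    rw [a]; exact b
  have n2 : ψ ⁻¹ᵁ W ≤ q₂ ⁻¹ᵁ (φ' ⁻¹ᵁ U') := by
    intro x hx
    have a : φ'.base (q₂.base x) = π₂.base (ψ.base x) :=
      congrArg (fun k : P ⟶ Y' => k.base x) hq2b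
    have b : π₂.base (ψ.base x) ∈ U' := hW2 hx
    show φ'.base (q₂.base x) ∈ U'
    rw [a]; exact b
  have A1 : π₁.appLE U' W hW1 ≫ ψ.app W =
      φ'.app U' ≫ q₁.appLE (φ' ⁻¹ᵁ U') (ψ ⁻¹ᵁ W) n1 := by
    rw [Scheme.Hom.app_eq_appLE (f := ψ), Scheme.Hom.app_eq_appLE (f := φ'),
      Scheme.Hom.appLE_comp_appLE, Scheme.Hom.appLE_comp_appLE]
    exact appLE_congr hP.w.symm _ _ _ _
  have A2 : π₂.appLE U' W hW2 ≫ ψ.app W =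
      φ'.app U' ≫ q₂.appLE (φ' ⁻¹ᵁ U') (ψ ⁻¹ᵁ W) n2 := by
    rw [Scheme.Hom.app_eq_appLE (f := ψ), Scheme.Hom.app_eq_appLE (f := φ'),
      Scheme.Hom.appLE_comp_appLE, Scheme.Hom.appLE_comp_appLE]
    exact appLE_congr hq2b.symm _ _ _ _
  have A3 : pr.appLE V (φ' ⁻¹ᵁ U') e ≫ q₁.appLE (φ' ⁻¹ᵁ U') (ψ ⁻¹ᵁ W) n1 =
      pr.appLE V (φ' ⁻¹ᵁ U') e ≫ q₂.appLE (φ' ⁻¹ᵁ U') (ψ ⁻¹ᵁ W) n2 := by
    rw [Scheme.Hom.appLE_comp_appLE, Scheme.Hom.appLE_comp_appLE]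
    exact appLE_congr hq2a.symm _ _ _ _
  apply hψinj
  have e1 := congrArg (fun k => k.hom t') A1
  have e2 := congrArg (fun k => k.hom t') A2
  have e3 := congrArg (fun k => k.hom f) A3
  calc (ψ.app W).hom ((π₁.appLE U' W hW1).hom t')
      = (q₁.appLE (φ' ⁻¹ᵁ U') (ψ ⁻¹ᵁ W) n1).hom ((φ'.app U').hom t') := e1
    _ = (q₁.appLE (φ' ⁻¹ᵁ U') (ψ ⁻¹ᵁ W) n1).hom ((pr.appLE V (φ' ⁻¹ᵁ U') e).hom f) := by
        rw [ht']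
    _ = (q₂.appLE (φ' ⁻¹ᵁ U') (ψ ⁻¹ᵁ W) n2).hom ((pr.appLE V (φ' ⁻¹ᵁ U') e).hom f) := e3
    _ = (q₂.appLE (φ' ⁻¹ᵁ U') (ψ ⁻¹ᵁ W) n2).hom ((φ'.app U').hom t') := by rw [ht']
    _ = (ψ.app W).hom ((π₂.appLE U' W hW2).hom t') := e2.symm

theorem sections_desc (hinv : σ ≫ φ = p ≫ φ) (hpb : IsPullback pr φ' φ α) (hα : IsCov α)
    [Flat α] [QuasiCompact φ'] [QuasiSeparated φ']
    (hσ : σ' ≫ pr = ρ ≫ σ) (hp : p' ≫ pr = ρ ≫ p)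
    (h : ∀ U' : Y'.Opens, Function.Injective (φ'.app U').hom ∧
      ∀ f' : Γ(X', φ' ⁻¹ᵁ U'),
        (σ'.appLE (φ' ⁻¹ᵁ U') (σ' ⁻¹ᵁ (φ' ⁻¹ᵁ U') ⊓ p' ⁻¹ᵁ (φ' ⁻¹ᵁ U')) inf_le_left).hom f' =
          (p'.appLE (φ' ⁻¹ᵁ U') (σ' ⁻¹ᵁ (φ' ⁻¹ᵁ U') ⊓ p' ⁻¹ᵁ (φ' ⁻¹ᵁ U')) inf_le_right).hom f' →
        f' ∈ Set.range (φ'.app U').hom)
    (U : Y.Opens) :
    Function.Injective (φ.app U).hom ∧
      ∀ f : Γ(X, φ ⁻¹ᵁ U), f ∈ Set.range (φ.app U).hom ↔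
        (σ.appLE (φ ⁻¹ᵁ U) (σ ⁻¹ᵁ (φ ⁻¹ᵁ U) ⊓ p ⁻¹ᵁ (φ ⁻¹ᵁ U)) inf_le_left).hom f =
          (p.appLE (φ ⁻¹ᵁ U) (σ ⁻¹ᵁ (φ ⁻¹ᵁ U) ⊓ p ⁻¹ᵁ (φ ⁻¹ᵁ U)) inf_le_right).hom f := by
  have hprcov : IsCov pr := hα.of_isPullback hpb
  have eV : φ' ⁻¹ᵁ (α ⁻¹ᵁ U) = pr ⁻¹ᵁ (φ ⁻¹ᵁ U) := by
    show (φ' ≫ α) ⁻¹ᵁ U = (pr ≫ φ) ⁻¹ᵁ U
    rw [hpb.w]
  have eVle : φ' ⁻¹ᵁ (α ⁻¹ᵁ U) ≤ pr ⁻¹ᵁ (φ ⁻¹ᵁ U) := eV.le
  have hsq : φ.app U ≫ pr.appLE (φ ⁻¹ᵁ U) (φ' ⁻¹ᵁ (α ⁻¹ᵁ U)) eVle =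
      α.app U ≫ φ'.app (α ⁻¹ᵁ U) := by
    rw [Scheme.Hom.app_eq_appLE (f := φ), Scheme.Hom.app_eq_appLE (f := α),
      Scheme.Hom.app_eq_appLE (f := φ'), Scheme.Hom.appLE_comp_appLE,
      Scheme.Hom.appLE_comp_appLE]
    exact appLE_congr hpb.w _ _ _ _
  have hαinj : Function.Injective (α.app U).hom :=
    (app_of_relCovers α hα (pullback.fst α α) (pullback.snd α α) pullback.condition
      (RelCovers.of_isPullback (IsPullback.of_hasPullback α α)) U).1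
  have hprinj : Function.Injective (pr.appLE (φ ⁻¹ᵁ U) (φ' ⁻¹ᵁ (α ⁻¹ᵁ U)) eVle).hom := by
    apply appLE_injective_of_eq _ _ _ _ eV
    exact (app_of_relCovers pr hprcov (pullback.fst pr pr) (pullback.snd pr pr) pullback.condition
      (RelCovers.of_isPullback (IsPullback.of_hasPullback pr pr)) (φ ⁻¹ᵁ U)).1
  have hinj : Function.Injective (φ.app U).hom := by
    intro s t hst
    apply hαinj
    apply (h (α ⁻¹ᵁ U)).1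
    have e1 := congrArg (fun k => k.hom s) hsq
    have e2 := congrArg (fun k => k.hom t) hsq
    calc (φ'.app (α ⁻¹ᵁ U)).hom ((α.app U).hom s)
        = (pr.appLE (φ ⁻¹ᵁ U) (φ' ⁻¹ᵁ (α ⁻¹ᵁ U)) eVle).hom ((φ.app U).hom s) := e1.symm
      _ = (pr.appLE (φ ⁻¹ᵁ U) (φ' ⁻¹ᵁ (α ⁻¹ᵁ U)) eVle).hom ((φ.app U).hom t) := by rw [hst]
      _ = (φ'.app (α ⁻¹ᵁ U)).hom ((α.app U).hom t) := e2
  refine ⟨hinj, fun f => ⟨?_, fun hf => ?_⟩⟩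
  · rintro ⟨t, rfl⟩
    have e : φ.app U ≫ σ.appLE (φ ⁻¹ᵁ U) (σ ⁻¹ᵁ (φ ⁻¹ᵁ U) ⊓ p ⁻¹ᵁ (φ ⁻¹ᵁ U)) inf_le_left =
        φ.app U ≫ p.appLE (φ ⁻¹ᵁ U) (σ ⁻¹ᵁ (φ ⁻¹ᵁ U) ⊓ p ⁻¹ᵁ (φ ⁻¹ᵁ U)) inf_le_right := by
      rw [Scheme.Hom.app_eq_appLE (f := φ), Scheme.Hom.appLE_comp_appLE,
        Scheme.Hom.appLE_comp_appLE]
      exact appLE_congr hinv _ _ _ _
    exact congrArg (fun k => k.hom t) e
  · have hf' := inv_transfer (σ' := σ') (p' := p') hσ hp (φ ⁻¹ᵁ U) (φ' ⁻¹ᵁ (α ⁻¹ᵁ U)) eVle f hf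
    obtain ⟨t', ht'⟩ := (h (α ⁻¹ᵁ U)).2 _ hf'
    have hdesc := (app_of_relCovers α hα (pullback.fst α α) (pullback.snd α α) pullback.condition
      (RelCovers.of_isPullback (IsPullback.of_hasPullback α α)) U).2 t'
    have ht'' : t' ∈ Set.range (α.app U).hom :=
      hdesc.mpr (eq_pullbacks (pullback.fst α α) (pullback.snd α α) pullback.condition hpb
        (fun U' => (h U').1) (α ⁻¹ᵁ U) (φ ⁻¹ᵁ U) eVle f t' ht' _ inf_le_left inf_le_right)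
    obtain ⟨t, rfl⟩ := ht''
    refine ⟨t, ?_⟩
    apply hprinj
    have e1 := congrArg (fun k => k.hom t) hsq
    exact e1.trans ht'

end Groth.Agent.Lib.Helper40.GeomQuotDesc
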