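import Mathlib
import Groth.Prelude.Def_W4bk4git07Quot
import Groth.Prelude.Def_ChGrp
import Groth.Agent.Lib.Helper40.GeomQuotDesc

/-!
# fpqc descent of (universal) geometric quotients, `Over S` level (helper40)

* `exists_induced_action`: the induced action on a base change `X' = X ×_Y Y'` of an invariant
  morphism.
* `isGeomQuot_desc`: geometric quotients descend along flat surjective quasi-compact base changes
  (for `φ` quasi-compact and quasi-separated).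
* `isUnivGeomQuot_desc`: the same for universal geometric quotients.
-/

set_option autoImplicit false
open CategoryTheory CategoryTheory.Limits AlgebraicGeometry MonoidalCategory
open CartesianMonoidalCategory MonObj GrpObj
universe u

namespace Groth.Agent.Lib.Helper40.GeomQuotDesc

variable {S : Scheme.{u}} {G X Y X' Y' : Over S} [GrpObj G]

theorem exists_induced_action (a : AlgGrp.Action G X) (φ : X ⟶ Y) (hinv : GIT.IsInvariant a φ)
    (g : Y' ⟶ Y) (pr : X' ⟶ X) (φ' : X' ⟶ Y') (hpb : IsPullback pr φ' φ g) :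
    ∃ a' : AlgGrp.Action G X', a'.act ≫ pr = (G ◁ pr) ≫ a.act ∧ GIT.IsInvariant a' φ' := by
  have hinve : a.act ≫ φ = snd G X ≫ φ := hinv
  have cond : ((G ◁ pr) ≫ a.act) ≫ φ = (snd G X' ≫ φ') ≫ g := by
    rw [Category.assoc, hinve, ← Category.assoc, whiskerLeft_snd, Category.assoc, hpb.w,
      Category.assoc]
  obtain ⟨act', h1, h2⟩ : ∃ act' : G ⊗ X' ⟶ X',
      act' ≫ pr = (G ◁ pr) ≫ a.act ∧ act' ≫ φ' = snd G X' ≫ φ' :=
    ⟨hpb.lift _ _ cond, hpb.lift_fst _ _ _, hpb.lift_snd _ _ _⟩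
  have p1 : ∀ {T : Over S} (t : T ⟶ G) (x : T ⟶ X'),
      (lift t x ≫ act') ≫ pr = lift t (x ≫ pr) ≫ a.act := by
    intro T t x; rw [Category.assoc, h1, lift_whiskerLeft_assoc]
  have p2 : ∀ {T : Over S} (t : T ⟶ G) (x : T ⟶ X'), (lift t x ≫ act') ≫ φ' = x ≫ φ' := by
    intro T t x; rw [Category.assoc, h2, lift_snd_assoc]
  refine ⟨⟨act', ?_, ?_⟩, h1, h2⟩
  · apply AlgGrp.Action.hom_ext_lift₂
    intro T u x
    have hu : u ≫ η[G] = 1 := by rw [Hom.one_def, toUnit_unique (toUnit T) u]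
    rw [lift_whiskerRight_assoc, hu, leftUnitor_hom, lift_snd]
    apply hpb.hom_ext
    · exact (p1 _ _).trans (AlgGrp.Action.lift_one_act a _)
    · exact p2 _ _
  · apply AlgGrp.Action.hom_ext_lift₃
    intro T t t' x
    rw [lift_whiskerRight_assoc, ← Hom.mul_def, lift_lift_associator_hom_assoc,
      lift_whiskerLeft_assoc]
    apply hpb.hom_ext
    · calc (lift (t * t') x ≫ act') ≫ pr = lift (t * t') (x ≫ pr) ≫ a.act := p1 _ _
        _ = lift t (lift t' (x ≫ pr) ≫ a.act) ≫ a.act := AlgGrp.Action.lift_mul_act a _ _ _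
        _ = lift t ((lift t' x ≫ act') ≫ pr) ≫ a.act := by rw [p1]
        _ = (lift t (lift t' x ≫ act') ≫ act') ≫ pr := (p1 _ _).symm
    · calc (lift (t * t') x ≫ act') ≫ φ' = x ≫ φ' := p2 _ _
        _ = (lift t' x ≫ act') ≫ φ' := (p2 _ _).symm
        _ = (lift t (lift t' x ≫ act') ≫ act') ≫ φ' := (p2 _ _).symm

theorem isGeomQuot_desc (a : AlgGrp.Action G X) (φ : X ⟶ Y) (hinv : GIT.IsInvariant a φ)
    [QuasiCompact φ.left] [QuasiSeparated φ.left]
    (α : Y' ⟶ Y) [Flat α.left] [Surjective α.left] [QuasiCompact α.left]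
    (pr : X' ⟶ X) (φ' : X' ⟶ Y') (hpb : IsPullback pr φ' φ α)
    (a' : AlgGrp.Action G X') (heq : a'.act ≫ pr = (G ◁ pr) ≫ a.act)
    (hinv' : GIT.IsInvariant a' φ') (h : GIT.IsGeomQuot a' φ') : GIT.IsGeomQuot a φ := by
  have hpbL : IsPullback pr.left φ'.left φ.left α.left := hpb.map (Over.forget _)
  have hα : FpqcCov.IsCov α.left := (FpqcCov.IsQCov.of_quasiCompact α.left).isCov
  have hσ : a'.act.left ≫ pr.left = (G ◁ pr).left ≫ a.act.left :=
    congrArg CommaMorphism.left heq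
  have hp : (snd G X').left ≫ pr.left = (G ◁ pr).left ≫ (snd G X).left :=
    (congrArg CommaMorphism.left (whiskerLeft_snd G pr)).symm
  haveI : QuasiSeparated φ'.left :=
    MorphismProperty.of_isPullback (P := @QuasiSeparated) hpbL inferInstance
  haveI : QuasiCompact φ'.left :=
    MorphismProperty.of_isPullback (P := @QuasiCompact) hpbL inferInstance
  refine ⟨hinv, ?_, ?_, ?_, ?_⟩
  · exact surj_desc hpbL (inferInstance : Surjective α.left).surj h.surj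
  · exact orbit_desc hinv.left hinv'.left hpbL hσ hp h.orbit
  · exact subm_desc hpbL hα h.subm
  · intro U
    obtain ⟨h1, h2⟩ := sections_desc hinv.left hpbL hα hσ hp
      (fun U' => ⟨(h.sections U').1, fun f' hf' => by
        have hm : f' ∈ {f | GIT.IsInvSection a' φ' U' f} := hf'
        rw [← (h.sections U').2] at hm
        exact hm⟩) U
    refine ⟨h1, ?_⟩
    ext f
    exact h2 f

theorem isUnivGeomQuot_desc (a : AlgGrp.Action G X) (φ : X ⟶ Y) (hinv : GIT.IsInvariant a φ)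
    [QuasiCompact φ.left] [QuasiSeparated φ.left]
    (α : Y' ⟶ Y) [Flat α.left] [Surjective α.left] [QuasiCompact α.left]
    (pr : X' ⟶ X) (φ' : X' ⟶ Y') (hpb : IsPullback pr φ' φ α)
    (a' : AlgGrp.Action G X') (heq : a'.act ≫ pr = (G ◁ pr) ≫ a.act)
    (hinv' : GIT.IsInvariant a' φ') (h : GIT.IsUnivGeomQuot a' φ') : GIT.IsUnivGeomQuot a φ := by
  refine ⟨isGeomQuot_desc a φ hinv α pr φ' hpb a' heq hinv' h.1, ?_⟩
  intro X₁ Y₁ pr₁ φ₁ g _ hpb₁ a₁ heq₁ hinv₁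
  have hinv'e : a'.act ≫ φ' = snd G X' ≫ φ' := hinv'
  obtain ⟨Y₁', α₁, g', hY⟩ : ∃ (Y₁' : Over S) (α₁ : Y₁' ⟶ Y₁) (g' : Y₁' ⟶ Y'),
      IsPullback α₁ g' g α := ⟨_, _, _, IsPullback.of_hasPullback g α⟩
  obtain ⟨X₁', pr₁', φ₁', hX⟩ : ∃ (X₁' : Over S) (pr₁' : X₁' ⟶ X₁) (φ₁' : X₁' ⟶ Y₁'),
      IsPullback pr₁' φ₁' φ₁ α₁ := ⟨_, _, _, IsPullback.of_hasPullback φ₁ α₁⟩
  obtain ⟨a₁', heq₁', hinv₁'⟩ := exists_induced_action a₁ φ₁ hinv₁ α₁ pr₁' φ₁' hX
  have hinv₁'e : a₁'.act ≫ φ₁' = snd G X₁' ≫ φ₁' := hinv₁'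
  have cr : (pr₁' ≫ pr₁) ≫ φ = (φ₁' ≫ g') ≫ α := by
    rw [Category.assoc, hpb₁.w, ← Category.assoc, hX.w, Category.assoc, hY.w, Category.assoc]
  obtain ⟨r, hr1, hr2⟩ : ∃ r : X₁' ⟶ X', r ≫ pr = pr₁' ≫ pr₁ ∧ r ≫ φ' = φ₁' ≫ g' :=
    ⟨hpb.lift _ _ cr, hpb.lift_fst _ _ _, hpb.lift_snd _ _ _⟩
  have big : IsPullback (pr₁' ≫ pr₁) φ₁' φ (α₁ ≫ g) := hX.paste_horiz hpb₁
  have big' : IsPullback (r ≫ pr) φ₁' φ (g' ≫ α) := by rw [hr1, ← hY.w]; exact big
  have sqr : IsPullback r φ₁' φ' g' := IsPullback.of_right big' hr2 hpb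
  have heqr : a₁'.act ≫ r = (G ◁ r) ≫ a'.act := by
    apply hpb.hom_ext
    · calc (a₁'.act ≫ r) ≫ pr = a₁'.act ≫ pr₁' ≫ pr₁ := by rw [Category.assoc, hr1]
        _ = (G ◁ pr₁') ≫ a₁.act ≫ pr₁ := by rw [← Category.assoc, heq₁', Category.assoc]
        _ = (G ◁ pr₁') ≫ (G ◁ pr₁) ≫ a.act := by rw [heq₁]
        _ = (G ◁ (pr₁' ≫ pr₁)) ≫ a.act := by
            rw [MonoidalCategory.whiskerLeft_comp, Category.assoc]
        _ = (G ◁ (r ≫ pr)) ≫ a.act := by rw [hr1]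
        _ = (G ◁ r) ≫ (G ◁ pr) ≫ a.act := by
            rw [MonoidalCategory.whiskerLeft_comp, Category.assoc]
        _ = (G ◁ r) ≫ a'.act ≫ pr := by rw [heq]
        _ = ((G ◁ r) ≫ a'.act) ≫ pr := (Category.assoc _ _ _).symm
    · calc (a₁'.act ≫ r) ≫ φ' = a₁'.act ≫ φ₁' ≫ g' := by rw [Category.assoc, hr2]
        _ = snd G X₁' ≫ φ₁' ≫ g' := by rw [← Category.assoc, hinv₁'e, Category.assoc]
        _ = snd G X₁' ≫ r ≫ φ' := by rw [hr2]
        _ = (G ◁ r) ≫ snd G X' ≫ φ' := by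
            rw [← Category.assoc, ← whiskerLeft_snd, Category.assoc]
        _ = (G ◁ r) ≫ a'.act ≫ φ' := by rw [hinv'e]
        _ = ((G ◁ r) ≫ a'.act) ≫ φ' := (Category.assoc _ _ _).symm
  have hq₁' : GIT.IsGeomQuot a₁' φ₁' := h.2 r φ₁' g' trivial sqr a₁' heqr hinv₁'
  have hYL : IsPullback α₁.left g'.left g.left α.left := hY.map (Over.forget _)
  have hpb₁L : IsPullback pr₁.left φ₁.left φ.left g.left := hpb₁.map (Over.forget _)
  haveI : Flat α₁.left := MorphismProperty.of_isPullback (P := @Flat) hYL.flip inferInstance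
  haveI : Surjective α₁.left :=
    MorphismProperty.of_isPullback (P := @Surjective) hYL.flip inferInstance
  haveI : QuasiCompact α₁.left :=
    MorphismProperty.of_isPullback (P := @QuasiCompact) hYL.flip inferInstance
  haveI : QuasiCompact φ₁.left :=
    MorphismProperty.of_isPullback (P := @QuasiCompact) hpb₁L inferInstance
  haveI : QuasiSeparated φ₁.left :=
    MorphismProperty.of_isPullback (P := @QuasiSeparated) hpb₁L inferInstance
  exact isGeomQuot_desc a₁ φ₁ hinv₁ α₁ pr₁' φ₁' hX a₁' heq₁' hinv₁' hq₁'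

end Groth.Agent.Lib.Helper40.GeomQuotDesc
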