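import Mathlib
import Groth.Prelude.Def_W4bk4git07Quot
import Groth.Agent.Lib.Helper40.FpqcCovOver

/-!
# A geometric quotient is separated iff the action is separated
-/

set_option autoImplicit false

universe u
open CategoryTheory CategoryTheory.Limits MonoidalCategory CartesianMonoidalCategory MonObj GrpObj
  AlgebraicGeometry Topology

namespace Groth.Agent.Lib.Helper40.GeomQuotSep

variable {S : Scheme.{u}}

theorem left_hom_ext {T : Scheme.{u}} {A B : Over S} (f g : T ⟶ (A ⊗ B).left)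
    (h1 : f ≫ (fst A B).left = g ≫ (fst A B).left)
    (h2 : f ≫ (snd A B).left = g ≫ (snd A B).left) : f = g :=
  pullback.hom_ext (f := A.hom) (g := B.hom) h1 h2

/-- the product map `φ × φ`. -/
noncomputable def qq {X Y : Over S} (φ : X ⟶ Y) : X ⊗ X ⟶ Y ⊗ Y := (φ ▷ X) ≫ (Y ◁ φ)

theorem qq_fst {X Y : Over S} (φ : X ⟶ Y) : qq φ ≫ fst Y Y = fst X X ≫ φ := by
  simp [qq]

theorem qq_snd {X Y : Over S} (φ : X ⟶ Y) : qq φ ≫ snd Y Y = snd X X ≫ φ := by
  simp [qq]

theorem isQuotientMap_qq {X Y : Over S} {φ : X ⟶ Y} (h : GIT.IsUnivSubmersive φ.left) :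
    IsQuotientMap (qq φ).left.base := by
  have sq1 : IsPullback (φ ▷ X).left (fst X X).left (fst Y X).left φ.left :=
    (FpqcCov.isPullback_whiskerRight φ X).map (Over.forget S)
  have sq2 : IsPullback (Y ◁ φ).left (snd Y X).left (snd Y Y).left φ.left :=
    (FpqcCov.isPullback_whiskerLeft Y φ).map (Over.forget S)
  have h1 : IsQuotientMap (φ ▷ X).left.base := h _ _ _ sq1
  have h2 : IsQuotientMap (Y ◁ φ).left.base := h _ _ _ sq2
  exact h2.comp h1

theorem diag_left (Y : Over S) : (lift (𝟙 Y) (𝟙 Y)).left = pullback.diagonal Y.hom := rfl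

theorem isSeparated_iff_isClosed_range (Y : Over S) :
    IsSeparated Y.hom ↔ IsClosed (Set.range (lift (𝟙 Y) (𝟙 Y)).left.base) := by
  rw [diag_left, isSeparated_iff]
  constructor
  · intro h
    haveI := h
    exact (pullback.diagonal Y.hom).isClosedEmbedding.isClosed_range
  · intro h
    exact IsClosedImmersion.of_isPreimmersion _ h

section

variable {G X Y : Over S} [GrpObj G] (a : AlgGrp.Action G X) (φ : X ⟶ Y)

theorem psi_qq (hinv : GIT.IsInvariant a φ) :
    GIT.psi a (𝟙 X) ≫ qq φ = (snd G X ≫ φ) ≫ lift (𝟙 Y) (𝟙 Y) := by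
  have hinv' : a.act ≫ φ = snd G X ≫ φ := hinv
  apply CartesianMonoidalCategory.hom_ext
  · simpa [GIT.psi, qq] using hinv'
  · simp [GIT.psi, qq]

/-- `X ×_Y X ⟶ X ×_S X`. -/
noncomputable def kap : pullback φ.left φ.left ⟶ (X ⊗ X).left :=
  pullback.lift (f := X.hom) (g := X.hom) (pullback.fst φ.left φ.left) (pullback.snd φ.left φ.left)
    (by
      have e : X.hom = φ.left ≫ Y.hom := (Over.w φ).symm
      calc pullback.fst φ.left φ.left ≫ X.hom
          = (pullback.fst φ.left φ.left ≫ φ.left) ≫ Y.hom := by rw [e, Category.assoc]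
        _ = (pullback.snd φ.left φ.left ≫ φ.left) ≫ Y.hom := by rw [pullback.condition]
        _ = pullback.snd φ.left φ.left ≫ X.hom := by rw [e, Category.assoc])

theorem kap_fst : kap φ ≫ (fst X X).left = pullback.fst φ.left φ.left :=
  pullback.lift_fst _ _ _

theorem kap_snd : kap φ ≫ (snd X X).left = pullback.snd φ.left φ.left :=
  pullback.lift_snd _ _ _

theorem psiY_kap (hinv : GIT.IsInvariant a φ) :
    GIT.PsiY a φ hinv ≫ kap φ = (GIT.psi a (𝟙 X)).left := by
  apply left_hom_ext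
  · rw [Category.assoc, kap_fst]
    have e1 : GIT.PsiY a φ hinv ≫ pullback.fst φ.left φ.left = a.act.left :=
      pullback.lift_fst _ _ _
    have e2 : (GIT.psi a (𝟙 X)).left ≫ (fst X X).left = a.act.left := by
      have : GIT.psi a (𝟙 X) ≫ fst X X = a.act := by simp [GIT.psi]
      rw [← Over.comp_left, this]
    rw [e1, e2]
  · rw [Category.assoc, kap_snd]
    have e1 : GIT.PsiY a φ hinv ≫ pullback.snd φ.left φ.left = (snd G X).left :=
      pullback.lift_snd _ _ _
    have e2 : (GIT.psi a (𝟙 X)).left ≫ (snd X X).left = (snd G X).left := by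
      have : GIT.psi a (𝟙 X) ≫ snd X X = snd G X := by simp [GIT.psi]
      rw [← Over.comp_left, this]
    rw [e1, e2]

/-- first projection of the fibre of `φ × φ` over the diagonal. -/
noncomputable abbrev pf : pullback (qq φ).left (lift (𝟙 Y) (𝟙 Y)).left ⟶ (X ⊗ X).left :=
  pullback.fst _ _

/-- second projection of the fibre of `φ × φ` over the diagonal. -/
noncomputable abbrev ps : pullback (qq φ).left (lift (𝟙 Y) (𝟙 Y)).left ⟶ Y.left :=
  pullback.snd _ _

theorem the_cond :
    (pf φ ≫ (fst X X).left) ≫ φ.left = (pf φ ≫ (snd X X).left) ≫ φ.left := by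
  have c : pf φ ≫ (qq φ).left = ps φ ≫ (lift (𝟙 Y) (𝟙 Y)).left := pullback.condition
  have f1 : (fst X X).left ≫ φ.left = (qq φ).left ≫ (fst Y Y).left := by
    rw [← Over.comp_left, ← Over.comp_left, qq_fst]
  have f2 : (snd X X).left ≫ φ.left = (qq φ).left ≫ (snd Y Y).left := by
    rw [← Over.comp_left, ← Over.comp_left, qq_snd]
  have d1 : (lift (𝟙 Y) (𝟙 Y)).left ≫ (fst Y Y).left = 𝟙 Y.left := by
    rw [← Over.comp_left, lift_fst]; rfl
  have d2 : (lift (𝟙 Y) (𝟙 Y)).left ≫ (snd Y Y).left = 𝟙 Y.left := by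
    rw [← Over.comp_left, lift_snd]; rfl
  calc (pf φ ≫ (fst X X).left) ≫ φ.left
      = pf φ ≫ (qq φ).left ≫ (fst Y Y).left := by rw [Category.assoc, f1]
    _ = (pf φ ≫ (qq φ).left) ≫ (fst Y Y).left := (Category.assoc _ _ _).symm
    _ = (ps φ ≫ (lift (𝟙 Y) (𝟙 Y)).left) ≫ (fst Y Y).left := by rw [c]
    _ = ps φ := by rw [Category.assoc, d1, Category.comp_id]
    _ = (ps φ ≫ (lift (𝟙 Y) (𝟙 Y)).left) ≫ (snd Y Y).left := by
        rw [Category.assoc, d2, Category.comp_id]
    _ = (pf φ ≫ (qq φ).left) ≫ (snd Y Y).left := by rw [c]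
    _ = pf φ ≫ (qq φ).left ≫ (snd Y Y).left := Category.assoc _ _ _
    _ = (pf φ ≫ (snd X X).left) ≫ φ.left := by rw [Category.assoc, f2]

/-- from the fibre of `φ × φ` over the diagonal to `X ×_Y X`. -/
noncomputable def the : pullback (qq φ).left (lift (𝟙 Y) (𝟙 Y)).left ⟶ pullback φ.left φ.left :=
  pullback.lift (pf φ ≫ (fst X X).left) (pf φ ≫ (snd X X).left) (the_cond φ)

theorem the_kap : the φ ≫ kap φ = pf φ := by
  apply left_hom_ext
  · rw [Category.assoc, kap_fst]; exact pullback.lift_fst _ _ _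
  · rw [Category.assoc, kap_snd]; exact pullback.lift_snd _ _ _

theorem preimage_range_diag (h : GIT.IsGeomQuot a φ) :
    (qq φ).left.base ⁻¹' Set.range (lift (𝟙 Y) (𝟙 Y)).left.base =
      Set.range (GIT.psi a (𝟙 X)).left.base := by
  ext z
  constructor
  · intro hz
    obtain ⟨y, hy⟩ : ∃ y, (lift (𝟙 Y) (𝟙 Y)).left.base y = (qq φ).left.base z := hz
    obtain ⟨p, hp1, hp2⟩ := Scheme.Pullback.exists_preimage_pullback
      (f := (qq φ).left) (g := (lift (𝟙 Y) (𝟙 Y)).left) z y hy.symm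
    obtain ⟨w, hw⟩ := h.orbit ((the φ).base p)
    refine ⟨w, ?_⟩
    have e1 : (GIT.psi a (𝟙 X)).left.base w = (kap φ).base ((GIT.PsiY a φ h.inv).base w) :=
      (congrArg (fun k => k.base w) (psiY_kap a φ h.inv)).symm
    have e2 : (kap φ).base ((the φ).base p) = (pf φ).base p :=
      congrArg (fun k => k.base p) (the_kap φ)
    calc (GIT.psi a (𝟙 X)).left.base w = (kap φ).base ((GIT.PsiY a φ h.inv).base w) := e1
      _ = (kap φ).base ((the φ).base p) := by rw [hw]
      _ = (pf φ).base p := e2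
      _ = z := hp1
  · rintro ⟨w, rfl⟩
    refine ⟨φ.left.base ((snd G X).left.base w), ?_⟩
    have e := congrArg (fun k => k.left.base w) (psi_qq a φ h.inv)
    exact e.symm

theorem result' (h : GIT.IsGeomQuot a φ) :
    IsSeparated Y.hom ↔ IsClosed (Set.range (GIT.psi a (𝟙 X)).left.base) := by
  rw [isSeparated_iff_isClosed_range Y, ← preimage_range_diag a φ h]
  exact ((isQuotientMap_qq h.subm).isCoinducing.isClosed_preimage).symm

end

end Groth.Agent.Lib.Helper40.GeomQuotSep
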