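import Mathlib
import Groth.Prelude.Def_Magnet3
import Groth.Agent.Lib.Helper40.DenseFactor
import Groth.Agent.Lib.Helper67.SchDense

/-!
# Scheme-theoretic density of `A(M)_S ×_S T ⟶ A(N)_S ×_S T` for an injective `N →+ M`

and consequences for attractors of separated schemes (`Magnet`).
-/

set_option autoImplicit false
universe v₁ u₁ u
open CategoryTheory CategoryTheory.Limits AlgebraicGeometry MonoidalCategory
  CartesianMonoidalCategory MonObj Opposite
open TensorProduct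

namespace Groth.Agent.Lib.Helper40.MagnetDense

/-! ### Algebra -/

section Alg

theorem map_injective_of_retraction {R A B C : Type u} [CommRing R] [CommRing A] [CommRing B]
    [CommRing C] [Algebra R A] [Algebra R B] [Algebra R C] (φa : A →ₐ[R] B) (ρ : B →ₗ[R] A)
    (hρ : ∀ a, ρ (φa a) = a) :
    Function.Injective (Algebra.TensorProduct.map φa (AlgHom.id R C)) := by
  have hleft : ∀ x : A ⊗[R] C,
      LinearMap.rTensor C ρ (Algebra.TensorProduct.map φa (AlgHom.id R C) x) = x := by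
    intro x
    induction x using TensorProduct.induction_on with
    | zero => rw [map_zero, map_zero]
    | tmul a c =>
      rw [Algebra.TensorProduct.map_tmul, LinearMap.rTensor_tmul, hρ]
      rfl
    | add x y hx hy => rw [map_add, map_add, hx, hy]
  intro x y hxy
  rw [← hleft x, ← hleft y, hxy]

theorem injective_of_isPushout_of_retraction {Z₀ A B C D E : CommRingCat.{u}}
    {α : Z₀ ⟶ A} {cγ : Z₀ ⟶ C} {a' : A ⟶ D} {c' : C ⟶ D} {φ : A ⟶ B} {b' : B ⟶ E} {d' : D ⟶ E}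
    (h1 : IsPushout α cγ a' c') (h2 : IsPushout φ a' b' d')
    (ρ : B →+ A) (hρ : ∀ a : A, ρ (φ.hom a) = a)
    (hlin : ∀ (z : Z₀) (b : B), ρ (φ.hom (α.hom z) * b) = α.hom z * ρ b) :
    Function.Injective d'.hom := by
  have h3 : IsPushout (α ≫ φ) cγ b' (c' ≫ d') := h1.paste_horiz h2
  letI algA : Algebra Z₀ A := α.hom.toAlgebra
  letI algC : Algebra Z₀ C := cγ.hom.toAlgebra
  letI algB : Algebra Z₀ B := (α ≫ φ).hom.toAlgebra
  let φa : A →ₐ[Z₀] B := { toRingHom := φ.hom, commutes' := fun _ => rfl }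
  let ρ' : B →ₗ[Z₀] A :=
    { toFun := ρ
      map_add' := ρ.map_add
      map_smul' := fun z b => by
        show ρ (z • b) = z • ρ b
        rw [Algebra.smul_def, Algebra.smul_def]
        exact hlin z b }
  let mA : A ⊗[Z₀] C →ₐ[Z₀] B ⊗[Z₀] C := Algebra.TensorProduct.map φa (AlgHom.id Z₀ C)
  have hmA : Function.Injective mA := map_injective_of_retraction φa ρ' hρ
  let inlA : A ⟶ CommRingCat.of (A ⊗[Z₀] C) :=
    CommRingCat.ofHom Algebra.TensorProduct.includeLeftRingHom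
  let inrA : C ⟶ CommRingCat.of (A ⊗[Z₀] C) :=
    CommRingCat.ofHom (Algebra.TensorProduct.includeRight (R := Z₀) (A := A) (B := C)).toRingHom
  let inlB : B ⟶ CommRingCat.of (B ⊗[Z₀] C) :=
    CommRingCat.ofHom Algebra.TensorProduct.includeLeftRingHom
  let inrB : C ⟶ CommRingCat.of (B ⊗[Z₀] C) :=
    CommRingCat.ofHom (Algebra.TensorProduct.includeRight (R := Z₀) (A := B) (B := C)).toRingHom
  have tA : IsPushout α cγ inlA inrA := CommRingCat.isPushout_tensorProduct Z₀ A C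
  have tB : IsPushout (α ≫ φ) cγ inlB inrB := CommRingCat.isPushout_tensorProduct Z₀ B C
  have hD1 : a' ≫ (h1.isoIsPushout _ _ tA).hom = inlA := h1.inl_isoIsPushout_hom _ _ tA
  have hD2 : c' ≫ (h1.isoIsPushout _ _ tA).hom = inrA := h1.inr_isoIsPushout_hom _ _ tA
  have hE1 : b' ≫ (h3.isoIsPushout _ _ tB).hom = inlB := h3.inl_isoIsPushout_hom _ _ tB
  have hE2 : (c' ≫ d') ≫ (h3.isoIsPushout _ _ tB).hom = inrB := h3.inr_isoIsPushout_hom _ _ tB
  have e1 : φ ≫ inlB = inlA ≫ CommRingCat.ofHom mA.toRingHom := by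
    refine CommRingCat.hom_ext (RingHom.ext fun a => ?_)
    exact (Algebra.TensorProduct.map_tmul φa (AlgHom.id Z₀ C) a 1).symm
  have e2 : inrB = inrA ≫ CommRingCat.ofHom mA.toRingHom := by
    refine CommRingCat.hom_ext (RingHom.ext fun c => ?_)
    have : mA ((1 : A) ⊗ₜ[Z₀] c) = (1 : B) ⊗ₜ[Z₀] c := by
      rw [Algebra.TensorProduct.map_tmul, map_one]
      rfl
    exact this.symm
  have hkey : d' ≫ (h3.isoIsPushout _ _ tB).hom =
      (h1.isoIsPushout _ _ tA).hom ≫ CommRingCat.ofHom mA.toRingHom := by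
    apply h1.hom_ext
    · calc a' ≫ d' ≫ (h3.isoIsPushout _ _ tB).hom
          = (a' ≫ d') ≫ (h3.isoIsPushout _ _ tB).hom := (Category.assoc _ _ _).symm
        _ = (φ ≫ b') ≫ (h3.isoIsPushout _ _ tB).hom := by rw [h2.w]
        _ = φ ≫ inlB := by rw [Category.assoc, hE1]
        _ = inlA ≫ CommRingCat.ofHom mA.toRingHom := e1
        _ = a' ≫ (h1.isoIsPushout _ _ tA).hom ≫ CommRingCat.ofHom mA.toRingHom := by
            rw [← Category.assoc, hD1]
    · calc c' ≫ d' ≫ (h3.isoIsPushout _ _ tB).hom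
          = (c' ≫ d') ≫ (h3.isoIsPushout _ _ tB).hom := (Category.assoc _ _ _).symm
        _ = inrB := hE2
        _ = inrA ≫ CommRingCat.ofHom mA.toRingHom := e2
        _ = c' ≫ (h1.isoIsPushout _ _ tA).hom ≫ CommRingCat.ofHom mA.toRingHom := by
            rw [← Category.assoc, hD2]
  intro x y hxy
  have h4 : (h3.isoIsPushout _ _ tB).hom.hom (d'.hom x) =
      mA ((h1.isoIsPushout _ _ tA).hom.hom x) := congr($hkey x)
  have h5 : (h3.isoIsPushout _ _ tB).hom.hom (d'.hom y) =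
      mA ((h1.isoIsPushout _ _ tA).hom.hom y) := congr($hkey y)
  rw [hxy, h5] at h4
  exact (ConcreteCategory.bijective_of_isIso (h1.isoIsPushout _ _ tA).hom).injective (hmA h4.symm)

end Alg

/-! ### Schemes -/

theorem dominant_of_isPullback_of_retraction {Z₀ A B : CommRingCat.{u}} {X' T' T₀ : Scheme.{u}}
    (α : Z₀ ⟶ A) (φ : A ⟶ B)
    {p' : X' ⟶ Spec B} {h : X' ⟶ T'} {p : T' ⟶ Spec A} {q : T' ⟶ T₀} {t : T₀ ⟶ Spec Z₀}
    (sq1 : IsPullback p' h (Spec.map φ) p) (sq2 : IsPullback p q (Spec.map α) t)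
    (r : B →+ A) (hr : ∀ a : A, r (φ.hom a) = a)
    (hlin : ∀ (z : Z₀) (b : B), r (φ.hom (α.hom z) * b) = α.hom z * r b) :
    IsSchemeTheoreticallyDominant h := by
  haveI : IsAffineHom q :=
    MorphismProperty.of_isPullback (P := @IsAffineHom) sq2 inferInstance
  rw [isSchemeTheoreticallyDominant_iff]
  refine Scheme.IdealSheafData.ext_of_iSup_eq_top
    (fun V : T₀.affineOpens => (⟨q ⁻¹ᵁ V.1, IsAffineOpen.preimage (U := V.1) V.2 q⟩ :
      T'.affineOpens)) ?_ ?_
  · show ⨆ V : T₀.affineOpens, q ⁻¹ᵁ V.1 = ⊤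
    rw [← Scheme.Hom.preimage_iSup, iSup_affineOpens_eq_top, Scheme.Hom.preimage_top]
  · intro V
    have hV' : IsAffineOpen (q ⁻¹ᵁ V.1) := IsAffineOpen.preimage (U := V.1) V.2 q
    show h.ker.ideal ⟨q ⁻¹ᵁ V.1, hV'⟩ = ⊥
    refine le_bot_iff.mp ((Scheme.Hom.ideal_ker_le h _).trans ?_)
    rw [le_bot_iff, ← RingHom.injective_iff_ker_eq_bot]
    have po2 := (isIso_pushoutSection_iff sq2 (US := ⊤) (UT := V.1) (UX := ⊤)
      (UY := q ⁻¹ᵁ V.1) (by simp) (by simp) (by simp)).mp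
      (isIso_pushoutSection_of_isAffineOpen sq2 _ _ _ (isAffineOpen_top _) V.2
        (isAffineOpen_top _))
    have po1 := (isIso_pushoutSection_iff sq1 (US := ⊤) (UT := q ⁻¹ᵁ V.1) (UX := ⊤)
      (UY := h ⁻¹ᵁ (q ⁻¹ᵁ V.1)) (by simp) (by simp) (by simp)).mp
      (isIso_pushoutSection_of_isAffineOpen sq1 _ _ _ (isAffineOpen_top _) hV'
        (isAffineOpen_top _))
    let r' : Γ(Spec B, ⊤) →+ Γ(Spec A, ⊤) :=
      ((Scheme.ΓSpecIso A).inv.hom.toAddMonoidHom.comp r).comp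
        (Scheme.ΓSpecIso B).hom.hom.toAddMonoidHom
    have natφ : ∀ x, (Scheme.ΓSpecIso B).hom.hom ((Spec.map φ).appTop.hom x) =
        φ.hom ((Scheme.ΓSpecIso A).hom.hom x) :=
      fun x => congr($(Scheme.ΓSpecIso_naturality φ) x)
    have natα : ∀ x, (Scheme.ΓSpecIso A).hom.hom ((Spec.map α).appTop.hom x) =
        α.hom ((Scheme.ΓSpecIso Z₀).hom.hom x) :=
      fun x => congr($(Scheme.ΓSpecIso_naturality α) x)
    have invhom : ∀ x, (Scheme.ΓSpecIso A).inv.hom ((Scheme.ΓSpecIso A).hom.hom x) = x :=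
      fun x => congr($((Scheme.ΓSpecIso A).hom_inv_id) x)
    have eφ : ∀ e, (Spec.map φ).appLE ⊤ ⊤ e = (Spec.map φ).appTop :=
      fun _ => Scheme.Hom.appLE_eq_app _
    have eα : ∀ e, (Spec.map α).appLE ⊤ ⊤ e = (Spec.map α).appTop :=
      fun _ => Scheme.Hom.appLE_eq_app _
    have eh : ∀ e, h.appLE (q ⁻¹ᵁ V.1) (h ⁻¹ᵁ (q ⁻¹ᵁ V.1)) e = h.app (q ⁻¹ᵁ V.1) :=
      fun _ => Scheme.Hom.appLE_eq_app _
    have hinj := injective_of_isPushout_of_retraction po2 po1 r' (by
        intro a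
        rw [eφ]
        show (Scheme.ΓSpecIso A).inv.hom (r ((Scheme.ΓSpecIso B).hom.hom
          ((Spec.map φ).appTop.hom a))) = a
        rw [natφ, hr, invhom]) (by
        intro z b
        rw [eφ, eα]
        show (Scheme.ΓSpecIso A).inv.hom (r ((Scheme.ΓSpecIso B).hom.hom
            ((Spec.map φ).appTop.hom ((Spec.map α).appTop.hom z) * b))) =
          (Spec.map α).appTop.hom z *
            (Scheme.ΓSpecIso A).inv.hom (r ((Scheme.ΓSpecIso B).hom.hom b))
        rw [map_mul, natφ, natα, hlin, map_mul]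
        congr 1
        rw [← natα, invhom])
    rw [eh] at hinj
    exact hinj

/-! ### Monoid algebras -/

theorem comapDomain_mapDomainBialgHom {R : Type*} [CommSemiring R] {M N : Type*} [Monoid M]
    [Monoid N] (f : M →* N) (hf : Function.Injective f) (x : MonoidAlgebra R M) :
    MonoidAlgebra.comapDomain f hf (MonoidAlgebra.mapDomainBialgHom R f x) = x := by
  induction x using MonoidAlgebra.induction_linear with
  | zero => rw [map_zero, MonoidAlgebra.comapDomain_zero]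
  | add x y hx hy => rw [map_add, MonoidAlgebra.comapDomain_add, hx, hy]
  | single m r =>
    rw [MonoidAlgebra.mapDomainBialgHom_single, MonoidAlgebra.comapDomain_single_map]

theorem isPullback_pullback_map_left {C : Type*} [Category C] [HasPullbacks C] {X Y : C}
    (f : X ⟶ Y) {h k : Over Y} (g : h ⟶ k) :
    IsPullback (pullback.fst h.hom f) ((Over.pullback f).map g).left g.left
      (pullback.fst k.hom f) := by
  refine IsPullback.of_bot (v₂₁ := pullback.snd k.hom f) (v₂₂ := k.hom) (h₃₁ := f) ?_ ?_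
    (IsPullback.of_hasPullback k.hom f)
  · have h1 : ((Over.pullback f).map g).left ≫ pullback.snd k.hom f = pullback.snd h.hom f := by
      exact pullback.lift_snd _ _ _
    rw [h1, Over.w g]
    exact IsPullback.of_hasPullback h.hom f
  · exact (pullback.lift_fst _ _ _).symm

/-- **Density**: for an injective `f : N →+ M` the morphism `A(M)_S ×_S T ⟶ A(N)_S ×_S T` is
scheme-theoretically dominant, for every `S`-scheme `T`. -/
theorem dominant_AMonS_map_whiskerRight (S : Scheme.{u}) {M N : Type} [AddCommMonoid M]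
    [AddCommMonoid N] (f : N →+ M) (hf : Function.Injective f) (T : Over S) :
    IsSchemeTheoreticallyDominant ((Magnet.AMonS.map S f) ▷ T).left := by
  let g₀ : S ⟶ Spec (CommRingCat.of (ULift.{u} ℤ)) :=
    Limits.IsTerminal.from specULiftZIsTerminal S
  let f' : Multiplicative N →* Multiplicative M := AddMonoidHom.toMultiplicative f
  have hf' : Function.Injective f' := fun x y hxy => hf hxy
  let α : CommRingCat.of (ULift.{u} ℤ) ⟶
      CommRingCat.of (MonoidAlgebra (ULift.{u} ℤ) (Multiplicative N)) :=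
    CommRingCat.ofHom (algebraMap _ _)
  let φ : CommRingCat.of (MonoidAlgebra (ULift.{u} ℤ) (Multiplicative N)) ⟶
      CommRingCat.of (MonoidAlgebra (ULift.{u} ℤ) (Multiplicative M)) :=
    CommRingCat.ofHom (MonoidAlgebra.mapDomainBialgHom (ULift.{u} ℤ) f').toAlgHom.toRingHom
  have sq1 : IsPullback
      ((fst (Magnet.AMonS S M) T).left ≫ pullback.fst (Magnet.AMon (ULift.{u} ℤ) M).hom g₀)
      ((Magnet.AMonS.map S f) ▷ T).left (Spec.map φ)
      ((fst (Magnet.AMonS S N) T).left ≫ pullback.fst (Magnet.AMon (ULift.{u} ℤ) N).hom g₀) :=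
    ((Groth.Agent.Lib.Helper40.FpqcCov.isPullback_whiskerRight
      (Magnet.AMonS.map S f) T).map (Over.forget _)).flip.paste_horiz
      (isPullback_pullback_map_left g₀ (Magnet.AMon.map (ULift.{u} ℤ) f))
  have sq2 : IsPullback
      ((fst (Magnet.AMonS S N) T).left ≫ pullback.fst (Magnet.AMon (ULift.{u} ℤ) N).hom g₀)
      (snd (Magnet.AMonS S N) T).left (Spec.map α) (T.hom ≫ g₀) :=
    (IsPullback.of_hasPullback (Magnet.AMonS S N).hom T.hom).paste_horiz
      (IsPullback.of_hasPullback (Magnet.AMon (ULift.{u} ℤ) N).hom g₀)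
  refine dominant_of_isPullback_of_retraction α φ sq1 sq2
    (MonoidAlgebra.comapDomainAddMonoidHom f' hf')
    (fun a => comapDomain_mapDomainBialgHom f' hf' a) ?_
  intro z b
  obtain ⟨n⟩ := z
  have hz : (ULift.up n : ULift.{u} ℤ) = ((n : ℤ) : ULift.{u} ℤ) := ULift.ext _ _ (by simp)
  rw [hz]
  have h1 : α.hom ((n : ℤ) : ULift.{u} ℤ) =
      ((n : ℤ) : MonoidAlgebra (ULift.{u} ℤ) (Multiplicative N)) := map_intCast α.hom n
  have h2 : φ.hom ((n : ℤ) : MonoidAlgebra (ULift.{u} ℤ) (Multiplicative N)) =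
      ((n : ℤ) : MonoidAlgebra (ULift.{u} ℤ) (Multiplicative M)) := map_intCast φ.hom n
  rw [h1, h2, ← zsmul_eq_mul, ← zsmul_eq_mul, map_zsmul]

/-! ### Consequences in `Over S` -/

theorem eq_of_dominant_comp_eq {S : Scheme.{u}} {D W X : Over S} [IsSeparated X.hom] (d : D ⟶ W)
    [IsSchemeTheoreticallyDominant d.left] {φ₁ φ₂ : W ⟶ X} (h : d ≫ φ₁ = d ≫ φ₂) : φ₁ = φ₂ := by
  apply Over.OverMorphism.ext
  refine Groth.Agent.Lib.Helper67.SchDense.ext_of_ker_eq_bot_of_isSeparated X.hom ?_ d.left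
    (Scheme.Hom.ker_eq_bot d.left) ?_
  · rw [Over.w φ₁, Over.w φ₂]
  · rw [← Over.comp_left, ← Over.comp_left, h]

section General

variable {C : Type u₁} [Category.{v₁} C] [CartesianMonoidalCategory C]
open Magnet

theorem whiskerRight_comp_eq_of_mem_eqvHom {A B X T : C} [MonObj A] [MonObj B] (i : A ⟶ B)
    [IsMonHom i] (a : MonAct A X) (φ : B ⊗ T ⟶ X)
    (hφ : MonAct.IsEquivariant (((MonAct.regular B).restrict i).prod (MonAct.trivial A T)) a φ) :
    (i ▷ T) ≫ φ = (A ◁ (lift (toUnit T ≫ η[B]) (𝟙 T) ≫ φ)) ≫ a.act := by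
  have hφpt := (MonAct.mem_eqvHom_iff φ).mp hφ
  apply hom_ext_lift₂
  intro T' g t
  have e1 : lift (lift g (1 : T' ⟶ B) ≫ ((MonAct.regular B).restrict i).act) t =
      lift (g ≫ i) t := by
    rw [MonAct.lift_restrict_act, MonAct.lift_regular_act, _root_.mul_one]
  have e2 : lift (1 : T' ⟶ B) t ≫ φ = t ≫ lift (toUnit T ≫ η[B]) (𝟙 T) ≫ φ := by
    rw [← Category.assoc, comp_lift, Category.comp_id, ← Category.assoc, Hom.one_def]
    congr 3
    exact toUnit_unique _ _
  have e3 := hφpt T' g 1 t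
  rw [e1, e2] at e3
  calc lift g t ≫ (i ▷ T) ≫ φ = lift (g ≫ i) t ≫ φ := by
        rw [← Category.assoc, lift_whiskerRight]
    _ = lift g (t ≫ lift (toUnit T ≫ η[B]) (𝟙 T) ≫ φ) ≫ a.act := e3
    _ = lift g t ≫ (A ◁ (lift (toUnit T ≫ η[B]) (𝟙 T) ≫ φ)) ≫ a.act := by
        rw [lift_whiskerLeft_assoc]

theorem isEquivariant_of_restrict {A' A B X T : C} [MonObj A'] [MonObj A] (F : A' ⟶ A)
    [IsMonHom F] (ρ : MonAct A B) (a : MonAct A X) (φ : B ⊗ T ⟶ X)
    (hφ : MonAct.IsEquivariant ((ρ.restrict F).prod (MonAct.trivial A' T)) (a.restrict F) φ)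
    (hepi : ∀ u v : A ⊗ (B ⊗ T) ⟶ X, (F ▷ (B ⊗ T)) ≫ u = (F ▷ (B ⊗ T)) ≫ v → u = v) :
    MonAct.IsEquivariant (ρ.prod (MonAct.trivial A T)) a φ := by
  have hpt := (MonAct.mem_eqvHom_iff φ).mp hφ
  show (ρ.prod (MonAct.trivial A T)).act ≫ φ = (A ◁ φ) ≫ a.act
  apply hepi
  apply hom_ext_lift₂
  intro T' g z
  have h := hpt T' g (z ≫ fst B T) (z ≫ snd B T)
  rw [MonAct.lift_restrict_act, MonAct.lift_restrict_act] at h
  rw [← lift_comp_fst_snd z]
  calc lift g (lift (z ≫ fst B T) (z ≫ snd B T)) ≫ (F ▷ (B ⊗ T)) ≫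
        (ρ.prod (MonAct.trivial A T)).act ≫ φ
      = lift (g ≫ F) (lift (z ≫ fst B T) (z ≫ snd B T)) ≫
          (ρ.prod (MonAct.trivial A T)).act ≫ φ := by
        rw [lift_whiskerRight_assoc]
    _ = lift (lift (g ≫ F) (z ≫ fst B T) ≫ ρ.act) (z ≫ snd B T) ≫ φ := by
        rw [MonAct.lift_prod_act_assoc, MonAct.lift_trivial_act]
    _ = lift (g ≫ F) (lift (z ≫ fst B T) (z ≫ snd B T) ≫ φ) ≫ a.act := h
    _ = lift g (lift (z ≫ fst B T) (z ≫ snd B T)) ≫ (F ▷ (B ⊗ T)) ≫ (A ◁ φ) ≫ a.act := by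
        rw [lift_whiskerRight_assoc, lift_whiskerLeft_assoc]

theorem isEquivariant_inv {A B B' : C} [MonObj A] {ρ : MonAct A B} {ρ' : MonAct A B'}
    (k : B ⟶ B') [IsIso k] (hk : MonAct.IsEquivariant ρ ρ' k) :
    MonAct.IsEquivariant ρ' ρ (inv k) := by
  have hk' : ρ.act ≫ k = (A ◁ k) ≫ ρ'.act := hk
  show ρ'.act ≫ inv k = (A ◁ inv k) ≫ ρ.act
  rw [← cancel_mono k, Category.assoc, IsIso.inv_hom_id, Category.comp_id, Category.assoc, hk',
    ← Category.assoc, ← MonoidalCategory.whiskerLeft_comp, IsIso.inv_hom_id,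
    MonoidalCategory.whiskerLeft_id, Category.id_comp]

end General

/-! ### `AMonS.map` of an isomorphism -/

theorem AMon_map_id (R : Type u) [CommRing R] (N : Type) [AddCommMonoid N] :
    Magnet.AMon.map R (AddMonoidHom.id N) = 𝟙 _ := by
  apply Over.OverMorphism.ext
  refine (Magnet.AMon.map_left R (AddMonoidHom.id N)).trans ?_
  change Spec.map _ = 𝟙 (Spec _)
  rw [← Spec.map_id]
  congr 1
  refine CommRingCat.hom_ext ?_
  apply MonoidAlgebra.ringHom_ext
  · intro r; simp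
  · intro m; simp

theorem AMonS_map_id (S : Scheme.{u}) (N : Type) [AddCommMonoid N] :
    Magnet.AMonS.map S (AddMonoidHom.id N) = 𝟙 _ := by
  rw [Magnet.AMonS.map, AMon_map_id, CategoryTheory.Functor.map_id]

theorem isIso_AMonS_map (S : Scheme.{u}) {N P : Type} [AddCommMonoid N] [AddCommMonoid P]
    (g : N →+ P) (hg : Function.Bijective g) : IsIso (Magnet.AMonS.map S g) := by
  let e : N ≃+ P := AddEquiv.ofBijective g hg
  refine ⟨Magnet.AMonS.map S e.symm.toAddMonoidHom, ?_, ?_⟩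
  · rw [← Magnet.AMonS.map_comp, ← AMonS_map_id]
    congr 1
    ext y
    exact e.apply_symm_apply y
  · rw [← Magnet.AMonS.map_comp, ← AMonS_map_id]
    congr 1
    ext x
    exact e.symm_apply_apply x

end Groth.Agent.Lib.Helper40.MagnetDense
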