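import Mathlib
import Groth.Prelude.Def_GmAct
import Groth.Prelude.Def_ChGrp
import Groth.Prelude.Def_Magnet
import Groth.Agent.Lib.Helper40.MagnetDense
import Groth.Agent.Lib.Helper40.FpqcCovOver

/-!
# `G_m ⊆ 𝔸¹` is schematically dense, universally; equivariant families on the affine line
-/

set_option autoImplicit false
universe u
open CategoryTheory CategoryTheory.Limits AlgebraicGeometry MonoidalCategory
  CartesianMonoidalCategory MonObj Opposite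
open scoped Polynomial

namespace Groth.Agent.Lib.Helper40.GmLineDense

open Groth.Agent.Lib.Helper40.MagnetDense

section algebra

variable (R : Type u) [CommRing R]

/-- The coefficient-extraction map `R[z, z⁻¹] → R[x]`. -/
noncomputable def retr : ThetaS.Lau R →+ R[X] :=
  (Finsupp.liftAddHom (fun n : Multiplicative ℤ =>
    (if 0 ≤ Multiplicative.toAdd n then
      (Polynomial.monomial (R := R) (Multiplicative.toAdd n).toNat).toAddMonoidHom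
      else 0 : R →+ R[X]))).comp
    (MonoidAlgebra.coeffAddEquiv (R := R) (M := Multiplicative ℤ)).toAddMonoidHom

lemma retr_single (n : Multiplicative ℤ) (c : R) :
    retr R (MonoidAlgebra.single n c) =
      if 0 ≤ Multiplicative.toAdd n then
        Polynomial.monomial (Multiplicative.toAdd n).toNat c else 0 := by
  have h1 : retr R (MonoidAlgebra.single n c) =
      Finsupp.liftAddHom (fun n : Multiplicative ℤ =>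
        (if 0 ≤ Multiplicative.toAdd n then
          (Polynomial.monomial (R := R) (Multiplicative.toAdd n).toNat).toAddMonoidHom
          else 0 : R →+ R[X])) (Finsupp.single n c) := rfl
  rw [h1, Finsupp.liftAddHom_apply_single]
  split_ifs <;> rfl

lemma φ_monomial (n : ℕ) (c : R) :
    ThetaS.linePt (ThetaS.zPow R 1) (Polynomial.monomial n c) =
      MonoidAlgebra.single (Multiplicative.ofAdd (n : ℤ)) c := by
  have h1 : (ThetaS.zPow R 1) ^ n = MonoidAlgebra.single (Multiplicative.ofAdd (n : ℤ)) (1 : R) := by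
    rw [MonoidAlgebra.single_pow, one_pow, ← ofAdd_nsmul, nsmul_one]
  have h2 : algebraMap R (ThetaS.Lau R) c = MonoidAlgebra.single 1 c := rfl
  show Polynomial.aeval (ThetaS.zPow R 1) (Polynomial.monomial n c) = _
  rw [Polynomial.aeval_monomial, h1, h2, MonoidAlgebra.single_mul_single, _root_.one_mul, _root_.mul_one]

lemma retr_φ (p : R[X]) : retr R (ThetaS.linePt (ThetaS.zPow R 1) p) = p := by
  refine Polynomial.induction_on' p (fun p q hp hq => ?_) (fun n c => ?_)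
  · rw [map_add, map_add, hp, hq]
  · have hpos : 0 ≤ Multiplicative.toAdd (Multiplicative.ofAdd (n : ℤ)) := Int.natCast_nonneg n
    have hnat : (Multiplicative.toAdd (Multiplicative.ofAdd (n : ℤ))).toNat = n :=
      Int.toNat_natCast n
    rw [φ_monomial, retr_single, if_pos hpos, hnat]

lemma retr_lin (z : R) (b : ThetaS.Lau R) :
    retr R (ThetaS.linePt (ThetaS.zPow R 1) (Polynomial.C z) * b) =
      Polynomial.C z * retr R b := by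
  have h0 : ThetaS.linePt (ThetaS.zPow R 1) (Polynomial.C z) = MonoidAlgebra.single 1 z := by
    show Polynomial.aeval (ThetaS.zPow R 1) (Polynomial.C z) = _
    rw [Polynomial.aeval_C]; rfl
  rw [h0]
  induction b using MonoidAlgebra.induction_linear with
  | zero => rw [mul_zero, map_zero, mul_zero]
  | add x y hx hy => rw [mul_add, map_add, map_add, mul_add, hx, hy]
  | single m c =>
    rw [MonoidAlgebra.single_mul_single, _root_.one_mul, retr_single, retr_single]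
    split_ifs with h
    · rw [Polynomial.C_mul_monomial]
    · rw [mul_zero]

end algebra

section geom

variable (R : Type u) [CommRing R]

/-- The inclusion `G_m ⟶ 𝔸¹`. -/
noncomputable abbrev j : ThetaS.Gm R ⟶ ThetaS.Line R :=
  CoactBr.pt (ThetaS.linePt (ThetaS.zPow R 1))

local notation "𝔾" => ThetaS.Gm R
local notation "𝕃" => ThetaS.Line R
local notation "𝕒𝕔" => AlgGrp.Action.act (ThetaS.lineAction R)
local notation "𝕛" => j R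

theorem dominant_j_whiskerRight (T : Over (Spec (CommRingCat.of R))) :
    IsSchemeTheoreticallyDominant (𝕛 ▷ T).left := by
  have sq1 : IsPullback (fst 𝔾 T).left (𝕛 ▷ T).left
      (Spec.map (CommRingCat.ofHom (ThetaS.linePt (ThetaS.zPow R 1)).toRingHom))
      (fst 𝕃 T).left :=
    ((Groth.Agent.Lib.Helper40.FpqcCov.isPullback_whiskerRight 𝕛 T).map (Over.forget _)).flip
  have sq2 : IsPullback (fst 𝕃 T).left (snd 𝕃 T).left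
      (Spec.map (CommRingCat.ofHom (algebraMap R R[X]))) T.hom :=
    IsPullback.of_hasPullback (ThetaS.Line R).hom T.hom
  exact dominant_of_isPullback_of_retraction (CommRingCat.ofHom (algebraMap R R[X]))
    (CommRingCat.ofHom (ThetaS.linePt (ThetaS.zPow R 1)).toRingHom) sq1 sq2 (retr R)
    (fun p => retr_φ R p) (fun z b => retr_lin R z b)

lemma one_comp_j :
    (1 : 𝔾 ⟶ 𝔾) ≫ 𝕛 = CoactBr.pt (ThetaS.linePt (1 : ThetaS.Lau R)) := by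
  have h1 : (1 : 𝔾 ⟶ 𝔾) = CoactBr.pt ((Algebra.ofId R (ThetaS.Lau R)).comp
      (Bialgebra.counitAlgHom R (ThetaS.Lau R))) :=
    CoactBr.one_eq_pt (R := R) (A := ThetaS.Lau R) (K := ThetaS.Lau R)
  rw [h1, ← CoactBr.pt_comp]
  congr 1
  apply Polynomial.algHom_ext
  simp
  rfl

lemma act_j_one : lift (𝟙 𝔾) ((1 : 𝔾 ⟶ 𝔾) ≫ 𝕛) ≫ 𝕒𝕔 = 𝕛 := by
  have h := ThetaS.lineAction_pt (R := R) (A := ThetaS.Lau R) (AlgHom.id R (ThetaS.Lau R))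
    (1 : ThetaS.Lau R)
  rw [CoactBr.pt_id, AlgHom.id_apply, _root_.mul_one] at h
  rw [one_comp_j]
  exact h

lemma act_j_pt {T' : Over (Spec (CommRingCat.of R))} (g : T' ⟶ 𝔾) :
    lift g ((1 : T' ⟶ 𝔾) ≫ 𝕛) ≫ 𝕒𝕔 = g ≫ 𝕛 := by
  have e : lift g ((1 : T' ⟶ 𝔾) ≫ 𝕛) = g ≫ lift (𝟙 𝔾) ((1 : 𝔾 ⟶ 𝔾) ≫ 𝕛) := by
    rw [comp_lift, Category.comp_id, ← Category.assoc, MonObj.comp_one]
  rw [e, Category.assoc, act_j_one]

variable {X T : Over (Spec (CommRingCat.of R))} (a : AlgGrp.Action (ThetaS.Gm R) X)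

lemma key_a (u : 𝕃 ⊗ T ⟶ X)
    (hu : (α_ 𝔾 𝕃 T).inv ≫ (𝕒𝕔 ▷ T) ≫ u = (𝔾 ◁ u) ≫ a.act) :
    (𝕛 ▷ T) ≫ u = (𝔾 ◁ (lift ((1 : T ⟶ 𝔾) ≫ 𝕛) (𝟙 T) ≫ u)) ≫ a.act := by
  apply Magnet.hom_ext_lift₂
  intro T' g t
  have e1 : t ≫ lift ((1 : T ⟶ 𝔾) ≫ 𝕛) (𝟙 T) = lift ((1 : T' ⟶ 𝔾) ≫ 𝕛) t := by
    rw [comp_lift, Category.comp_id, ← Category.assoc, MonObj.comp_one]
  have e2 : lift g (lift ((1 : T' ⟶ 𝔾) ≫ 𝕛) t) ≫ (α_ 𝔾 𝕃 T).inv ≫ (𝕒𝕔 ▷ T) ≫ u =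
      lift (g ≫ 𝕛) t ≫ u := by
    rw [lift_lift_associator_inv_assoc, lift_whiskerRight_assoc, act_j_pt]
  have e3 : lift g (lift ((1 : T' ⟶ 𝔾) ≫ 𝕛) t) ≫ (𝔾 ◁ u) ≫ a.act =
      lift g (lift ((1 : T' ⟶ 𝔾) ≫ 𝕛) t ≫ u) ≫ a.act := by
    rw [lift_whiskerLeft_assoc]
  calc lift g t ≫ (𝕛 ▷ T) ≫ u = lift (g ≫ 𝕛) t ≫ u := by rw [lift_whiskerRight_assoc]
    _ = lift g (lift ((1 : T' ⟶ 𝔾) ≫ 𝕛) t ≫ u) ≫ a.act := by rw [← e2, hu, e3]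
    _ = lift g t ≫ (𝔾 ◁ (lift ((1 : T ⟶ 𝔾) ≫ 𝕛) (𝟙 T) ≫ u)) ≫ a.act := by
        rw [lift_whiskerLeft_assoc, ← Category.assoc t, e1]

theorem part_a [IsSeparated X.hom] (u v : 𝕃 ⊗ T ⟶ X)
    (hu : (α_ 𝔾 𝕃 T).inv ≫ (𝕒𝕔 ▷ T) ≫ u = (𝔾 ◁ u) ≫ a.act)
    (hv : (α_ 𝔾 𝕃 T).inv ≫ (𝕒𝕔 ▷ T) ≫ v = (𝔾 ◁ v) ≫ a.act)
    (h1 : lift ((1 : T ⟶ 𝔾) ≫ 𝕛) (𝟙 T) ≫ u = lift ((1 : T ⟶ 𝔾) ≫ 𝕛) (𝟙 T) ≫ v) : u = v := by
  have ku := key_a R a u hu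
  have kv := key_a R a v hv
  haveI := dominant_j_whiskerRight R T
  apply eq_of_dominant_comp_eq (𝕛 ▷ T)
  rw [ku, kv, h1]

/-- The swap `(l, (g, t)) ↦ (g, (l, t))`. -/
noncomputable def σ (T : Over (Spec (CommRingCat.of R))) : 𝕃 ⊗ (𝔾 ⊗ T) ⟶ 𝔾 ⊗ (𝕃 ⊗ T) :=
  lift (snd 𝕃 (𝔾 ⊗ T) ≫ fst 𝔾 T) (lift (fst 𝕃 (𝔾 ⊗ T)) (snd 𝕃 (𝔾 ⊗ T) ≫ snd 𝔾 T))

/-- The swap `(g, (l, t)) ↦ (l, (g, t))`. -/
noncomputable def σ' (T : Over (Spec (CommRingCat.of R))) : 𝔾 ⊗ (𝕃 ⊗ T) ⟶ 𝕃 ⊗ (𝔾 ⊗ T) :=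
  lift (snd 𝔾 (𝕃 ⊗ T) ≫ fst 𝕃 T) (lift (fst 𝔾 (𝕃 ⊗ T)) (snd 𝔾 (𝕃 ⊗ T) ≫ snd 𝕃 T))

lemma σ'_σ (T : Over (Spec (CommRingCat.of R))) : σ' R T ≫ σ R T = 𝟙 _ := by
  unfold σ σ'
  apply CartesianMonoidalCategory.hom_ext
  · simp
  · apply CartesianMonoidalCategory.hom_ext <;> simp

@[reassoc]
lemma lift_σ {T T' : Over (Spec (CommRingCat.of R))} (l : T' ⟶ 𝕃) (g : T' ⟶ 𝔾) (t : T' ⟶ T) :
    lift l (lift g t) ≫ σ R T = lift g (lift l t) := by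
  unfold σ
  simp

theorem part_b [IsSeparated X.hom] (x : T ⟶ X) (u : 𝕃 ⊗ T ⟶ X)
    (hxu : (𝕛 ▷ T) ≫ u = (𝔾 ◁ x) ≫ a.act) :
    (α_ 𝔾 𝕃 T).inv ≫ (𝕒𝕔 ▷ T) ≫ u = (𝔾 ◁ u) ≫ a.act := by
  have hσ : σ R T ≫ (α_ 𝔾 𝕃 T).inv ≫ (𝕒𝕔 ▷ T) ≫ u = σ R T ≫ (𝔾 ◁ u) ≫ a.act := by
    haveI := dominant_j_whiskerRight R (𝔾 ⊗ T)
    apply eq_of_dominant_comp_eq (𝕛 ▷ (𝔾 ⊗ T))
    apply Magnet.hom_ext_lift₂
    intro T' h p
    obtain ⟨g, t, rfl⟩ : ∃ g t, p = lift g t :=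
      ⟨p ≫ fst _ _, p ≫ snd _ _, (lift_comp_fst_snd p).symm⟩
    have hx1 : ∀ (k : T' ⟶ 𝔾), lift (k ≫ 𝕛) t ≫ u = lift k (t ≫ x) ≫ a.act := by
      intro k
      have := congrArg (fun m => lift k t ≫ m) hxu
      simp only [lift_whiskerRight_assoc, lift_whiskerLeft_assoc] at this
      exact this
    have hmul : lift g (h ≫ 𝕛) ≫ 𝕒𝕔 = (g * h) ≫ 𝕛 := by
      rw [← act_j_pt R h, ← AlgGrp.Action.lift_mul_act, act_j_pt]
    calc lift h (lift g t) ≫ (𝕛 ▷ (𝔾 ⊗ T)) ≫ σ R T ≫ (α_ 𝔾 𝕃 T).inv ≫ (𝕒𝕔 ▷ T) ≫ u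
        = lift g (lift (h ≫ 𝕛) t) ≫ (α_ 𝔾 𝕃 T).inv ≫ (𝕒𝕔 ▷ T) ≫ u := by
          rw [lift_whiskerRight_assoc, lift_σ_assoc]
      _ = lift ((g * h) ≫ 𝕛) t ≫ u := by
          rw [lift_lift_associator_inv_assoc, lift_whiskerRight_assoc, hmul]
      _ = lift (g * h) (t ≫ x) ≫ a.act := hx1 _
      _ = lift g (lift h (t ≫ x) ≫ a.act) ≫ a.act := AlgGrp.Action.lift_mul_act a g h (t ≫ x)
      _ = lift g (lift (h ≫ 𝕛) t ≫ u) ≫ a.act := by rw [hx1]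
      _ = lift g (lift (h ≫ 𝕛) t) ≫ (𝔾 ◁ u) ≫ a.act := by rw [lift_whiskerLeft_assoc]
      _ = lift h (lift g t) ≫ (𝕛 ▷ (𝔾 ⊗ T)) ≫ σ R T ≫ (𝔾 ◁ u) ≫ a.act := by
          rw [lift_whiskerRight_assoc, lift_σ_assoc]
  calc (α_ 𝔾 𝕃 T).inv ≫ (𝕒𝕔 ▷ T) ≫ u
      = (σ' R T ≫ σ R T) ≫ (α_ 𝔾 𝕃 T).inv ≫ (𝕒𝕔 ▷ T) ≫ u := by
        rw [σ'_σ, Category.id_comp]
    _ = σ' R T ≫ σ R T ≫ (α_ 𝔾 𝕃 T).inv ≫ (𝕒𝕔 ▷ T) ≫ u := Category.assoc _ _ _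
    _ = σ' R T ≫ σ R T ≫ (𝔾 ◁ u) ≫ a.act := by rw [hσ]
    _ = (σ' R T ≫ σ R T) ≫ (𝔾 ◁ u) ≫ a.act := (Category.assoc _ _ _).symm
    _ = (𝔾 ◁ u) ≫ a.act := by rw [σ'_σ, Category.id_comp]

end geom

end Groth.Agent.Lib.Helper40.GmLineDense
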