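import Mathlib

/-!
# Points of pullback squares of schemes
-/

set_option autoImplicit false

universe u
open CategoryTheory CategoryTheory.Limits AlgebraicGeometry

namespace Groth.Agent.Lib.Helper40.PullbackPts

/-- Points of an arbitrary pullback square of schemes surject onto compatible pairs of points. -/
theorem exists_preimage_of_isPullback {X Y Z P : Scheme.{u}} {f : X ⟶ Z} {g : Y ⟶ Z}
    {fst' : P ⟶ X} {snd' : P ⟶ Y} (sq : IsPullback fst' snd' f g) (x : X) (y : Y)
    (h : f.base x = g.base y) : ∃ z : P, fst'.base z = x ∧ snd'.base z = y := by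
  obtain ⟨z₀, hz1, hz2⟩ := Scheme.Pullback.exists_preimage_pullback x y h
  refine ⟨sq.isoPullback.inv.base z₀, ?_, ?_⟩
  · rw [← hz1, ← sq.isoPullback_inv_fst]
    rfl
  · rw [← hz2, ← sq.isoPullback_inv_snd]
    rfl

/-- The same for pullback squares in `Over S`. -/
theorem exists_preimage_of_isPullback_over {S : Scheme.{u}} {X Y Z P : Over S} {f : X ⟶ Z}
    {g : Y ⟶ Z} {fst' : P ⟶ X} {snd' : P ⟶ Y} (sq : IsPullback fst' snd' f g) (x : X.left)
    (y : Y.left) (h : f.left.base x = g.left.base y) :
    ∃ z : P.left, fst'.left.base z = x ∧ snd'.left.base z = y :=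
  exists_preimage_of_isPullback (sq.map (Over.forget S)) x y h

end Groth.Agent.Lib.Helper40.PullbackPts
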