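import Mathlib
import Groth.Agent.Lib.Helper40.GeomQuotCat
import Groth.Agent.Lib.Helper40.PullbackPts

/-!
# Restricting a good quotient to the preimage of an open subset (helper40)

Scheme-level pieces: `j : XU ⟶ X`, `jY : YU ⟶ Y` open immersions with `XU = φ⁻¹(YU)`,
`φU : XU ⟶ YU` the restriction of `φ`, relations `σ, p : GX ⇉ X`, `σU, pU : GXU ⇉ XU` with
`GXU = p⁻¹(XU)` (cartesian square).
-/

set_option autoImplicit false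
open CategoryTheory CategoryTheory.Limits AlgebraicGeometry
universe u

namespace Groth.Agent.Lib.Helper40.GoodQuotRestrict

open Groth.Agent.Lib.Helper40.GeomQuotCat (appLE_congr)
open Groth.Agent.Lib.Helper40

theorem appLE_bijective_of_image_eq {A B : Scheme.{u}} (g : A ⟶ B) [IsOpenImmersion g]
    (Vh : B.Opens) (V' : A.Opens) (e : V' ≤ g ⁻¹ᵁ Vh) (h : g ''ᵁ V' = Vh) :
    Function.Bijective (g.appLE Vh V' e).hom := by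
  subst h
  have h1 : g.appLE (g ''ᵁ V') V' e = (g.appIso V').hom := (Scheme.Hom.appIso_hom' g V').symm
  rw [h1]
  exact ConcreteCategory.bijective_of_isIso (g.appIso V').hom

variable {GX GXU X Y XU YU : Scheme.{u}} {σ p : GX ⟶ X} {φ : X ⟶ Y}
  {j : XU ⟶ X} {jY : YU ⟶ Y} [IsOpenImmersion j] [IsOpenImmersion jY]
  {φU : XU ⟶ YU} {ρ : GXU ⟶ GX} {σU pU : GXU ⟶ XU}

theorem invU (hφU : φU ≫ jY = j ≫ φ) (hσ : σU ≫ j = ρ ≫ σ) (hp : pU ≫ j = ρ ≫ p)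
    (hinv : σ ≫ φ = p ≫ φ) : σU ≫ φU = pU ≫ φU := by
  rw [← cancel_mono jY, Category.assoc, Category.assoc, hφU, ← Category.assoc, ← Category.assoc,
    hσ, hp, Category.assoc, Category.assoc, hinv]

theorem closure_invariant (hσ : σU ≫ j = ρ ≫ σ)
    (hcart : IsPullback ρ pU p j) (hpopen : IsOpenMap p.base)
    (W : Set ↥XU) (hWinv : ∀ q : GXU, pU.base q ∈ W → σU.base q ∈ W) :
    ∀ q : GX, p.base q ∈ closure (j.base '' W) → σ.base q ∈ closure (j.base '' W) := by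
  intro q hq
  have h1 : p.base ⁻¹' (j.base '' W) ⊆ σ.base ⁻¹' (j.base '' W) := by
    rintro q₀ ⟨w, hw, hwq⟩
    obtain ⟨q', hq'1, hq'2⟩ := PullbackPts.exists_preimage_of_isPullback hcart q₀ w hwq.symm
    have h2 : σU.base q' ∈ W := hWinv q' (by rw [hq'2]; exact hw)
    refine ⟨σU.base q', h2, ?_⟩
    have h3 : j.base (σU.base q') = σ.base (ρ.base q') :=
      congrArg (fun k : GXU ⟶ X => k.base q') hσ
    rw [h3, hq'1]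
  have h2 : q ∈ closure (p.base ⁻¹' (j.base '' W)) :=
    hpopen.preimage_closure_subset_closure_preimage hq
  have h3 : q ∈ closure (σ.base ⁻¹' (j.base '' W)) := closure_mono h1 h2
  exact σ.continuous.closure_preimage_subset _ h3

theorem preimage_closure_image (W : Set ↥XU) (hW : IsClosed W) :
    j.base ⁻¹' closure (j.base '' W) = W := by
  have := j.isOpenEmbedding.isInducing.closure_eq_preimage_closure_image W
  rw [← this, hW.closure_eq]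

theorem closed_restrict (hφU : φU ≫ jY = j ≫ φ)
    (hrange : ∀ x : X, φ.base x ∈ Set.range jY.base → x ∈ Set.range j.base)
    (hσ : σU ≫ j = ρ ≫ σ) (hcart : IsPullback ρ pU p j) (hpopen : IsOpenMap p.base)
    (hclosed : ∀ W : Set X, IsClosed W → (∀ q : GX, p.base q ∈ W → σ.base q ∈ W) →
      IsClosed (φ.base '' W))
    (W : Set ↥XU) (hW : IsClosed W) (hWinv : ∀ q : GXU, pU.base q ∈ W → σU.base q ∈ W) :
    IsClosed (φU.base '' W) := by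
  have hC : IsClosed (φ.base '' closure (j.base '' W)) :=
    hclosed _ isClosed_closure (closure_invariant hσ hcart hpopen W hWinv)
  have heq : φU.base '' W = jY.base ⁻¹' (φ.base '' closure (j.base '' W)) := by
    ext u
    constructor
    · rintro ⟨w, hw, rfl⟩
      refine ⟨j.base w, subset_closure ⟨w, hw, rfl⟩, ?_⟩
      exact (congrArg (fun k : XU ⟶ Y => k.base w) hφU).symm
    · rintro ⟨x, hx, hxu⟩
      obtain ⟨x', rfl⟩ := hrange x ⟨u, hxu.symm⟩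
      have hx' : x' ∈ W := by
        have := preimage_closure_image (j := j) W hW
        rw [← this]; exact hx
      refine ⟨x', hx', ?_⟩
      apply jY.isOpenEmbedding.injective
      have := congrArg (fun k : XU ⟶ Y => k.base x') hφU
      exact this.trans hxu
  rw [heq]
  exact hC.preimage jY.continuous

theorem inter_restrict (hφU : φU ≫ jY = j ≫ φ)
    (hrange : ∀ x : X, φ.base x ∈ Set.range jY.base → x ∈ Set.range j.base)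
    (hσ : σU ≫ j = ρ ≫ σ) (hcart : IsPullback ρ pU p j) (hpopen : IsOpenMap p.base)
    (hinter : ∀ (J : Type u) (W : J → Set X), (∀ i, IsClosed (W i)) →
      (∀ i, ∀ q : GX, p.base q ∈ W i → σ.base q ∈ W i) →
      φ.base '' (⋂ i, W i) = ⋂ i, φ.base '' W i)
    (J : Type u) (W : J → Set ↥XU) (hW : ∀ i, IsClosed (W i))
    (hWinv : ∀ i, ∀ q : GXU, pU.base q ∈ W i → σU.base q ∈ W i) :
    φU.base '' (⋂ i, W i) = ⋂ i, φU.base '' W i := by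
  apply Set.Subset.antisymm (Set.image_iInter_subset _ _)
  intro u hu
  rw [Set.mem_iInter] at hu
  have h1 : jY.base u ∈ ⋂ i, φ.base '' closure (j.base '' W i) := by
    rw [Set.mem_iInter]
    intro i
    obtain ⟨w, hw, hwu⟩ := hu i
    refine ⟨j.base w, subset_closure ⟨w, hw, rfl⟩, ?_⟩
    have := congrArg (fun k : XU ⟶ Y => k.base w) hφU
    rw [← hwu]; exact this.symm
  rw [← hinter J (fun i => closure (j.base '' W i)) (fun i => isClosed_closure)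
    (fun i => closure_invariant hσ hcart hpopen (W i) (hWinv i))] at h1
  obtain ⟨x, hx, hxu⟩ := h1
  rw [Set.mem_iInter] at hx
  obtain ⟨x', rfl⟩ := hrange x ⟨u, hxu.symm⟩
  refine ⟨x', Set.mem_iInter.mpr (fun i => ?_), ?_⟩
  · have := preimage_closure_image (j := j) (W i) (hW i)
    rw [← this]; exact hx i
  · apply jY.isOpenEmbedding.injective
    have := congrArg (fun k : XU ⟶ Y => k.base x') hφU
    exact this.trans hxu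

theorem image_preimage_eq (hφU : φU ≫ jY = j ≫ φ)
    (hrange : ∀ x : X, φ.base x ∈ Set.range jY.base → x ∈ Set.range j.base) (V : YU.Opens) :
    j ''ᵁ (φU ⁻¹ᵁ V) = φ ⁻¹ᵁ (jY ''ᵁ V) := by
  ext x
  constructor
  · rintro ⟨x', hx', rfl⟩
    show φ.base (j.base x') ∈ jY.base '' (V : Set YU)
    exact ⟨φU.base x', hx', congrArg (fun k : XU ⟶ Y => k.base x') hφU⟩
  · rintro ⟨v, hv, hvx⟩
    obtain ⟨x', rfl⟩ := hrange x ⟨v, hvx⟩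
    have h1 : jY.base (φU.base x') = φ.base (j.base x') :=
      congrArg (fun k : XU ⟶ Y => k.base x') hφU
    have h2 : φU.base x' = v := jY.isOpenEmbedding.injective (h1.trans hvx.symm)
    have h3 : φU.base x' ∈ V := by rw [h2]; exact hv
    exact ⟨x', h3, rfl⟩

theorem sections_restrict (hφU : φU ≫ jY = j ≫ φ)
    (hrange : ∀ x : X, φ.base x ∈ Set.range jY.base → x ∈ Set.range j.base)
    (hσ : σU ≫ j = ρ ≫ σ) (hp : pU ≫ j = ρ ≫ p) (hcart : IsPullback ρ pU p j)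
    (hinv : σ ≫ φ = p ≫ φ)
    (hsec : ∀ V : Y.Opens, Function.Injective (φ.app V).hom ∧ ∀ f : Γ(X, φ ⁻¹ᵁ V),
      (σ.appLE (φ ⁻¹ᵁ V) (σ ⁻¹ᵁ (φ ⁻¹ᵁ V) ⊓ p ⁻¹ᵁ (φ ⁻¹ᵁ V)) inf_le_left).hom f =
        (p.appLE (φ ⁻¹ᵁ V) (σ ⁻¹ᵁ (φ ⁻¹ᵁ V) ⊓ p ⁻¹ᵁ (φ ⁻¹ᵁ V)) inf_le_right).hom f →
      f ∈ Set.range (φ.app V).hom)
    (V : YU.Opens) :
    Function.Injective (φU.app V).hom ∧ ∀ f' : Γ(XU, φU ⁻¹ᵁ V),
      f' ∈ Set.range (φU.app V).hom ↔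
        (σU.appLE (φU ⁻¹ᵁ V) (σU ⁻¹ᵁ (φU ⁻¹ᵁ V) ⊓ pU ⁻¹ᵁ (φU ⁻¹ᵁ V)) inf_le_left).hom f' =
          (pU.appLE (φU ⁻¹ᵁ V) (σU ⁻¹ᵁ (φU ⁻¹ᵁ V) ⊓ pU ⁻¹ᵁ (φU ⁻¹ᵁ V)) inf_le_right).hom f' := by
  have hinvU : σU ≫ φU = pU ≫ φU := invU hφU hσ hp hinv
  have e1 : V ≤ jY ⁻¹ᵁ (jY ''ᵁ V) := (Scheme.Hom.preimage_image_eq jY V).ge
  have bU : Function.Bijective (jY.appLE (jY ''ᵁ V) V e1).hom :=
    appLE_bijective_of_image_eq jY _ _ e1 rfl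
  have hXeq : j ''ᵁ (φU ⁻¹ᵁ V) = φ ⁻¹ᵁ (jY ''ᵁ V) := image_preimage_eq hφU hrange V
  have e2 : φU ⁻¹ᵁ V ≤ j ⁻¹ᵁ (φ ⁻¹ᵁ (jY ''ᵁ V)) := by
    rw [← hXeq]; exact (Scheme.Hom.preimage_image_eq j _).ge
  have bX : Function.Bijective (j.appLE (φ ⁻¹ᵁ (jY ''ᵁ V)) (φU ⁻¹ᵁ V) e2).hom :=
    appLE_bijective_of_image_eq j _ _ e2 hXeq
  have hsq : φ.app (jY ''ᵁ V) ≫ j.appLE (φ ⁻¹ᵁ (jY ''ᵁ V)) (φU ⁻¹ᵁ V) e2 =
      jY.appLE (jY ''ᵁ V) V e1 ≫ φU.app V := by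
    rw [Scheme.Hom.app_eq_appLE (f := φ), Scheme.Hom.app_eq_appLE (f := φU),
      Scheme.Hom.appLE_comp_appLE, Scheme.Hom.appLE_comp_appLE]
    exact appLE_congr hφU.symm _ _ _ _
  have hinj : Function.Injective (φU.app V).hom := by
    intro s t hst
    obtain ⟨s₀, rfl⟩ := bU.2 s
    obtain ⟨t₀, rfl⟩ := bU.2 t
    have es := congrArg (fun k => k.hom s₀) hsq
    have et := congrArg (fun k => k.hom t₀) hsq
    have h1 : (j.appLE (φ ⁻¹ᵁ (jY ''ᵁ V)) (φU ⁻¹ᵁ V) e2).hom ((φ.app (jY ''ᵁ V)).hom s₀) =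
        (j.appLE (φ ⁻¹ᵁ (jY ''ᵁ V)) (φU ⁻¹ᵁ V) e2).hom ((φ.app (jY ''ᵁ V)).hom t₀) :=
      es.trans (hst.trans et.symm)
    have h2 := (hsec (jY ''ᵁ V)).1 (bX.1 h1)
    rw [h2]
  refine ⟨hinj, fun f' => ⟨?_, fun hf' => ?_⟩⟩
  · rintro ⟨t, rfl⟩
    have e : φU.app V ≫ σU.appLE (φU ⁻¹ᵁ V) (σU ⁻¹ᵁ (φU ⁻¹ᵁ V) ⊓ pU ⁻¹ᵁ (φU ⁻¹ᵁ V))
        inf_le_left =
        φU.app V ≫ pU.appLE (φU ⁻¹ᵁ V) (σU ⁻¹ᵁ (φU ⁻¹ᵁ V) ⊓ pU ⁻¹ᵁ (φU ⁻¹ᵁ V))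
          inf_le_right := by
      rw [Scheme.Hom.app_eq_appLE (f := φU), Scheme.Hom.appLE_comp_appLE,
        Scheme.Hom.appLE_comp_appLE]
      exact appLE_congr hinvU _ _ _ _
    exact congrArg (fun k => k.hom t) e
  · obtain ⟨f, rfl⟩ := bX.2 f'
    -- the opens
    have hW : σU ⁻¹ᵁ (φU ⁻¹ᵁ V) ⊓ pU ⁻¹ᵁ (φU ⁻¹ᵁ V) ≤
        ρ ⁻¹ᵁ (σ ⁻¹ᵁ (φ ⁻¹ᵁ (jY ''ᵁ V)) ⊓ p ⁻¹ᵁ (φ ⁻¹ᵁ (jY ''ᵁ V))) := by
      rintro x ⟨hx1, hx2⟩
      have a1 : j.base (σU.base x) = σ.base (ρ.base x) :=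
        congrArg (fun k : GXU ⟶ X => k.base x) hσ
      have a2 : j.base (pU.base x) = p.base (ρ.base x) :=
        congrArg (fun k : GXU ⟶ X => k.base x) hp
      have b1 : j.base (σU.base x) ∈ φ ⁻¹ᵁ (jY ''ᵁ V) := e2 hx1
      have b2 : j.base (pU.base x) ∈ φ ⁻¹ᵁ (jY ''ᵁ V) := e2 hx2
      rw [a1] at b1; rw [a2] at b2
      exact ⟨b1, b2⟩
    haveI : IsOpenImmersion ρ :=
      MorphismProperty.of_isPullback (P := @IsOpenImmersion) hcart.flip inferInstance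
    have hWeq : ρ ''ᵁ (σU ⁻¹ᵁ (φU ⁻¹ᵁ V) ⊓ pU ⁻¹ᵁ (φU ⁻¹ᵁ V)) =
        σ ⁻¹ᵁ (φ ⁻¹ᵁ (jY ''ᵁ V)) ⊓ p ⁻¹ᵁ (φ ⁻¹ᵁ (jY ''ᵁ V)) := by
      ext q
      constructor
      · rintro ⟨q', hq', rfl⟩
        exact hW hq'
      · rintro ⟨hq1, hq2⟩
        have hq2' : φ.base (p.base q) ∈ Set.range jY.base := by
          obtain ⟨v, -, hv⟩ := hq2
          exact ⟨v, hv⟩
        obtain ⟨x', hx'⟩ := hrange _ hq2'
        obtain ⟨q', hq'1, hq'2⟩ :=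
          PullbackPts.exists_preimage_of_isPullback hcart q x' hx'.symm
        refine ⟨q', ⟨?_, ?_⟩, hq'1⟩
        · have a1 : j.base (σU.base q') = σ.base (ρ.base q') :=
            congrArg (fun k : GXU ⟶ X => k.base q') hσ
          have b1 : j.base (σU.base q') ∈ φ ⁻¹ᵁ (jY ''ᵁ V) := by
            rw [a1, hq'1]; exact hq1
          have b2 : j.base (σU.base q') ∈ j ''ᵁ (φU ⁻¹ᵁ V) := by rw [hXeq]; exact b1
          obtain ⟨y, hy, hyj⟩ := b2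
          have : y = σU.base q' := j.isOpenEmbedding.injective hyj
          subst this
          exact hy
        · have a2 : j.base (pU.base q') = p.base (ρ.base q') :=
            congrArg (fun k : GXU ⟶ X => k.base q') hp
          have b1 : j.base (pU.base q') ∈ φ ⁻¹ᵁ (jY ''ᵁ V) := by
            rw [a2, hq'1]; exact hq2
          have b2 : j.base (pU.base q') ∈ j ''ᵁ (φU ⁻¹ᵁ V) := by rw [hXeq]; exact b1
          obtain ⟨y, hy, hyj⟩ := b2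
          have : y = pU.base q' := j.isOpenEmbedding.injective hyj
          subst this
          exact hy
    have bρ : Function.Bijective (ρ.appLE _ _ hW).hom :=
      appLE_bijective_of_image_eq ρ _ _ hW hWeq
    have i1 : j.appLE (φ ⁻¹ᵁ (jY ''ᵁ V)) (φU ⁻¹ᵁ V) e2 ≫
        σU.appLE (φU ⁻¹ᵁ V) (σU ⁻¹ᵁ (φU ⁻¹ᵁ V) ⊓ pU ⁻¹ᵁ (φU ⁻¹ᵁ V)) inf_le_left =
        σ.appLE (φ ⁻¹ᵁ (jY ''ᵁ V))
          (σ ⁻¹ᵁ (φ ⁻¹ᵁ (jY ''ᵁ V)) ⊓ p ⁻¹ᵁ (φ ⁻¹ᵁ (jY ''ᵁ V))) inf_le_left ≫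
          ρ.appLE _ _ hW := by
      rw [Scheme.Hom.appLE_comp_appLE, Scheme.Hom.appLE_comp_appLE]
      exact appLE_congr hσ _ _ _ _
    have i2 : j.appLE (φ ⁻¹ᵁ (jY ''ᵁ V)) (φU ⁻¹ᵁ V) e2 ≫
        pU.appLE (φU ⁻¹ᵁ V) (σU ⁻¹ᵁ (φU ⁻¹ᵁ V) ⊓ pU ⁻¹ᵁ (φU ⁻¹ᵁ V)) inf_le_right =
        p.appLE (φ ⁻¹ᵁ (jY ''ᵁ V))
          (σ ⁻¹ᵁ (φ ⁻¹ᵁ (jY ''ᵁ V)) ⊓ p ⁻¹ᵁ (φ ⁻¹ᵁ (jY ''ᵁ V))) inf_le_right ≫
          ρ.appLE _ _ hW := by
      rw [Scheme.Hom.appLE_comp_appLE, Scheme.Hom.appLE_comp_appLE]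
      exact appLE_congr hp _ _ _ _
    have c1 := congrArg (fun k => k.hom f) i1
    have c2 := congrArg (fun k => k.hom f) i2
    have hfinv : (σ.appLE (φ ⁻¹ᵁ (jY ''ᵁ V))
          (σ ⁻¹ᵁ (φ ⁻¹ᵁ (jY ''ᵁ V)) ⊓ p ⁻¹ᵁ (φ ⁻¹ᵁ (jY ''ᵁ V))) inf_le_left).hom f =
        (p.appLE (φ ⁻¹ᵁ (jY ''ᵁ V))
          (σ ⁻¹ᵁ (φ ⁻¹ᵁ (jY ''ᵁ V)) ⊓ p ⁻¹ᵁ (φ ⁻¹ᵁ (jY ''ᵁ V))) inf_le_right).hom f := by
      apply bρ.1
      exact c1.symm.trans (hf'.trans c2)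
    obtain ⟨t₀, ht₀⟩ := (hsec (jY ''ᵁ V)).2 f hfinv
    refine ⟨(jY.appLE (jY ''ᵁ V) V e1).hom t₀, ?_⟩
    have c3 := congrArg (fun k => k.hom t₀) hsq
    rw [← ht₀]
    exact c3.symm

end Groth.Agent.Lib.Helper40.GoodQuotRestrict
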