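import Mathlib
import Groth.Prelude.Def_AlgGrp

/-!
# Kernels of homomorphisms of group objects of `Over S`: the kernel pair

For a homomorphism `f : G ⟶ H` with kernel `i : N ⟶ G` (`AlgGrp.IsKernel i f`), the kernel pair of
`f` is `G ⊗ N ⇉ G` (first projection, `(g, n) ↦ g · i(n)`).
-/

set_option autoImplicit false
open CategoryTheory CategoryTheory.Limits AlgebraicGeometry MonoidalCategory
open CartesianMonoidalCategory MonObj
universe u

namespace Groth.Agent.Lib.Helper40.GrpKer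

variable {S : Scheme.{u}} {G H N : Over S} [GrpObj G] [GrpObj H]

omit [GrpObj G] in
theorem mono_of_isKernel {f : G ⟶ H} {i : N ⟶ G} (hi : AlgGrp.IsKernel i f) : Mono i := by
  have : IsSplitMono η[H] := ⟨⟨⟨toUnit H, toUnit_unique _ _⟩⟩⟩
  exact hi.mono_fst_of_mono

/-- Points with the same image under `f` differ by a point of the kernel. -/
theorem exists_eq_mul_of_comp_eq {f : G ⟶ H} [IsMonHom f] {i : N ⟶ G} (hi : AlgGrp.IsKernel i f)
    {T : Over S} (a b : T ⟶ G) (hab : a ≫ f = b ≫ f) : ∃ c : T ⟶ N, b = a * (c ≫ i) := by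
  have h1 : (a⁻¹ * b) ≫ f = toUnit T ≫ η[H] := by
    rw [MonObj.mul_comp, GrpObj.inv_comp, hab, inv_mul_cancel, CategoryTheory.Hom.one_def]
  refine ⟨hi.lift (a⁻¹ * b) (toUnit T) h1, ?_⟩
  rw [hi.lift_fst, mul_inv_cancel_left]

omit [GrpObj G] in
theorem comp_i_comp_f {f : G ⟶ H} {i : N ⟶ G} (hi : AlgGrp.IsKernel i f) {T : Over S}
    (c : T ⟶ N) : (c ≫ i) ≫ f = 1 := by
  rw [Category.assoc, hi.w, ← Category.assoc, CategoryTheory.Hom.one_def]
  congr 1
  exact toUnit_unique _ _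

/-- The kernel pair of a homomorphism with kernel `i : N ⟶ G` is `G ⊗ N ⇉ G`. -/
theorem isKernelPair_of_isKernel {f : G ⟶ H} [IsMonHom f] {i : N ⟶ G}
    (hi : AlgGrp.IsKernel i f) : IsPullback (fst G N) ((G ◁ i) ≫ μ[G]) f f := by
  have hmono := mono_of_isKernel hi
  have hpt : ∀ {T : Over S} (m : T ⟶ G ⊗ N),
      m ≫ (G ◁ i) ≫ μ[G] = (m ≫ fst G N) * ((m ≫ snd G N) ≫ i) := by
    intro T m
    have : m = lift (m ≫ fst G N) (m ≫ snd G N) := by
      apply CartesianMonoidalCategory.hom_ext <;> simp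
    conv_lhs => rw [this]
    rw [← Category.assoc, lift_whiskerLeft]
    rfl
  have w : fst G N ≫ f = ((G ◁ i) ≫ μ[G]) ≫ f := by
    have := hpt (𝟙 (G ⊗ N))
    rw [Category.id_comp] at this
    rw [this, MonObj.mul_comp, comp_i_comp_f hi, _root_.mul_one, Category.id_comp]
  have key : ∀ (T : Over S) (a b : T ⟶ G) (hab : a ≫ f = b ≫ f), ∃ c : T ⟶ N, b = a * (c ≫ i) :=
    fun T a b hab => exists_eq_mul_of_comp_eq hi a b hab
  choose c hc using key
  refine ⟨⟨w⟩, ⟨PullbackCone.IsLimit.mk w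
    (fun s => lift s.fst (c _ s.fst s.snd s.condition)) ?_ ?_ ?_⟩⟩
  · intro s
    simp
  · intro s
    rw [hpt]
    simp only [lift_fst, lift_snd]
    exact (hc _ s.fst s.snd s.condition).symm
  · intro s m hm1 hm2
    apply CartesianMonoidalCategory.hom_ext
    · simpa using hm1
    · rw [lift_snd, ← cancel_mono i]
      have h2 := hpt m
      rw [hm2, hm1, hc _ s.fst s.snd s.condition] at h2
      exact (mul_left_cancel h2).symm

end Groth.Agent.Lib.Helper40.GrpKer
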