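import Mathlib
import Groth.Prelude.Def_FGA

/-!
# An immersion induces a monomorphism of Hilbert functors
-/

set_option autoImplicit false
universe u
open CategoryTheory CategoryTheory.Limits AlgebraicGeometry

namespace Groth.Agent.Lib.Helper40.HilbImm

variable {W X S : Scheme.{u}} (f : X ⟶ S) (ι : W ⟶ X) (T : Over S)

/-- The base change `W ×_S T ⟶ X ×_S T` of `ι`. -/
noncomputable abbrev ιT : pullback (ι ≫ f) T.hom ⟶ pullback f T.hom :=
  pullback.map (ι ≫ f) T.hom f T.hom ι (𝟙 T.left) (𝟙 S)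
    (Category.comp_id _) ((Category.comp_id _).trans (Category.id_comp _).symm)

lemma ιT_fst : ιT f ι T ≫ pullback.fst f T.hom = pullback.fst (ι ≫ f) T.hom ≫ ι :=
  pullback.lift_fst _ _ _

lemma ιT_snd : ιT f ι T ≫ pullback.snd f T.hom = pullback.snd (ι ≫ f) T.hom :=
  (pullback.lift_snd _ _ _).trans (Category.comp_id _)

lemma isPullback_ιT :
    IsPullback (ιT f ι T) (pullback.fst (ι ≫ f) T.hom) (pullback.fst f T.hom) ι := by
  have big : IsPullback (ιT f ι T ≫ pullback.snd f T.hom) (pullback.fst (ι ≫ f) T.hom)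
      T.hom (ι ≫ f) := by
    rw [ιT_snd]; exact (IsPullback.of_hasPullback (ι ≫ f) T.hom).flip
  exact IsPullback.of_right big (ιT_fst f ι T) (IsPullback.of_hasPullback f T.hom).flip

instance [IsImmersion ι] : IsImmersion (ιT f ι T) :=
  MorphismProperty.of_isPullback (P := @IsImmersion) (isPullback_ιT f ι T).flip inferInstance

variable [IsSeparated f] [IsImmersion ι]

lemma isClosedImmersion_comp (V : FGA.HilbSet (ι ≫ f) T) :
    IsClosedImmersion (V.1.subschemeι ≫ ιT f ι T) := by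
  obtain ⟨I, hprop, _⟩ := V
  have hcomp : (I.subschemeι ≫ ιT f ι T) ≫ pullback.snd f T.hom =
      I.subschemeι ≫ pullback.snd (ι ≫ f) T.hom := by
    rw [Category.assoc, ιT_snd]
  haveI : IsProper ((I.subschemeι ≫ ιT f ι T) ≫ pullback.snd f T.hom) := by
    rw [hcomp]; exact hprop
  haveI : IsProper (I.subschemeι ≫ ιT f ι T) :=
    IsProper.of_comp (I.subschemeι ≫ ιT f ι T) (pullback.snd f T.hom)
  exact IsClosedImmersion.of_isPreimmersion _
    (Scheme.Hom.isClosedMap (I.subschemeι ≫ ιT f ι T)).isClosed_range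

theorem main :
    (∀ V : FGA.HilbSet (ι ≫ f) T,
      IsClosedImmersion (V.1.subschemeι ≫ pullback.map (ι ≫ f) T.hom f T.hom ι (𝟙 T.left) (𝟙 S)
          (Category.comp_id _) ((Category.comp_id _).trans (Category.id_comp _).symm))) ∧
    Function.Injective (fun V : FGA.HilbSet (ι ≫ f) T =>
      (V.1.subschemeι ≫ pullback.map (ι ≫ f) T.hom f T.hom ι (𝟙 T.left) (𝟙 S)
          (Category.comp_id _) ((Category.comp_id _).trans (Category.id_comp _).symm)).ker) := by
  refine ⟨fun V => isClosedImmersion_comp f ι T V, ?_⟩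
  intro V₁ V₂ h
  have h' : (V₁.1.subschemeι ≫ ιT f ι T).ker = (V₂.1.subschemeι ≫ ιT f ι T).ker := h
  haveI := isClosedImmersion_comp f ι T V₁
  haveI := isClosedImmersion_comp f ι T V₂
  haveI : IsIso (IsClosedImmersion.lift (V₂.1.subschemeι ≫ ιT f ι T)
      (V₁.1.subschemeι ≫ ιT f ι T) h'.symm.le) :=
    IsClosedImmersion.isIso_lift _ _ h'.symm
  have hfac : IsClosedImmersion.lift (V₂.1.subschemeι ≫ ιT f ι T)
      (V₁.1.subschemeι ≫ ιT f ι T) h'.symm.le ≫ (V₂.1.subschemeι ≫ ιT f ι T) =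
      V₁.1.subschemeι ≫ ιT f ι T := IsClosedImmersion.lift_fac _ _ _
  have hfac' : IsClosedImmersion.lift (V₂.1.subschemeι ≫ ιT f ι T)
      (V₁.1.subschemeι ≫ ιT f ι T) h'.symm.le ≫ V₂.1.subschemeι = V₁.1.subschemeι := by
    rw [← cancel_mono (ιT f ι T), Category.assoc]; exact hfac
  apply Subtype.ext
  calc V₁.1 = V₁.1.subschemeι.ker := V₁.1.ker_subschemeι.symm
    _ = (IsClosedImmersion.lift (V₂.1.subschemeι ≫ ιT f ι T)
          (V₁.1.subschemeι ≫ ιT f ι T) h'.symm.le ≫ V₂.1.subschemeι).ker := by rw [hfac']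
    _ = V₂.1.subschemeι.ker := Scheme.Hom.ker_comp_of_isIso _ _
    _ = V₂.1 := V₂.1.ker_subschemeι

end Groth.Agent.Lib.Helper40.HilbImm
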