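import Mathlib
import Groth.Prelude.Def_FGA
import Groth.Agent.Lib.Helper40.HilbImm

/-!
# The Hilbert functor of an open subscheme

If `(H, Z)` represents the Hilbert functor of a separated `f : X ⟶ S` and `j : U ⟶ X` is an open
immersion, then the Hilbert functor of `U` is represented by the open `H₀ ⊆ H` of points over which
the universal family lies in `U`, together with the restricted family.
-/

set_option autoImplicit false
universe u
open CategoryTheory CategoryTheory.Limits AlgebraicGeometry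

namespace Groth.Agent.Lib.Helper40.HilbOpen

open Groth.Agent.Lib.Helper40.HilbImm

section general

/-- In a pullback square whose right vertical arrow is a closed immersion, the kernel of the left
vertical arrow is the pullback ideal. -/
lemma comap_ker_of_isPullback {ZX ZY X Y : Scheme.{u}} {iX : ZX ⟶ X} {iY : ZY ⟶ Y} {Zf : ZX ⟶ ZY}
    {f : X ⟶ Y} [IsClosedImmersion iY] (sq : IsPullback iX Zf f iY) :
    iY.ker.comap f = iX.ker :=
  calc iY.ker.comap f = (pullback.fst f iY).ker :=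
        (Scheme.IdealSheafData.ker_fst_of_isClosedImmersion iY f).symm
    _ = (sq.isoPullback.hom ≫ pullback.fst f iY).ker := (Scheme.Hom.ker_comp_of_isIso _ _).symm
    _ = iX.ker := by rw [sq.isoPullback_hom_fst]

lemma isPullback_of_mono {V U' X' : Scheme.{u}} (v : V ⟶ U') (ι : U' ⟶ X') [Mono ι] :
    IsPullback v (𝟙 V) ι (v ≫ ι) := by
  have h1 : IsPullback v (𝟙 V) (𝟙 U') v := IsPullback.of_vert_isIso ⟨by simp⟩
  have h2 : IsPullback (𝟙 U') (𝟙 U') ι ι := IsKernelPair.id_of_mono ι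
  have h3 := h1.paste_horiz h2
  simpa using h3

lemma comap_map_of_mono {U' X' : Scheme.{u}} (J : U'.IdealSheafData) (ι : U' ⟶ X') [Mono ι]
    [IsClosedImmersion (J.subschemeι ≫ ι)] : (J.map ι).comap ι = J := by
  have sq := isPullback_of_mono J.subschemeι ι
  have h := comap_ker_of_isPullback sq
  rw [J.ker_subschemeι] at h
  exact h

lemma map_comap_of_factors {U' X' : Scheme.{u}} (I : X'.IdealSheafData) (ι : U' ⟶ X') [Mono ι]
    (l : I.subscheme ⟶ U') (hl : l ≫ ι = I.subschemeι) : (I.comap ι).map ι = I := by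
  have sq : IsPullback l (𝟙 _) ι (l ≫ ι) := isPullback_of_mono l ι
  haveI : IsClosedImmersion (l ≫ ι) := by rw [hl]; infer_instance
  have h1 : (l ≫ ι).ker.comap ι = l.ker := comap_ker_of_isPullback sq
  rw [hl, I.ker_subschemeι] at h1
  rw [h1, Scheme.IdealSheafData.map_ker, hl, I.ker_subschemeι]

lemma prop_ker_of_closedImmersion {V X' B : Scheme.{u}} (c : V ⟶ X') [IsClosedImmersion c]
    (π : X' ⟶ B) (P : MorphismProperty Scheme.{u}) [P.RespectsIso] (hP : P (c ≫ π)) :
    P (c.ker.subschemeι ≫ π) := by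
  have e : c.toImage ≫ (c.ker.subschemeι ≫ π) = c ≫ π := by
    rw [← Category.assoc]; exact congrArg (· ≫ π) c.toImage_imageι
  rw [← e] at hP
  exact (P.cancel_left_of_respectsIso c.toImage _).mp hP

lemma range_map_subset {U' X' : Scheme.{u}} (J : U'.IdealSheafData) (ι : U' ⟶ X')
    [IsClosedImmersion (J.subschemeι ≫ ι)] : Set.range (J.map ι).subschemeι ⊆ Set.range ι := by
  show Set.range (J.subschemeι ≫ ι).imageι ⊆ Set.range ι
  rintro _ ⟨w, rfl⟩
  have e : (J.subschemeι ≫ ι).imageι = inv (J.subschemeι ≫ ι).toImage ≫ J.subschemeι ≫ ι := by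
    rw [IsIso.eq_inv_comp]; exact (J.subschemeι ≫ ι).toImage_imageι
  rw [e, Scheme.Hom.comp_apply, Scheme.Hom.comp_apply]
  exact Set.mem_range_self _

lemma comap_props_of_factors {U' X' B : Scheme.{u}} (I : X'.IdealSheafData) (ι : U' ⟶ X')
    [IsOpenImmersion ι] (π : X' ⟶ B) (hr : Set.range I.subschemeι ⊆ Set.range ι)
    (P : MorphismProperty Scheme.{u}) [P.RespectsIso] (hP : P (I.subschemeι ≫ π)) :
    P ((I.comap ι).subschemeι ≫ ι ≫ π) := by
  obtain ⟨l, hl⟩ : ∃ l : I.subscheme ⟶ U', l ≫ ι = I.subschemeι :=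
    ⟨IsOpenImmersion.lift ι I.subschemeι hr, IsOpenImmersion.lift_fac _ _ _⟩
  have sq : IsPullback l (𝟙 _) ι I.subschemeι := by
    have := isPullback_of_mono l ι
    rwa [hl] at this
  have hsnd : sq.isoPullback.hom ≫ pullback.snd ι I.subschemeι = 𝟙 _ := sq.isoPullback_hom_snd
  haveI : IsIso (sq.isoPullback.hom ≫ pullback.snd ι I.subschemeι) := by
    rw [hsnd]; infer_instance
  haveI : IsIso (pullback.snd ι I.subschemeι) := IsIso.of_isIso_comp_left sq.isoPullback.hom _
  have e : (I.comap ι).subschemeι ≫ ι ≫ π =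
      ((I.comapIso ι).hom ≫ pullback.snd ι I.subschemeι) ≫ (I.subschemeι ≫ π) :=
    calc (I.comap ι).subschemeι ≫ ι ≫ π
        = ((I.comapIso ι).hom ≫ pullback.fst ι I.subschemeι) ≫ ι ≫ π := by
          rw [Scheme.IdealSheafData.comapIso_hom_fst]
      _ = (I.comapIso ι).hom ≫ (pullback.fst ι I.subschemeι ≫ ι) ≫ π := by
          simp only [Category.assoc]
      _ = (I.comapIso ι).hom ≫ (pullback.snd ι I.subschemeι ≫ I.subschemeι) ≫ π := by
          rw [pullback.condition]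
      _ = _ := by simp only [Category.assoc]
  rw [e]
  exact (P.cancel_left_of_respectsIso _ _).mpr hP

end general

section hilb

variable {X S : Scheme.{u}} (f : X ⟶ S)

lemma hilbPull_eq_comap {T T' : Over S} (g : T' ⟶ T) (I : (PicF.XT f T).IdealSheafData) :
    FGA.hilbPull f g I = I.comap (PicF.XTmap f g) :=
  calc (pullback.snd I.subschemeι (PicF.XTmap f g)).ker
      = ((pullbackSymmetry I.subschemeι (PicF.XTmap f g)).hom ≫
          pullback.fst (PicF.XTmap f g) I.subschemeι).ker := by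
        rw [pullbackSymmetry_hom_comp_fst]
    _ = (pullback.fst (PicF.XTmap f g) I.subschemeι).ker := Scheme.Hom.ker_comp_of_isIso _ _

lemma XTmap_fst {T T' : Over S} (g : T' ⟶ T) :
    PicF.XTmap f g ≫ pullback.fst f T.hom = pullback.fst f T'.hom := by
  unfold PicF.XTmap
  exact (pullback.lift_fst _ _ _).trans (Category.comp_id _)

lemma XTmap_snd {T T' : Over S} (g : T' ⟶ T) :
    PicF.XTmap f g ≫ pullback.snd f T.hom = pullback.snd f T'.hom ≫ g.left := by
  unfold PicF.XTmap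
  exact pullback.lift_snd _ _ _

/-- `X_{T'} = X_T ×_T T'`. -/
lemma isPullback_XTmap {T T' : Over S} (g : T' ⟶ T) :
    IsPullback (PicF.XTmap f g) (pullback.snd f T'.hom) (pullback.snd f T.hom) g.left := by
  have big : IsPullback (PicF.XTmap f g ≫ pullback.fst f T.hom) (pullback.snd f T'.hom) f
      (g.left ≫ T.hom) := by
    rw [XTmap_fst, Over.w g]; exact IsPullback.of_hasPullback f T'.hom
  exact IsPullback.of_right big (XTmap_snd f g) (IsPullback.of_hasPullback f T.hom)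

/-- Base change of a family: any property stable under base change passes to the pulled back
family. -/
lemma comap_prop {T T' : Over S} (g : T' ⟶ T) (I : (PicF.XT f T).IdealSheafData)
    (P : MorphismProperty Scheme.{u}) [P.IsStableUnderBaseChange] [P.RespectsIso]
    (h1 : P (I.subschemeι ≫ pullback.snd f T.hom)) :
    P ((I.comap (PicF.XTmap f g)).subschemeι ≫ pullback.snd f T'.hom) := by
  have sq1 : IsPullback (pullback.fst (PicF.XTmap f g) I.subschemeι)
      (pullback.snd (PicF.XTmap f g) I.subschemeι) (PicF.XTmap f g) I.subschemeι :=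
    IsPullback.of_hasPullback _ _
  have big : IsPullback (pullback.fst (PicF.XTmap f g) I.subschemeι ≫ pullback.snd f T'.hom)
      (pullback.snd (PicF.XTmap f g) I.subschemeι) g.left
      (I.subschemeι ≫ pullback.snd f T.hom) :=
    sq1.paste_horiz (isPullback_XTmap f g).flip
  have h2 : P (pullback.fst (PicF.XTmap f g) I.subschemeι ≫ pullback.snd f T'.hom) :=
    MorphismProperty.of_isPullback (P := P) big.flip h1
  have e : (I.comap (PicF.XTmap f g)).subschemeι ≫ pullback.snd f T'.hom =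
      (I.comapIso (PicF.XTmap f g)).hom ≫
        (pullback.fst (PicF.XTmap f g) I.subschemeι ≫ pullback.snd f T'.hom) := by
    rw [← Category.assoc, Scheme.IdealSheafData.comapIso_hom_fst]
  rw [e]
  exact (P.cancel_left_of_respectsIso _ _).mpr h2

end hilb

section main

variable {X U S : Scheme.{u}} (f : X ⟶ S) (j : U ⟶ X) (H : Over S) (Z : FGA.HilbSet f H)

instance (T : Over S) [IsOpenImmersion j] : IsOpenImmersion (ιT f j T) :=
  MorphismProperty.of_isPullback (P := @IsOpenImmersion) (isPullback_ιT f j T).flip inferInstance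

lemma mem_range_ιT (T : Over S) (x : ↥(pullback f T.hom))
    (hx : (pullback.fst f T.hom) x ∈ Set.range j) : x ∈ Set.range (ιT f j T) := by
  obtain ⟨u, hu⟩ := hx
  obtain ⟨y, hy, -⟩ :=
    Scheme.exists_preimage_of_isPullback (isPullback_ιT f j T) x u hu.symm
  exact ⟨y, hy⟩

/-- Points of the universal family lying outside `U`. -/
def bad : Set Z.1.subscheme :=
  {z | (Z.1.subschemeι ≫ pullback.fst f H.hom) z ∉ Set.range j}

lemma isClosed_bad [IsOpenImmersion j] : IsClosed (bad f j H Z) :=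
  (isClosed_compl_iff.mpr j.isOpenEmbedding.isOpen_range).preimage
    (Z.1.subschemeι ≫ pullback.fst f H.hom).continuous

/-- The open `H₀ ⊆ H` over which the universal family lies in `U`. -/
noncomputable def H₀ [IsOpenImmersion j] : H.left.Opens :=
  ⟨((Z.1.subschemeι ≫ pullback.snd f H.hom) '' bad f j H Z)ᶜ, by
    haveI : IsProper (Z.1.subschemeι ≫ pullback.snd f H.hom) := Z.2.1
    exact ((Z.1.subschemeι ≫ pullback.snd f H.hom).isClosedMap _
      (isClosed_bad f j H Z)).isOpen_compl⟩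

variable [IsOpenImmersion j]

lemma mem_range_of_mem_H₀ (z : Z.1.subscheme)
    (hz : (Z.1.subschemeι ≫ pullback.snd f H.hom) z ∈ H₀ f j H Z) :
    (Z.1.subschemeι ≫ pullback.fst f H.hom) z ∈ Set.range j := by
  by_contra hcon
  have hz' : (Z.1.subschemeι ≫ pullback.snd f H.hom) z ∉
      (Z.1.subschemeι ≫ pullback.snd f H.hom) '' bad f j H Z := hz
  exact hz' ⟨z, hcon, rfl⟩

lemma range_subset_H₀ {T : Over S} (g : T ⟶ H)
    (hg : ∀ x : ↥(pullback f T.hom), (PicF.XTmap f g) x ∈ Set.range Z.1.subschemeι →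
        (pullback.fst f T.hom) x ∈ Set.range j) :
    Set.range g.left ⊆ Set.range (H₀ f j H Z).ι := by
  rintro _ ⟨t, rfl⟩
  rw [Scheme.Opens.range_ι]
  show g.left t ∉ (Z.1.subschemeι ≫ pullback.snd f H.hom) '' bad f j H Z
  rintro ⟨z, hz, hpz⟩
  have hpz' : (pullback.snd f H.hom) (Z.1.subschemeι z) = g.left t := by
    rw [← Scheme.Hom.comp_apply]; exact hpz
  obtain ⟨x, hx1, hx2⟩ := Scheme.exists_preimage_of_isPullback (isPullback_XTmap f g)
    (Z.1.subschemeι z) t hpz'
  have h1 := hg x ⟨z, hx1.symm⟩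
  apply hz
  have e1 : (PicF.XTmap f g ≫ pullback.fst f H.hom) x = (pullback.fst f T.hom) x := by
    rw [XTmap_fst]
  have e : (pullback.fst f T.hom) x = (Z.1.subschemeι ≫ pullback.fst f H.hom) z := by
    rw [← e1, Scheme.Hom.comp_apply, Scheme.Hom.comp_apply]
    exact congrArg _ hx1
  rw [← e]; exact h1

lemma fst_mem_range_of_factors {T : Over S} (g : T ⟶ H)
    (hg : Set.range g.left ⊆ Set.range (H₀ f j H Z).ι)
    (x : ↥(pullback f T.hom)) (hx : (PicF.XTmap f g) x ∈ Set.range Z.1.subschemeι) :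
    (pullback.fst f T.hom) x ∈ Set.range j := by
  obtain ⟨z, hz⟩ := hx
  have hp : (Z.1.subschemeι ≫ pullback.snd f H.hom) z ∈ H₀ f j H Z := by
    have e2 : (Z.1.subschemeι ≫ pullback.snd f H.hom) z = g.left ((pullback.snd f T.hom) x) := by
      have e3 : (PicF.XTmap f g ≫ pullback.snd f H.hom) x =
          (pullback.snd f T.hom ≫ g.left) x := by rw [XTmap_snd]
      rw [Scheme.Hom.comp_apply, hz, ← Scheme.Hom.comp_apply, e3, Scheme.Hom.comp_apply]
    rw [e2]
    have h2 : g.left ((pullback.snd f T.hom) x) ∈ Set.range (H₀ f j H Z).ι :=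
      hg (Set.mem_range_self _)
    rw [Scheme.Opens.range_ι] at h2
    exact h2
  have h3 := mem_range_of_mem_H₀ f j H Z z hp
  have e1 : (PicF.XTmap f g ≫ pullback.fst f H.hom) x = (pullback.fst f T.hom) x := by
    rw [XTmap_fst]
  have e : (pullback.fst f T.hom) x = (Z.1.subschemeι ≫ pullback.fst f H.hom) z := by
    rw [← e1, Scheme.Hom.comp_apply, Scheme.Hom.comp_apply, hz]
  rw [e]; exact h3

lemma range_comap_subset {T : Over S} (g : T ⟶ H)
    (hg : Set.range g.left ⊆ Set.range (H₀ f j H Z).ι) :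
    Set.range (Z.1.comap (PicF.XTmap f g)).subschemeι ⊆ Set.range (ιT f j T) := by
  intro x hx
  rw [Scheme.IdealSheafData.range_subschemeι, Scheme.IdealSheafData.support_comap] at hx
  have hx' : (PicF.XTmap f g) x ∈ Set.range Z.1.subschemeι := by
    rw [Scheme.IdealSheafData.range_subschemeι]; exact hx
  exact mem_range_ιT f j T x (fst_mem_range_of_factors f j H Z g hg x hx')

/-- `H₀` as an object over `S`. -/
noncomputable abbrev Ho : Over S := Over.mk ((H₀ f j H Z).ι ≫ H.hom)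

/-- The inclusion `H₀ ⟶ H` over `S`. -/
noncomputable abbrev incl : Ho f j H Z ⟶ H := Over.homMk (H₀ f j H Z).ι rfl

/-- The open immersion `U ×_S H₀ ⟶ X ×_S H`. -/
noncomputable abbrev φ : pullback (j ≫ f) ((H₀ f j H Z).ι ≫ H.hom) ⟶ pullback f H.hom :=
  pullback.map (j ≫ f) ((H₀ f j H Z).ι ≫ H.hom) f H.hom j (H₀ f j H Z).ι (𝟙 S)
    (Category.comp_id _) (Category.comp_id _)

/-- Compatibility of the base change maps. -/
lemma sq_φ {T : Over S} (g₁ : T ⟶ Ho f j H Z) :
    PicF.XTmap (j ≫ f) g₁ ≫ φ f j H Z = ιT f j T ≫ PicF.XTmap f (g₁ ≫ incl f j H Z) := by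
  apply pullback.hom_ext
  · calc (PicF.XTmap (j ≫ f) g₁ ≫ φ f j H Z) ≫ pullback.fst f H.hom
        = PicF.XTmap (j ≫ f) g₁ ≫ (φ f j H Z ≫ pullback.fst f H.hom) := Category.assoc _ _ _
      _ = PicF.XTmap (j ≫ f) g₁ ≫ (pullback.fst (j ≫ f) (Ho f j H Z).hom ≫ j) := by
          congr 1; exact pullback.lift_fst _ _ _
      _ = (PicF.XTmap (j ≫ f) g₁ ≫ pullback.fst (j ≫ f) (Ho f j H Z).hom) ≫ j :=
          (Category.assoc _ _ _).symm
      _ = pullback.fst (j ≫ f) T.hom ≫ j := by rw [XTmap_fst]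
      _ = ιT f j T ≫ pullback.fst f T.hom := (ιT_fst f j T).symm
      _ = ιT f j T ≫ (PicF.XTmap f (g₁ ≫ incl f j H Z) ≫ pullback.fst f H.hom) := by
          rw [XTmap_fst]
      _ = (ιT f j T ≫ PicF.XTmap f (g₁ ≫ incl f j H Z)) ≫ pullback.fst f H.hom :=
          (Category.assoc _ _ _).symm
  · calc (PicF.XTmap (j ≫ f) g₁ ≫ φ f j H Z) ≫ pullback.snd f H.hom
        = PicF.XTmap (j ≫ f) g₁ ≫ (φ f j H Z ≫ pullback.snd f H.hom) := Category.assoc _ _ _
      _ = PicF.XTmap (j ≫ f) g₁ ≫ (pullback.snd (j ≫ f) (Ho f j H Z).hom ≫ (H₀ f j H Z).ι) := by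
          congr 1; exact pullback.lift_snd _ _ _
      _ = (PicF.XTmap (j ≫ f) g₁ ≫ pullback.snd (j ≫ f) (Ho f j H Z).hom) ≫ (H₀ f j H Z).ι :=
          (Category.assoc _ _ _).symm
      _ = (pullback.snd (j ≫ f) T.hom ≫ g₁.left) ≫ (H₀ f j H Z).ι := by rw [XTmap_snd]
      _ = pullback.snd (j ≫ f) T.hom ≫ (g₁ ≫ incl f j H Z).left := Category.assoc _ _ _
      _ = (ιT f j T ≫ pullback.snd f T.hom) ≫ (g₁ ≫ incl f j H Z).left := by rw [ιT_snd]
      _ = ιT f j T ≫ (pullback.snd f T.hom ≫ (g₁ ≫ incl f j H Z).left) := Category.assoc _ _ _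
      _ = ιT f j T ≫ (PicF.XTmap f (g₁ ≫ incl f j H Z) ≫ pullback.snd f H.hom) := by
          rw [XTmap_snd]
      _ = (ιT f j T ≫ PicF.XTmap f (g₁ ≫ incl f j H Z)) ≫ pullback.snd f H.hom :=
          (Category.assoc _ _ _).symm

lemma φ_eq : φ f j H Z = ιT f j (Ho f j H Z) ≫ PicF.XTmap f (incl f j H Z) := by
  have h := sq_φ f j H Z (𝟙 (Ho f j H Z))
  have h1 : PicF.XTmap (j ≫ f) (𝟙 (Ho f j H Z)) = 𝟙 _ := by
    apply pullback.hom_ext
    · rw [XTmap_fst, Category.id_comp]
    · rw [XTmap_snd, Category.id_comp]; exact Category.comp_id _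
  rw [h1, Category.id_comp, Category.id_comp] at h
  exact h

end main

section thm

variable {X U S : Scheme.{u}} (f : X ⟶ S) (j : U ⟶ X) [IsOpenImmersion j]
  (H : Over S) (Z : FGA.HilbSet f H)

lemma Z₀_mem :
    IsProper ((Z.1.comap (φ f j H Z)).subschemeι ≫
        pullback.snd (j ≫ f) ((H₀ f j H Z).ι ≫ H.hom)) ∧
    Flat ((Z.1.comap (φ f j H Z)).subschemeι ≫
        pullback.snd (j ≫ f) ((H₀ f j H Z).ι ≫ H.hom)) := by
  have hW1 : IsProper ((Z.1.comap (PicF.XTmap f (incl f j H Z))).subschemeι ≫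
      pullback.snd f (Ho f j H Z).hom) :=
    comap_prop f (incl f j H Z) Z.1 @IsProper Z.2.1
  have hW2 : Flat ((Z.1.comap (PicF.XTmap f (incl f j H Z))).subschemeι ≫
      pullback.snd f (Ho f j H Z).hom) :=
    comap_prop f (incl f j H Z) Z.1 @Flat Z.2.2
  have hr : Set.range (Z.1.comap (PicF.XTmap f (incl f j H Z))).subschemeι ⊆
      Set.range (ιT f j (Ho f j H Z)) :=
    range_comap_subset f j H Z (incl f j H Z) (fun _ h => h)
  have e1 : Z.1.comap (φ f j H Z) =
      (Z.1.comap (PicF.XTmap f (incl f j H Z))).comap (ιT f j (Ho f j H Z)) := by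
    rw [φ_eq, Scheme.IdealSheafData.comap_comp]
  have e2 : pullback.snd (j ≫ f) ((H₀ f j H Z).ι ≫ H.hom) =
      ιT f j (Ho f j H Z) ≫ pullback.snd f (Ho f j H Z).hom := (ιT_snd f j (Ho f j H Z)).symm
  rw [e1, e2]
  exact ⟨comap_props_of_factors _ _ _ hr @IsProper hW1,
    comap_props_of_factors _ _ _ hr @Flat hW2⟩

lemma pull_eq {T : Over S} (g₁ : T ⟶ Ho f j H Z) :
    FGA.hilbPull (j ≫ f) g₁ (Z.1.comap (φ f j H Z)) =
      (Z.1.comap (PicF.XTmap f (g₁ ≫ incl f j H Z))).comap (ιT f j T) :=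
  calc FGA.hilbPull (j ≫ f) g₁ (Z.1.comap (φ f j H Z))
      = (Z.1.comap (φ f j H Z)).comap (PicF.XTmap (j ≫ f) g₁) := hilbPull_eq_comap _ _ _
    _ = Z.1.comap (PicF.XTmap (j ≫ f) g₁ ≫ φ f j H Z) :=
        (Scheme.IdealSheafData.comap_comp _ _ _).symm
    _ = Z.1.comap (ιT f j T ≫ PicF.XTmap f (g₁ ≫ incl f j H Z)) := by rw [sq_φ]
    _ = _ := Scheme.IdealSheafData.comap_comp _ _ _

theorem main [IsSeparated f] (hH : FGA.HilbRepresentedBy f H Z) :
    ∃ (H₀ : H.left.Opens) (Z₀ : FGA.HilbSet (j ≫ f) (Over.mk (H₀.ι ≫ H.hom))),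
      Z₀.1 = Z.1.comap (pullback.map (j ≫ f) (H₀.ι ≫ H.hom) f H.hom j H₀.ι (𝟙 S)
        (Category.comp_id _) (Category.comp_id _)) ∧
      FGA.HilbRepresentedBy (j ≫ f) (Over.mk (H₀.ι ≫ H.hom)) Z₀ := by
  refine ⟨H₀ f j H Z, ⟨Z.1.comap (φ f j H Z), Z₀_mem f j H Z⟩, rfl, ?_, ?_⟩
  · haveI := hH.1
    exact isLocallyNoetherian_of_isOpenImmersion (H₀ f j H Z).ι
  · intro T _ Y
    haveI hci : IsClosedImmersion (Y.1.subschemeι ≫ ιT f j T) := isClosedImmersion_comp f j T Y
    have hA : (Y.1.map (ιT f j T)).comap (ιT f j T) = Y.1 := comap_map_of_mono Y.1 (ιT f j T)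
    have hsnd : (Y.1.subschemeι ≫ ιT f j T) ≫ pullback.snd f T.hom =
        Y.1.subschemeι ≫ pullback.snd (j ≫ f) T.hom := by
      rw [Category.assoc, ιT_snd]
    have hY'1 : IsProper ((Y.1.map (ιT f j T)).subschemeι ≫ pullback.snd f T.hom) := by
      apply prop_ker_of_closedImmersion (Y.1.subschemeι ≫ ιT f j T) (pullback.snd f T.hom)
        @IsProper
      rw [hsnd]; exact Y.2.1
    have hY'2 : Flat ((Y.1.map (ιT f j T)).subschemeι ≫ pullback.snd f T.hom) := by
      apply prop_ker_of_closedImmersion (Y.1.subschemeι ≫ ιT f j T) (pullback.snd f T.hom)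
        @Flat
      rw [hsnd]; exact Y.2.2
    obtain ⟨g, hg, hguniq⟩ := hH.2 T ⟨Y.1.map (ιT f j T), hY'1, hY'2⟩
    have hg' : Z.1.comap (PicF.XTmap f g) = Y.1.map (ιT f j T) :=
      (hilbPull_eq_comap f g Z.1).symm.trans hg
    have hfac : Set.range g.left ⊆ Set.range (H₀ f j H Z).ι := by
      apply range_subset_H₀ f j H Z g
      intro x hx
      have hx1 : x ∈ Set.range (Z.1.comap (PicF.XTmap f g)).subschemeι := by
        rw [Scheme.IdealSheafData.range_subschemeι, Scheme.IdealSheafData.support_comap]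
        rw [Scheme.IdealSheafData.range_subschemeι] at hx
        exact hx
      rw [hg'] at hx1
      obtain ⟨y, hy⟩ := range_map_subset Y.1 (ιT f j T) hx1
      refine ⟨(pullback.fst (j ≫ f) T.hom) y, ?_⟩
      have e5 : (ιT f j T ≫ pullback.fst f T.hom) y = (pullback.fst (j ≫ f) T.hom ≫ j) y := by
        rw [ιT_fst]
      rw [Scheme.Hom.comp_apply, Scheme.Hom.comp_apply, hy] at e5
      exact e5.symm
    obtain ⟨g₀', hg₀'⟩ : ∃ g₀' : T ⟶ Ho f j H Z, g₀' ≫ incl f j H Z = g :=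
      ⟨Over.homMk (IsOpenImmersion.lift (H₀ f j H Z).ι g.left hfac) (by
        show IsOpenImmersion.lift (H₀ f j H Z).ι g.left hfac ≫ (H₀ f j H Z).ι ≫ H.hom = T.hom
        rw [← Category.assoc, IsOpenImmersion.lift_fac, Over.w]),
       Over.OverMorphism.ext (IsOpenImmersion.lift_fac _ _ _)⟩
    refine ⟨g₀', ?_, ?_⟩
    · show FGA.hilbPull (j ≫ f) g₀' (Z.1.comap (φ f j H Z)) = Y.1
      refine (pull_eq f j H Z g₀').trans ?_
      rw [hg₀', hg', hA]
    · intro g₁ hg₁
      have hg₁' : FGA.hilbPull (j ≫ f) g₁ (Z.1.comap (φ f j H Z)) = Y.1 := hg₁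
      have h1 : (Z.1.comap (PicF.XTmap f (g₁ ≫ incl f j H Z))).comap (ιT f j T) = Y.1 :=
        (pull_eq f j H Z g₁).symm.trans hg₁'
      have hr1 : Set.range (g₁ ≫ incl f j H Z).left ⊆ Set.range (H₀ f j H Z).ι := by
        rintro _ ⟨t, rfl⟩
        exact ⟨g₁.left t, rfl⟩
      have hr2 := range_comap_subset f j H Z (g₁ ≫ incl f j H Z) hr1
      have h2 : ((Z.1.comap (PicF.XTmap f (g₁ ≫ incl f j H Z))).comap (ιT f j T)).map
          (ιT f j T) = Z.1.comap (PicF.XTmap f (g₁ ≫ incl f j H Z)) :=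
        map_comap_of_factors _ (ιT f j T) (IsOpenImmersion.lift (ιT f j T) _ hr2)
          (IsOpenImmersion.lift_fac _ _ _)
      rw [h1] at h2
      have h3 : g₁ ≫ incl f j H Z = g :=
        hguniq _ ((hilbPull_eq_comap f _ Z.1).trans h2.symm)
      have h4 : g₁.left ≫ (H₀ f j H Z).ι = g₀'.left ≫ (H₀ f j H Z).ι :=
        congrArg CommaMorphism.left (h3.trans hg₀'.symm)
      exact Over.OverMorphism.ext ((cancel_mono (H₀ f j H Z).ι).mp h4)

end thm

end Groth.Agent.Lib.Helper40.HilbOpen
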