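import Mathlib
import Groth.Prelude.Def_FGA
import Groth.Agent.Lib.Helper40.HilbOpen

/-!
# Base change of a representing pair for the Hilbert functor
-/

set_option autoImplicit false
universe u
open CategoryTheory CategoryTheory.Limits AlgebraicGeometry

namespace Groth.Agent.Lib.Helper40.HilbBC

open Groth.Agent.Lib.Helper40.HilbOpen

lemma comap_hom_comap_inv {A B : Scheme.{u}} (e : A ≅ B) (J : A.IdealSheafData) :
    (J.comap e.inv).comap e.hom = J := by
  rw [← Scheme.IdealSheafData.comap_comp, e.hom_inv_id, Scheme.IdealSheafData.comap_id]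

lemma eq_comap_inv_of_comap_hom {A B : Scheme.{u}} (e : A ≅ B) (I : B.IdealSheafData)
    (J : A.IdealSheafData) (hIJ : I.comap e.hom = J) : I = J.comap e.inv := by
  subst hIJ
  rw [← Scheme.IdealSheafData.comap_comp, e.inv_hom_id, Scheme.IdealSheafData.comap_id]

variable {X S S' : Scheme.{u}} (f : X ⟶ S) (h : S' ⟶ S) (H : Over S)

/-- The projection `X' ×_{S'} H' ⟶ X ×_S H`. -/
noncomputable abbrev ψ :
    pullback (pullback.snd f h) (pullback.snd H.hom h) ⟶ pullback f H.hom :=
  pullback.map (pullback.snd f h) (pullback.snd H.hom h) f H.hom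
      (pullback.fst f h) (pullback.fst H.hom h) h pullback.condition.symm pullback.condition.symm

/-- `H' = H ×_S S'` over `S'`. -/
noncomputable abbrev H' : Over S' := Over.mk (pullback.snd H.hom h)

/-- An `S'`-scheme viewed over `S`. -/
abbrev dn (T' : Over S') : Over S := Over.mk (T'.hom ≫ h)

/-- `X' ×_{S'} T' ≅ X ×_S T'`. -/
noncomputable abbrev θ (T' : Over S') :
    pullback (pullback.snd f h) T'.hom ≅ pullback f (T'.hom ≫ h) :=
  pullbackLeftPullbackSndIso f h T'.hom

/-- An `S'`-morphism `T' ⟶ H'` gives an `S`-morphism `T' ⟶ H`. -/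
noncomputable def down {T' : Over S'} (g' : T' ⟶ H' h H) : dn h T' ⟶ H :=
  Over.homMk (g'.left ≫ pullback.fst H.hom h) (by
    show (g'.left ≫ pullback.fst H.hom h) ≫ H.hom = T'.hom ≫ h
    rw [Category.assoc, pullback.condition, ← Category.assoc]
    exact congrArg (fun k => k ≫ h) (Over.w g'))

/-- An `S`-morphism `T' ⟶ H` gives an `S'`-morphism `T' ⟶ H'`. -/
noncomputable def up {T' : Over S'} (g : dn h T' ⟶ H) : T' ⟶ H' h H :=
  Over.homMk (pullback.lift g.left T'.hom (Over.w g)) (pullback.lift_snd _ _ _)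

lemma down_up {T' : Over S'} (g : dn h T' ⟶ H) : down h H (up h H g) = g :=
  Over.OverMorphism.ext (pullback.lift_fst _ _ _)

lemma down_injective {T' : Over S'} (g₁ g₂ : T' ⟶ H' h H) (e : down h H g₁ = down h H g₂) :
    g₁ = g₂ := by
  apply Over.OverMorphism.ext
  apply pullback.hom_ext
  · exact congrArg CommaMorphism.left e
  · exact (Over.w g₁).trans (Over.w g₂).symm

lemma sq_bc {T' : Over S'} (g' : T' ⟶ H' h H) :
    PicF.XTmap (pullback.snd f h) g' ≫ ψ f h H =
      (θ f h T').hom ≫ PicF.XTmap f (down h H g') := by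
  apply pullback.hom_ext
  · calc (PicF.XTmap (pullback.snd f h) g' ≫ ψ f h H) ≫ pullback.fst f H.hom
        = PicF.XTmap (pullback.snd f h) g' ≫ (ψ f h H ≫ pullback.fst f H.hom) :=
          Category.assoc _ _ _
      _ = PicF.XTmap (pullback.snd f h) g' ≫
            (pullback.fst (pullback.snd f h) (H' h H).hom ≫ pullback.fst f h) :=
          congrArg (fun k => PicF.XTmap (pullback.snd f h) g' ≫ k) (pullback.lift_fst _ _ _)
      _ = (PicF.XTmap (pullback.snd f h) g' ≫ pullback.fst (pullback.snd f h) (H' h H).hom) ≫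
            pullback.fst f h := (Category.assoc _ _ _).symm
      _ = pullback.fst (pullback.snd f h) T'.hom ≫ pullback.fst f h := by rw [XTmap_fst]
      _ = (θ f h T').hom ≫ pullback.fst f (dn h T').hom :=
          (pullbackLeftPullbackSndIso_hom_fst f h T'.hom).symm
      _ = (θ f h T').hom ≫ (PicF.XTmap f (down h H g') ≫ pullback.fst f H.hom) := by
          rw [XTmap_fst]
      _ = ((θ f h T').hom ≫ PicF.XTmap f (down h H g')) ≫ pullback.fst f H.hom :=
          (Category.assoc _ _ _).symm
  · calc (PicF.XTmap (pullback.snd f h) g' ≫ ψ f h H) ≫ pullback.snd f H.hom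
        = PicF.XTmap (pullback.snd f h) g' ≫ (ψ f h H ≫ pullback.snd f H.hom) :=
          Category.assoc _ _ _
      _ = PicF.XTmap (pullback.snd f h) g' ≫
            (pullback.snd (pullback.snd f h) (H' h H).hom ≫ pullback.fst H.hom h) :=
          congrArg (fun k => PicF.XTmap (pullback.snd f h) g' ≫ k) (pullback.lift_snd _ _ _)
      _ = (PicF.XTmap (pullback.snd f h) g' ≫ pullback.snd (pullback.snd f h) (H' h H).hom) ≫
            pullback.fst H.hom h := (Category.assoc _ _ _).symm
      _ = (pullback.snd (pullback.snd f h) T'.hom ≫ g'.left) ≫ pullback.fst H.hom h := by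
          rw [XTmap_snd]
      _ = pullback.snd (pullback.snd f h) T'.hom ≫ (down h H g').left := Category.assoc _ _ _
      _ = ((θ f h T').hom ≫ pullback.snd f (dn h T').hom) ≫ (down h H g').left :=
          congrArg (fun k => k ≫ (down h H g').left)
            (pullbackLeftPullbackSndIso_hom_snd f h T'.hom).symm
      _ = (θ f h T').hom ≫ (pullback.snd f (dn h T').hom ≫ (down h H g').left) :=
          Category.assoc _ _ _
      _ = (θ f h T').hom ≫ (PicF.XTmap f (down h H g') ≫ pullback.snd f H.hom) := by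
          rw [XTmap_snd]
      _ = ((θ f h T').hom ≫ PicF.XTmap f (down h H g')) ≫ pullback.snd f H.hom :=
          (Category.assoc _ _ _).symm

lemma pull_eq_bc (Z : (pullback f H.hom).IdealSheafData) {T' : Over S'} (g' : T' ⟶ H' h H) :
    FGA.hilbPull (pullback.snd f h) g' (Z.comap (ψ f h H)) =
      (FGA.hilbPull f (down h H g') Z).comap (θ f h T').hom :=
  calc FGA.hilbPull (pullback.snd f h) g' (Z.comap (ψ f h H))
      = (Z.comap (ψ f h H)).comap (PicF.XTmap (pullback.snd f h) g') := hilbPull_eq_comap _ _ _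
    _ = Z.comap (PicF.XTmap (pullback.snd f h) g' ≫ ψ f h H) :=
        (Scheme.IdealSheafData.comap_comp _ _ _).symm
    _ = Z.comap ((θ f h T').hom ≫ PicF.XTmap f (down h H g')) := by rw [sq_bc]
    _ = (Z.comap (PicF.XTmap f (down h H g'))).comap (θ f h T').hom :=
        Scheme.IdealSheafData.comap_comp _ _ _
    _ = _ := by rw [hilbPull_eq_comap]

lemma prop_comap_inv (P : MorphismProperty Scheme.{u}) [P.RespectsIso] {T' : Over S'}
    (Y : (pullback (pullback.snd f h) T'.hom).IdealSheafData)
    (hP : P (Y.subschemeι ≫ pullback.snd (pullback.snd f h) T'.hom)) :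
    P ((Y.comap (θ f h T').inv).subschemeι ≫ pullback.snd f (dn h T').hom) := by
  have hr : Set.range Y.subschemeι ⊆ Set.range (θ f h T').inv := by
    intro x _
    refine ⟨(θ f h T').hom x, ?_⟩
    have e : ((θ f h T').hom ≫ (θ f h T').inv) x = x := by
      rw [(θ f h T').hom_inv_id]; rfl
    rw [Scheme.Hom.comp_apply] at e
    exact e
  have h1 := comap_props_of_factors Y (θ f h T').inv
    (pullback.snd (pullback.snd f h) T'.hom) hr P hP
  have e2 : (θ f h T').inv ≫ pullback.snd (pullback.snd f h) T'.hom =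
      pullback.snd f (dn h T').hom := pullbackLeftPullbackSndIso_inv_snd_snd f h T'.hom
  rw [e2] at h1
  exact h1

theorem main [IsNoetherian S'] (Z : FGA.HilbSet f H) (hH : FGA.HilbRepresentedBy f H Z)
    [LocallyOfFiniteType H.hom]
    (Z' : FGA.HilbSet (pullback.snd f h) (Over.mk (pullback.snd H.hom h)))
    (hZ' : Z'.1 = Z.1.comap (pullback.map (pullback.snd f h) (pullback.snd H.hom h) f H.hom
      (pullback.fst f h) (pullback.fst H.hom h) h pullback.condition.symm
      pullback.condition.symm)) :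
    FGA.HilbRepresentedBy (pullback.snd f h) (Over.mk (pullback.snd H.hom h)) Z' := by
  refine ⟨?_, ?_⟩
  · exact LocallyOfFiniteType.isLocallyNoetherian (pullback.snd H.hom h)
  · intro T' _ Y
    haveI : IsLocallyNoetherian (dn h T').left := ‹IsLocallyNoetherian T'.left›
    have hP1 : IsProper ((Y.1.comap (θ f h T').inv).subschemeι ≫
        pullback.snd f (dn h T').hom) := prop_comap_inv f h @IsProper Y.1 Y.2.1
    have hP2 : Flat ((Y.1.comap (θ f h T').inv).subschemeι ≫
        pullback.snd f (dn h T').hom) := prop_comap_inv f h @Flat Y.1 Y.2.2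
    obtain ⟨g, hg, hguniq⟩ := hH.2 (dn h T') ⟨Y.1.comap (θ f h T').inv, hP1, hP2⟩
    have hg' : FGA.hilbPull f g Z.1 = Y.1.comap (θ f h T').inv := hg
    refine ⟨up h H g, ?_, ?_⟩
    · show FGA.hilbPull (pullback.snd f h) (up h H g) Z'.1 = Y.1
      rw [hZ']
      refine (pull_eq_bc f h H Z.1 (up h H g)).trans ?_
      rw [down_up, hg']
      exact comap_hom_comap_inv _ _
    · intro g₁ hg₁
      have hg₁' : FGA.hilbPull (pullback.snd f h) g₁ Z'.1 = Y.1 := hg₁
      rw [hZ'] at hg₁'
      have h1 : (FGA.hilbPull f (down h H g₁) Z.1).comap (θ f h T').hom = Y.1 :=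
        (pull_eq_bc f h H Z.1 g₁).symm.trans hg₁'
      have h2 : FGA.hilbPull f (down h H g₁) Z.1 = Y.1.comap (θ f h T').inv :=
        eq_comap_inv_of_comap_hom _ _ _ h1
      have h3 : down h H g₁ = g := hguniq _ h2
      exact down_injective h H g₁ (up h H g) (h3.trans (down_up h H g).symm)

end Groth.Agent.Lib.Helper40.HilbBC
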