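import Mathlib
import Groth.Prelude.Def_HilbD

/-!
# `Hilb^1_{X/S} = X` for a separated morphism

Closed subschemes of `X_T` that are finite locally free of degree `1` over `T` are exactly the
graphs of `S`-morphisms `T ⟶ X`, and the graph of `x` is the base change of the diagonal along
`X_T ⟶ X ×_S X`.
-/

set_option autoImplicit false
universe u
open CategoryTheory CategoryTheory.Limits AlgebraicGeometry

namespace Groth.Agent.Lib.Helper40.HilbOne

variable {X S : Scheme.{u}} (f : X ⟶ S)

/-- The graph `(x, id) : T ⟶ X ×_S T`. -/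
noncomputable abbrev gr (T : Over S) (x : T.left ⟶ X) (hx : x ≫ f = T.hom) :
    T.left ⟶ PicF.XT f T :=
  pullback.lift x (𝟙 T.left) (by simpa using hx)

lemma secGraph_eq (T : Over S) (x : T.left ⟶ X) (hx : x ≫ f = T.hom) :
    HilbD.secGraph f T x hx = (gr f T x hx).ker := rfl

lemma gr_fst (T : Over S) (x : T.left ⟶ X) (hx : x ≫ f = T.hom) :
    gr f T x hx ≫ pullback.fst f T.hom = x := pullback.lift_fst _ _ _

lemma gr_snd (T : Over S) (x : T.left ⟶ X) (hx : x ≫ f = T.hom) :
    gr f T x hx ≫ pullback.snd f T.hom = 𝟙 T.left := pullback.lift_snd _ _ _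

lemma XTmap_fst {T T' : Over S} (g : T' ⟶ T) :
    PicF.XTmap f g ≫ pullback.fst f T.hom = pullback.fst f T'.hom := by
  unfold PicF.XTmap
  exact (pullback.lift_fst _ _ _).trans (Category.comp_id _)

lemma XTmap_snd {T T' : Over S} (g : T' ⟶ T) :
    PicF.XTmap f g ≫ pullback.snd f T.hom = pullback.snd f T'.hom ≫ g.left := by
  unfold PicF.XTmap
  exact pullback.lift_snd _ _ _

/-- The diagonal as a map `X ⟶ X ×_S X = X_{X}`. -/
noncomputable abbrev diag : X ⟶ PicF.XT f (Over.mk f) :=
  gr f (Over.mk f) (𝟙 X) (Category.id_comp f)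

lemma diag_fst : diag f ≫ pullback.fst f f = 𝟙 X := pullback.lift_fst _ _ _
lemma diag_snd : diag f ≫ pullback.snd f f = 𝟙 X := pullback.lift_snd _ _ _

instance [IsSeparated f] : IsClosedImmersion (diag f) :=
  show IsClosedImmersion (pullback.diagonal f) from inferInstance

/-- The graph of `x` is the base change of the diagonal along `X_T ⟶ X ×_S X`. -/
lemma isPullback_gr (T : Over S) (x : T.left ⟶ X) (hx : x ≫ f = T.hom) :
    IsPullback x (gr f T x hx) (diag f)
      (PicF.XTmap f (Over.homMk x hx : T ⟶ Over.mk f)) := by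
  have hfst : PicF.XTmap f (Over.homMk x hx : T ⟶ Over.mk f) ≫ pullback.fst f f =
      pullback.fst f T.hom := XTmap_fst f _
  have hsnd : PicF.XTmap f (Over.homMk x hx : T ⟶ Over.mk f) ≫ pullback.snd f f =
      pullback.snd f T.hom ≫ x := XTmap_snd f _
  have w : x ≫ diag f = gr f T x hx ≫ PicF.XTmap f (Over.homMk x hx : T ⟶ Over.mk f) := by
    apply pullback.hom_ext
    · calc (x ≫ diag f) ≫ pullback.fst f f = x ≫ (diag f ≫ pullback.fst f f) :=
            Category.assoc _ _ _
        _ = x := by rw [diag_fst, Category.comp_id]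
        _ = gr f T x hx ≫ pullback.fst f T.hom := (gr_fst f T x hx).symm
        _ = gr f T x hx ≫ (PicF.XTmap f (Over.homMk x hx : T ⟶ Over.mk f) ≫
              pullback.fst f f) := by rw [hfst]
        _ = _ := (Category.assoc _ _ _).symm
    · calc (x ≫ diag f) ≫ pullback.snd f f = x ≫ (diag f ≫ pullback.snd f f) :=
            Category.assoc _ _ _
        _ = x := by rw [diag_snd, Category.comp_id]
        _ = (gr f T x hx ≫ pullback.snd f T.hom) ≫ x := by rw [gr_snd, Category.id_comp]
        _ = gr f T x hx ≫ (PicF.XTmap f (Over.homMk x hx : T ⟶ Over.mk f) ≫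
              pullback.snd f f) := by rw [hsnd, Category.assoc]
        _ = _ := (Category.assoc _ _ _).symm
  suffices hlim : IsLimit (PullbackCone.mk x (gr f T x hx) w) from IsPullback.of_isLimit hlim
  refine PullbackCone.IsLimit.mk w (fun s => s.snd ≫ pullback.snd f T.hom) ?_ ?_ ?_
  · intro s
    -- (s.snd ≫ snd) ≫ x = s.fst
    have hc : s.fst ≫ diag f = s.snd ≫ PicF.XTmap f (Over.homMk x hx : T ⟶ Over.mk f) :=
      s.condition
    calc (s.snd ≫ pullback.snd f T.hom) ≫ x
        = s.snd ≫ (pullback.snd f T.hom ≫ x) := Category.assoc _ _ _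
      _ = s.snd ≫ (PicF.XTmap f (Over.homMk x hx : T ⟶ Over.mk f) ≫ pullback.snd f f) := by
          rw [hsnd]
      _ = (s.snd ≫ PicF.XTmap f (Over.homMk x hx : T ⟶ Over.mk f)) ≫ pullback.snd f f :=
          (Category.assoc _ _ _).symm
      _ = (s.fst ≫ diag f) ≫ pullback.snd f f := by rw [hc]
      _ = s.fst ≫ (diag f ≫ pullback.snd f f) := Category.assoc _ _ _
      _ = s.fst := by rw [diag_snd, Category.comp_id]
  · intro s
    have hc : s.fst ≫ diag f = s.snd ≫ PicF.XTmap f (Over.homMk x hx : T ⟶ Over.mk f) :=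
      s.condition
    have h1 : (s.snd ≫ pullback.snd f T.hom) ≫ x = s.fst := by
      calc (s.snd ≫ pullback.snd f T.hom) ≫ x
          = s.snd ≫ (pullback.snd f T.hom ≫ x) := Category.assoc _ _ _
        _ = s.snd ≫ (PicF.XTmap f (Over.homMk x hx : T ⟶ Over.mk f) ≫ pullback.snd f f) := by
            rw [hsnd]
        _ = (s.snd ≫ PicF.XTmap f (Over.homMk x hx : T ⟶ Over.mk f)) ≫ pullback.snd f f :=
            (Category.assoc _ _ _).symm
        _ = (s.fst ≫ diag f) ≫ pullback.snd f f := by rw [hc]
        _ = s.fst ≫ (diag f ≫ pullback.snd f f) := Category.assoc _ _ _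
        _ = s.fst := by rw [diag_snd, Category.comp_id]
    have h2 : s.snd ≫ pullback.fst f T.hom = s.fst := by
      calc s.snd ≫ pullback.fst f T.hom
          = s.snd ≫ (PicF.XTmap f (Over.homMk x hx : T ⟶ Over.mk f) ≫ pullback.fst f f) := by
            rw [hfst]
        _ = (s.snd ≫ PicF.XTmap f (Over.homMk x hx : T ⟶ Over.mk f)) ≫ pullback.fst f f :=
            (Category.assoc _ _ _).symm
        _ = (s.fst ≫ diag f) ≫ pullback.fst f f := by rw [hc]
        _ = s.fst ≫ (diag f ≫ pullback.fst f f) := Category.assoc _ _ _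
        _ = s.fst := by rw [diag_fst, Category.comp_id]
    apply pullback.hom_ext
    · calc ((s.snd ≫ pullback.snd f T.hom) ≫ gr f T x hx) ≫ pullback.fst f T.hom
          = (s.snd ≫ pullback.snd f T.hom) ≫ (gr f T x hx ≫ pullback.fst f T.hom) :=
            Category.assoc _ _ _
        _ = (s.snd ≫ pullback.snd f T.hom) ≫ x := by rw [gr_fst]
        _ = s.fst := h1
        _ = s.snd ≫ pullback.fst f T.hom := h2.symm
    · calc ((s.snd ≫ pullback.snd f T.hom) ≫ gr f T x hx) ≫ pullback.snd f T.hom
          = (s.snd ≫ pullback.snd f T.hom) ≫ (gr f T x hx ≫ pullback.snd f T.hom) :=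
            Category.assoc _ _ _
        _ = s.snd ≫ pullback.snd f T.hom := by rw [gr_snd, Category.comp_id]
  · intro s m _ hm
    calc m = m ≫ (gr f T x hx ≫ pullback.snd f T.hom) := by rw [gr_snd, Category.comp_id]
      _ = (m ≫ gr f T x hx) ≫ pullback.snd f T.hom := (Category.assoc _ _ _).symm
      _ = s.snd ≫ pullback.snd f T.hom := by rw [hm]

variable [IsSeparated f]

lemma isClosedImmersion_gr (T : Over S) (x : T.left ⟶ X) (hx : x ≫ f = T.hom) :
    IsClosedImmersion (gr f T x hx) :=
  MorphismProperty.of_isPullback (P := @IsClosedImmersion) (isPullback_gr f T x hx) inferInstance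

/-- Base change of the diagonal subscheme along `g : T ⟶ X` is the graph of `g`. -/
lemma pull_diag (T : Over S) (g : T ⟶ Over.mk f) :
    HilbD.pull f g (HilbD.secGraph f (Over.mk f) (𝟙 X) (Category.id_comp f)) =
      HilbD.secGraph f T g.left (Over.w g) := by
  have hg : g = (Over.homMk g.left (Over.w g) : T ⟶ Over.mk f) := by
    apply Over.OverMorphism.ext; rfl
  have h0 := isPullback_gr f T g.left (Over.w g)
  rw [← hg] at h0
  -- replace the diagonal by its image subscheme
  have h1 : IsPullback (g.left ≫ (diag f).toImage) (gr f T g.left (Over.w g))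
      (diag f).imageι (PicF.XTmap f g) :=
    IsPullback.of_iso h0 (Iso.refl _) (asIso (diag f).toImage) (Iso.refl _) (Iso.refl _)
      (by simp) (by simp) (by simp) (by simp)
  have h2 : h1.isoPullback.hom ≫ pullback.snd (diag f).imageι (PicF.XTmap f g) =
      gr f T g.left (Over.w g) := h1.isoPullback_hom_snd
  calc HilbD.pull f g (HilbD.secGraph f (Over.mk f) (𝟙 X) (Category.id_comp f))
      = (pullback.snd (diag f).imageι (PicF.XTmap f g)).ker := rfl
    _ = (h1.isoPullback.hom ≫ pullback.snd (diag f).imageι (PicF.XTmap f g)).ker :=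
        (Scheme.Hom.ker_comp_of_isIso _ _).symm
    _ = (gr f T g.left (Over.w g)).ker := by rw [h2]
    _ = HilbD.secGraph f T g.left (Over.w g) := rfl

/-- Graphs with the same ideal sheaf are equal. -/
lemma gr_injective (T : Over S) (x y : T.left ⟶ X) (hx : x ≫ f = T.hom) (hy : y ≫ f = T.hom)
    (h : HilbD.secGraph f T x hx = HilbD.secGraph f T y hy) : x = y := by
  haveI := isClosedImmersion_gr f T y hy
  have hle : (gr f T y hy).ker ≤ (gr f T x hx).ker := by
    rw [← secGraph_eq, ← secGraph_eq, h]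
  have hfac : IsClosedImmersion.lift (gr f T y hy) (gr f T x hx) hle ≫ gr f T y hy =
      gr f T x hx := IsClosedImmersion.lift_fac _ _ _
  have he : IsClosedImmersion.lift (gr f T y hy) (gr f T x hx) hle = 𝟙 _ := by
    calc IsClosedImmersion.lift (gr f T y hy) (gr f T x hx) hle
        = IsClosedImmersion.lift (gr f T y hy) (gr f T x hx) hle ≫
            (gr f T y hy ≫ pullback.snd f T.hom) := by rw [gr_snd, Category.comp_id]
      _ = (IsClosedImmersion.lift (gr f T y hy) (gr f T x hx) hle ≫ gr f T y hy) ≫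
            pullback.snd f T.hom := (Category.assoc _ _ _).symm
      _ = gr f T x hx ≫ pullback.snd f T.hom := by rw [hfac]
      _ = 𝟙 _ := gr_snd f T x hx
  have hgr : gr f T y hy = gr f T x hx := by
    rw [← hfac, he, Category.id_comp]
  calc x = gr f T x hx ≫ pullback.fst f T.hom := (gr_fst f T x hx).symm
    _ = gr f T y hy ≫ pullback.fst f T.hom := by rw [hgr]
    _ = y := gr_fst f T y hy

omit [IsSeparated f] in
/-- Every closed subscheme of `X_T` finite locally free of degree `1` over `T` is a graph. -/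
lemma exists_gr (T : Over S) (Z : HilbD.Obj f 1 T) :
    ∃ (x : T.left ⟶ X) (hx : x ≫ f = T.hom), Z.1 = HilbD.secGraph f T x hx := by
  obtain ⟨I, ⟨⟨hfin, hflat, hlfp⟩, hrk⟩⟩ := Z
  haveI := hfin; haveI := hflat; haveI := hlfp
  set p : I.subscheme ⟶ T.left := I.subschemeι ≫ PicF.XTproj f T with hp
  haveI : IsIso p := (Scheme.Hom.isIso_iff_finrank_eq (f := p)).mpr (funext hrk)
  have hps : I.subschemeι ≫ pullback.snd f T.hom = p := rfl
  let s : T.left ⟶ PicF.XT f T := inv p ≫ I.subschemeι
  have hs_snd : s ≫ pullback.snd f T.hom = 𝟙 _ := by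
    calc s ≫ pullback.snd f T.hom = inv p ≫ (I.subschemeι ≫ pullback.snd f T.hom) :=
          Category.assoc _ _ _
      _ = inv p ≫ p := by rw [hps]
      _ = 𝟙 _ := IsIso.inv_hom_id p
  have hx : (s ≫ pullback.fst f T.hom) ≫ f = T.hom := by
    calc (s ≫ pullback.fst f T.hom) ≫ f = s ≫ (pullback.fst f T.hom ≫ f) := Category.assoc _ _ _
      _ = s ≫ (pullback.snd f T.hom ≫ T.hom) := by rw [pullback.condition]
      _ = (s ≫ pullback.snd f T.hom) ≫ T.hom := (Category.assoc _ _ _).symm
      _ = T.hom := by rw [hs_snd, Category.id_comp]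
  refine ⟨s ≫ pullback.fst f T.hom, hx, ?_⟩
  have hsg : s = gr f T (s ≫ pullback.fst f T.hom) hx := by
    apply pullback.hom_ext
    · exact (gr_fst f T _ hx).symm
    · exact hs_snd.trans (gr_snd f T _ hx).symm
  have hpi : p ≫ s = I.subschemeι := by
    calc p ≫ s = (p ≫ inv p) ≫ I.subschemeι := (Category.assoc _ _ _).symm
      _ = I.subschemeι := by rw [IsIso.hom_inv_id, Category.id_comp]
  calc I = I.subschemeι.ker := I.ker_subschemeι.symm
    _ = (p ≫ s).ker := by rw [hpi]
    _ = s.ker := Scheme.Hom.ker_comp_of_isIso p s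
    _ = (gr f T (s ≫ pullback.fst f T.hom) hx).ker := by rw [← hsg]
    _ = HilbD.secGraph f T (s ≫ pullback.fst f T.hom) hx := rfl

/-- The diagonal subscheme is finite locally free of degree `1` over `X` (second projection). -/
lemma diag_isFinLocFreeOfDeg :
    Mor2.IsFinLocFreeOfDeg 1
      ((HilbD.secGraph f (Over.mk f) (𝟙 X) (Category.id_comp f)).subschemeι ≫
        PicF.XTproj f (Over.mk f)) := by
  have h1 : (diag f).toImage ≫ ((diag f).imageι ≫ pullback.snd f f) = 𝟙 X := by
    calc (diag f).toImage ≫ ((diag f).imageι ≫ pullback.snd f f)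
        = ((diag f).toImage ≫ (diag f).imageι) ≫ pullback.snd f f := (Category.assoc _ _ _).symm
      _ = diag f ≫ pullback.snd f f := by rw [Scheme.Hom.toImage_imageι]
      _ = 𝟙 X := diag_snd f
  haveI : IsIso ((diag f).toImage ≫ ((diag f).imageι ≫ pullback.snd f f)) := by
    rw [h1]; infer_instance
  haveI : IsIso ((diag f).imageι ≫ pullback.snd f f) :=
    IsIso.of_isIso_comp_left (diag f).toImage _
  show Mor2.IsFinLocFreeOfDeg 1 ((diag f).imageι ≫ pullback.snd f f)
  exact ⟨⟨inferInstance, inferInstance, inferInstance⟩,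
    fun y => congrFun (Scheme.Hom.finrank_eq_one_of_isIso _) y⟩

end Groth.Agent.Lib.Helper40.HilbOne
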