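import Mathlib
import Groth.Prelude.Def_NonAbH2
import Groth.Prelude.Def_ChGrp
import Groth.Agent.Lib.Helper40.TorsorExact2

/-!
# The kernel of the action of `G` on `G/H` is the core of `H`
-/

set_option autoImplicit false
set_option linter.unusedSectionVars false
open CategoryTheory CategoryTheory.Limits AlgebraicGeometry MonoidalCategory
open CartesianMonoidalCategory MonObj
universe u

namespace Groth.Agent.Lib.Helper40.HomogCore

open Groth.Agent.Lib.Helper40.ActPts Groth.Agent.Lib.Helper40.TorsorTriv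
open Groth.Agent.Lib.Helper40.FpqcCov Groth.Agent.Lib.Helper40.TorsorPush
open Groth.Agent.Lib.Helper40.TorsorExact

variable {S : Scheme.{u}} {G H Q : Over S} [GrpObj G] [GrpObj H] (i : H ⟶ G)
  (aQ : AlgGrp.Action G Q) (q₀ : 𝟙_ (Over S) ⟶ Q)

theorem orbit_pts {T : Over S} (g : T ⟶ G) :
    g ≫ aQ.orbitMap q₀ = smul aQ g (toUnit T ≫ q₀) := comp_orbitMap aQ q₀ g

theorem orbit_mul {T : Over S} (g h : T ⟶ G) :
    (g * h) ≫ aQ.orbitMap q₀ = smul aQ g (h ≫ aQ.orbitMap q₀) := by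
  rw [orbit_pts, ActPts.mul_smul, ← orbit_pts]

theorem orbit_one {T : Over S} : (1 : T ⟶ G) ≫ aQ.orbitMap q₀ = toUnit T ≫ q₀ := by
  rw [orbit_pts, ActPts.one_smul]

theorem exists_of_comp_eq' {X : Over S} (v : G ⟶ X)
    (hsq : IsPullback (fst G H) ((G ◁ i) ≫ μ[G]) v v) {T : Over S}
    (g1 g2 : T ⟶ G) (h : g1 ≫ v = g2 ≫ v) : ∃ g' : T ⟶ H, g1 * (g' ≫ i) = g2 := by
  refine ⟨hsq.lift g1 g2 h ≫ snd G H, ?_⟩
  have h1 := hsq.lift_fst g1 g2 h
  have h2 := hsq.lift_snd g1 g2 h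
  have e : hsq.lift g1 g2 h = lift g1 (hsq.lift g1 g2 h ≫ snd G H) := by
    apply CartesianMonoidalCategory.hom_ext
    · rw [h1, lift_fst]
    · rw [lift_snd]
  rw [e, lift_comp_rtrans] at h2
  exact h2

theorem stab_pts
    (hsq : IsPullback (fst G H) ((G ◁ i) ≫ μ[G]) (aQ.orbitMap q₀) (aQ.orbitMap q₀))
    {T : Over S} (h : T ⟶ H) : (h ≫ i) ≫ aQ.orbitMap q₀ = toUnit T ≫ q₀ := by
  have := congrArg (fun k => lift (1 : T ⟶ G) h ≫ k) hsq.w
  rw [← Category.assoc, lift_fst, ← Category.assoc, lift_comp_rtrans, _root_.one_mul,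
    orbit_one] at this
  exact this.symm

variable {N : Over S} [GrpObj N] (n : N ⟶ G)
  (hN : ∀ (T : Over S) (g : T ⟶ G),
      (∃ g' : T ⟶ N, g' ≫ n = g) ↔
        ∀ (T' : Over S) (v : T' ⟶ T) (q : T' ⟶ Q), lift (v ≫ g) q ≫ aQ.act = q)

include hN in
theorem isNormalHom_kernel : AlgGrp.IsNormalHom n := by
  intro T g x
  obtain ⟨x', hx'⟩ := (hN T (g * (x ≫ n) * g⁻¹)).mpr (by
    intro T' v q
    have h1 := (hN T (x ≫ n)).mp ⟨x, rfl⟩ T' v (smul aQ (v ≫ g)⁻¹ q)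
    rw [← smul_def] at h1 ⊢
    rw [MonObj.comp_mul, MonObj.comp_mul, GrpObj.comp_inv, ActPts.mul_smul, ActPts.mul_smul, h1,
      ← ActPts.mul_smul, mul_inv_cancel, ActPts.one_smul])
  exact ⟨x', hx'.symm⟩

include hN in
theorem kernel_le
    (hsq : IsPullback (fst G H) ((G ◁ i) ≫ μ[G]) (aQ.orbitMap q₀) (aQ.orbitMap q₀)) :
    ∃ m : N ⟶ H, m ≫ i = n := by
  have h1 : n ≫ aQ.orbitMap q₀ = toUnit N ≫ q₀ := by
    rw [orbit_pts]
    have := (hN N n).mp ⟨𝟙 N, Category.id_comp _⟩ N (𝟙 N) (toUnit N ≫ q₀)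
    rw [Category.id_comp, ← smul_def] at this
    exact this
  have h2 : (1 : N ⟶ G) ≫ aQ.orbitMap q₀ = n ≫ aQ.orbitMap q₀ := by rw [h1, orbit_one]
  obtain ⟨m, hm⟩ := exists_of_comp_eq' i (aQ.orbitMap q₀) hsq _ _ h2
  rw [_root_.one_mul] at hm
  exact ⟨m, hm⟩

include hN in
theorem le_kernel
    (hsq : IsPullback (fst G H) ((G ◁ i) ≫ μ[G]) (aQ.orbitMap q₀) (aQ.orbitMap q₀))
    (hcov : IsCov (aQ.orbitMap q₀).left)
    {N' : Over S} [GrpObj N'] (n' : N' ⟶ G) (hnorm : AlgGrp.IsNormalHom n')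
    (m' : N' ⟶ H) (hm' : m' ≫ i = n') : ∃ r : N' ⟶ N, r ≫ n = n' := by
  apply (hN N' n').mpr
  intro T' v q
  rw [← smul_def]
  set π := aQ.orbitMap q₀ with hπ
  let W : Over S := pullback q π
  let e : W ⟶ T' := pullback.fst q π
  let gam : W ⟶ G := pullback.snd q π
  have hcove : IsCov e.left := isCov_left_of_isPullback hcov (IsPullback.of_hasPullback q π)
  have hepi : Epi e := epi_of_isCov_left hcove
  have hq : e ≫ q = gam ≫ π := pullback.condition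
  rw [← cancel_epi e, comp_smul, hq]
  obtain ⟨x'', hx''⟩ := hnorm W gam⁻¹ (e ≫ v)
  rw [inv_inv] at hx''
  have h1 : (e ≫ v ≫ n') * gam = gam * (x'' ≫ n') := by
    rw [← hx'']
    simp only [Category.assoc]
    group
  have h2 : (x'' ≫ n') ≫ π = toUnit W ≫ q₀ := by
    rw [← hm', ← Category.assoc]
    exact stab_pts i aQ q₀ hsq _
  rw [← orbit_mul, h1, orbit_mul, h2, ← orbit_pts]

end Groth.Agent.Lib.Helper40.HomogCore
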