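import Groth.Agent.Lib.Helper40.ActPts
import Groth.Prelude.Def_W4bk4git07Quot

/-!
# Point calculus for a trivialised bundle

`a : Action G P`, `π : P ⟶ X`, `T` an `S₀`-scheme with `ψ : T.left ⟶ X.left` and a lift `s : T ⟶ P`
such that `(t, g) ↦ g • s t` exhibits `T ⊗ G` as `T ×_X P` (square `hsq`).  Then for `B`-points
lying over `T`: every point of `P` is `h • s v` for a unique `h`, and `(g, p) ↦ (g • p, p)` is
bijective onto pairs of points of `P` over the same point of `X`.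
-/

set_option autoImplicit false
universe u
open CategoryTheory MonoidalCategory CartesianMonoidalCategory MonObj GrpObj AlgebraicGeometry
open CategoryTheory.Limits

namespace Groth.Agent.Lib.Helper40.IsoTriv

open Groth.Agent.Lib.Helper40.ActPts

variable {S₀ : Scheme.{u}} {G P X T : Over S₀} [GrpObj G] (a : AlgGrp.Action G P) (π : P ⟶ X)
  (ψ : T.left ⟶ X.left) (s : T ⟶ P)
  (hsq : IsPullback (fst T G).left (lift (snd T G) (fst T G ≫ s) ≫ a.act).left ψ π.left)

theorem comp_theta {B : Over S₀} (w : B ⟶ T ⊗ G) :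
    w ≫ lift (snd T G) (fst T G ≫ s) ≫ a.act = smul a (w ≫ snd T G) ((w ≫ fst T G) ≫ s) := by
  rw [smul_def, ← Category.assoc, comp_lift, Category.assoc]

include hsq in
theorem exists_smul_eq {B : Over S₀} (v : B ⟶ T) (p : B ⟶ P)
    (hp : p.left ≫ π.left = v.left ≫ ψ) : ∃ h : B ⟶ G, p = smul a h (v ≫ s) := by
  let w₀ : B.left ⟶ (T ⊗ G).left := hsq.lift v.left p.left hp.symm
  have hw₀1 : w₀ ≫ (fst T G).left = v.left := hsq.lift_fst _ _ _
  have hw₀2 : w₀ ≫ (lift (snd T G) (fst T G ≫ s) ≫ a.act).left = p.left := hsq.lift_snd _ _ _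
  let w : B ⟶ T ⊗ G := Over.homMk w₀ (by
    rw [← Over.w (fst T G), ← Category.assoc, hw₀1, Over.w v])
  have hw1 : w ≫ fst T G = v := by
    ext
    exact hw₀1
  have hw2 : w ≫ lift (snd T G) (fst T G ≫ s) ≫ a.act = p := by
    ext
    exact hw₀2
  refine ⟨w ≫ snd T G, ?_⟩
  rw [← hw2, comp_theta, hw1]

include hsq in
theorem smul_cancel {B : Over S₀} (v : B ⟶ T) (h h' : B ⟶ G)
    (e : smul a h (v ≫ s) = smul a h' (v ≫ s)) : h = h' := by
  have e1 : lift v h ≫ lift (snd T G) (fst T G ≫ s) ≫ a.act =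
      lift v h' ≫ lift (snd T G) (fst T G ≫ s) ≫ a.act := by
    rw [comp_theta, comp_theta, lift_fst, lift_snd, lift_fst, lift_snd, e]
  have e2 : (lift v h).left = (lift v h').left := by
    apply hsq.hom_ext
    · rw [← Over.comp_left, ← Over.comp_left, lift_fst, lift_fst]
    · rw [← Over.comp_left, ← Over.comp_left, e1]
  have e3 : lift v h = lift v h' := Over.OverMorphism.ext e2
  have := congrArg (fun k => k ≫ snd T G) e3
  simpa using this

include hsq in
/-- Existence of a lift along `(g, p) ↦ (g • p, p)`. -/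
theorem exists_lift {B : Over S₀} (v : B ⟶ T) (p₁ p₂ : B ⟶ P)
    (h1 : p₁.left ≫ π.left = v.left ≫ ψ) (h2 : p₂.left ≫ π.left = v.left ≫ ψ) :
    ∃ l : B ⟶ G ⊗ P, l ≫ a.act = p₁ ∧ l ≫ snd G P = p₂ := by
  obtain ⟨g₁, e₁⟩ := exists_smul_eq a π ψ s hsq v p₁ h1
  obtain ⟨g₂, e₂⟩ := exists_smul_eq a π ψ s hsq v p₂ h2
  refine ⟨lift (g₁ * g₂⁻¹) p₂, ?_, lift_snd _ _⟩
  change smul a (g₁ * g₂⁻¹) p₂ = p₁
  rw [e₂, ← ActPts.mul_smul, inv_mul_cancel_right, ← e₁]

include hsq in
/-- Uniqueness of lifts along `(g, p) ↦ (g • p, p)`. -/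
theorem lift_unique {B : Over S₀} (v : B ⟶ T) (α β : B ⟶ G ⊗ P)
    (e1 : α ≫ a.act = β ≫ a.act) (e2 : α ≫ snd G P = β ≫ snd G P)
    (hp : (α ≫ snd G P).left ≫ π.left = v.left ≫ ψ) : α = β := by
  obtain ⟨h, eh⟩ := exists_smul_eq a π ψ s hsq v (α ≫ snd G P) hp
  have hα : α = lift (α ≫ fst G P) (α ≫ snd G P) := by
    apply CartesianMonoidalCategory.hom_ext <;> simp
  have hβ : β = lift (β ≫ fst G P) (α ≫ snd G P) := by
    apply CartesianMonoidalCategory.hom_ext
    · simp
    · simp [e2]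
  have e3 : smul a (α ≫ fst G P) (α ≫ snd G P) = smul a (β ≫ fst G P) (α ≫ snd G P) := by
    rw [smul_def, smul_def, ← hα, ← hβ, e1]
  rw [eh, ← ActPts.mul_smul, ← ActPts.mul_smul] at e3
  have e4 := smul_cancel a π ψ s hsq v _ _ e3
  have e5 : α ≫ fst G P = β ≫ fst G P := mul_right_cancel e4
  rw [hα, hβ, e5]


theorem psiY_fst (hinv : GIT.IsInvariant a π) :
    GIT.PsiY a π hinv ≫ pullback.fst π.left π.left = a.act.left := by
  unfold GIT.PsiY
  exact pullback.lift_fst _ _ _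

theorem psiY_snd (hinv : GIT.IsInvariant a π) :
    GIT.PsiY a π hinv ≫ pullback.snd π.left π.left = (snd G P).left := by
  unfold GIT.PsiY
  exact pullback.lift_snd _ _ _

include hsq in
/-- After base change along `ψ`, the map `(g, p) ↦ (g • p, p)` to `P ×_X P` becomes an
isomorphism. -/
theorem isIso_snd_psiY (hinv : GIT.IsInvariant a π) (hT : ψ ≫ X.hom = T.hom) :
    IsIso (pullback.snd (GIT.PsiY a π hinv)
      (pullback.fst (pullback.fst π.left π.left ≫ π.left) ψ)) := by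
  -- abbreviations
  let q : pullback π.left π.left ⟶ X.left := pullback.fst π.left π.left ≫ π.left
  let gx : pullback q ψ ⟶ pullback π.left π.left := pullback.fst q ψ
  let vx : pullback q ψ ⟶ T.left := pullback.snd q ψ
  have hcond : gx ≫ q = vx ≫ ψ := pullback.condition
  have hq2 : q = pullback.snd π.left π.left ≫ π.left := pullback.condition
  -- the `Over` structures
  let Sx : Over S₀ := Over.mk (vx ≫ T.hom)
  let v : Sx ⟶ T := Over.homMk vx rfl
  let p₁ : Sx ⟶ P := Over.homMk (gx ≫ pullback.fst π.left π.left) (by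
    change (gx ≫ pullback.fst π.left π.left) ≫ P.hom = vx ≫ T.hom
    rw [← Over.w π, ← hT, Category.assoc, ← Category.assoc (pullback.fst π.left π.left),
      ← Category.assoc gx, hcond, Category.assoc])
  let p₂ : Sx ⟶ P := Over.homMk (gx ≫ pullback.snd π.left π.left) (by
    change (gx ≫ pullback.snd π.left π.left) ≫ P.hom = vx ≫ T.hom
    rw [← Over.w π, ← hT, Category.assoc, ← Category.assoc (pullback.snd π.left π.left),
      ← hq2, ← Category.assoc gx, hcond, Category.assoc])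
  have h1 : p₁.left ≫ π.left = v.left ≫ ψ := by
    change (gx ≫ pullback.fst π.left π.left) ≫ π.left = vx ≫ ψ
    rw [Category.assoc, ← hcond]
  have h2 : p₂.left ≫ π.left = v.left ≫ ψ := by
    change (gx ≫ pullback.snd π.left π.left) ≫ π.left = vx ≫ ψ
    rw [Category.assoc, ← hq2, ← hcond]
  obtain ⟨l, hl1, hl2⟩ := exists_lift a π ψ s hsq v p₁ p₂ h1 h2
  have hl : l.left ≫ GIT.PsiY a π hinv = gx := by
    apply pullback.hom_ext
    · rw [Category.assoc, psiY_fst, ← Over.comp_left, hl1]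
      rfl
    · rw [Category.assoc, psiY_snd, ← Over.comp_left, hl2]
      rfl
  -- the inverse
  let b₁ := pullback.fst (GIT.PsiY a π hinv) gx
  let b₂ := pullback.snd (GIT.PsiY a π hinv) gx
  have hb : b₁ ≫ GIT.PsiY a π hinv = b₂ ≫ gx := pullback.condition
  let j : pullback q ψ ⟶ pullback (GIT.PsiY a π hinv) gx :=
    pullback.lift l.left (𝟙 _) (by rw [hl, Category.id_comp])
  have hj2 : j ≫ b₂ = 𝟙 _ := pullback.lift_snd _ _ _
  have hj1 : j ≫ b₁ = l.left := pullback.lift_fst _ _ _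
  -- uniqueness
  let Bx : Over S₀ := Over.mk (b₂ ≫ Sx.hom)
  let β₂ : Bx ⟶ Sx := Over.homMk b₂ rfl
  have hb1snd : b₁ ≫ (snd G P).left = b₂ ≫ p₂.left := by
    change b₁ ≫ (snd G P).left = b₂ ≫ gx ≫ pullback.snd π.left π.left
    rw [← psiY_snd a π hinv, ← Category.assoc, hb, Category.assoc]
  have hb1act : b₁ ≫ a.act.left = b₂ ≫ p₁.left := by
    change b₁ ≫ a.act.left = b₂ ≫ gx ≫ pullback.fst π.left π.left
    rw [← psiY_fst a π hinv, ← Category.assoc, hb, Category.assoc]
  let β : Bx ⟶ G ⊗ P := Over.homMk b₁ (by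
    change b₁ ≫ (G ⊗ P).hom = b₂ ≫ Sx.hom
    rw [← Over.w (snd G P), ← Category.assoc, hb1snd, Category.assoc, Over.w p₂])
  have hαβ : β₂ ≫ l = β := by
    apply lift_unique a π ψ s hsq (β₂ ≫ v)
    · apply Over.OverMorphism.ext
      rw [Category.assoc, hl1]
      change b₂ ≫ p₁.left = b₁ ≫ a.act.left
      exact hb1act.symm
    · apply Over.OverMorphism.ext
      rw [Category.assoc, hl2]
      change b₂ ≫ p₂.left = b₁ ≫ (snd G P).left
      exact hb1snd.symm
    · rw [Category.assoc, hl2]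
      change (b₂ ≫ p₂.left) ≫ π.left = (b₂ ≫ vx) ≫ ψ
      rw [Category.assoc, h2, Category.assoc]
      rfl
  refine ⟨j, ?_, hj2⟩
  apply pullback.hom_ext
  · rw [Category.assoc, Category.id_comp, hj1]
    exact congrArg (fun k => k.left) hαβ
  · rw [Category.assoc, hj2, Category.id_comp, Category.comp_id]

end Groth.Agent.Lib.Helper40.IsoTriv
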