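import Groth.Agent.Lib.Helper40.PicCalc
import Groth.Prelude.Def_ThetaK
import Mathlib.CategoryTheory.Monoidal.Cartesian.Over
import Mathlib.CategoryTheory.Monoidal.Cartesian.Grp

/-!
# Translations and the Mumford bundle in the calculus of classes (helper40)
-/

universe u

open CategoryTheory MonoidalCategory CartesianMonoidalCategory MonObj GrpObj AlgebraicGeometry

namespace Groth.Agent.Lib.Helper40.KLCalc

open Groth.Agent.Lib.Helper40.PicCalc

variable {S : Scheme.{u}} (A : Over S) [GrpObj A]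

theorem pbo_comp {W V U : Over S} (g : W ⟶ V) (h : V ⟶ U) (a : Cl U.left) :
    pb g.left (pb h.left a) = pb (g ≫ h).left a := by
  rw [Over.comp_left]
  exact pb_comp _ _ _

theorem pbo_id {W : Over S} (a : Cl W.left) : pb (𝟙 W : W ⟶ W).left a = a := by
  rw [Over.id_left]
  exact pb_id _

theorem pbo_congr {W V : Over S} {g h : W ⟶ V} (e : g = h) (a : Cl V.left) :
    pb g.left a = pb h.left a := by rw [e]

theorem transl_mul {T : Over S} (z₁ z₂ : T ⟶ A) :
    ThetaGrp.transl A (z₁ * z₂) = ThetaGrp.transl A z₁ ≫ ThetaGrp.transl A z₂ := by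
  apply CartesianMonoidalCategory.hom_ext
  · have h1 : ThetaGrp.transl A (z₁ * z₂) ≫ fst A T =
        fst A T * ((snd A T ≫ z₁) * (snd A T ≫ z₂)) := by
      rw [ThetaGrp.transl_fst, MonObj.comp_mul]
    have h2 : (ThetaGrp.transl A z₁ ≫ ThetaGrp.transl A z₂) ≫ fst A T =
        (fst A T * (snd A T ≫ z₁)) * (snd A T ≫ z₂) := by
      calc (ThetaGrp.transl A z₁ ≫ ThetaGrp.transl A z₂) ≫ fst A T
          = ThetaGrp.transl A z₁ ≫ (fst A T * (snd A T ≫ z₂)) := by
            rw [Category.assoc, ThetaGrp.transl_fst]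
        _ = (ThetaGrp.transl A z₁ ≫ fst A T) * ((ThetaGrp.transl A z₁ ≫ snd A T) ≫ z₂) := by
            rw [MonObj.comp_mul, Category.assoc]
        _ = (fst A T * (snd A T ≫ z₁)) * (snd A T ≫ z₂) := by
            rw [ThetaGrp.transl_fst, ThetaGrp.transl_snd]
    rw [h1, h2, _root_.mul_assoc]
  · rw [ThetaGrp.transl_snd, Category.assoc, ThetaGrp.transl_snd, ThetaGrp.transl_snd]

theorem transl_one {T : Over S} : ThetaGrp.transl A (1 : T ⟶ A) = 𝟙 (A ⊗ T) := by
  apply CartesianMonoidalCategory.hom_ext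
  · rw [ThetaGrp.transl_fst, MonObj.comp_one, _root_.mul_one, Category.id_comp]
  · rw [ThetaGrp.transl_snd, Category.id_comp]

theorem transl_inv_comp {T : Over S} (z : T ⟶ A) :
    ThetaGrp.transl A z⁻¹ ≫ ThetaGrp.transl A z = 𝟙 (A ⊗ T) := by
  rw [← transl_mul, _root_.inv_mul_cancel, transl_one]

theorem whisker_mul {T : Over S} (z : T ⟶ A) :
    (A ◁ z) ≫ μ[A] = ThetaGrp.transl A z ≫ fst A T := by
  rw [ThetaGrp.transl_fst, Hom.mul_def]
  congr 1

/-- the unit section `T ⟶ A ⊗ T` -/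
noncomputable def es (T : Over S) : T ⟶ A ⊗ T := lift (toUnit T ≫ η[A]) (𝟙 T)

theorem es_fst (T : Over S) : es A T ≫ fst A T = 1 := by
  rw [es, lift_fst, Hom.one_def]

theorem es_snd (T : Over S) : es A T ≫ snd A T = 𝟙 T := lift_snd _ _

theorem es_transl_fst {T : Over S} (z : T ⟶ A) :
    es A T ≫ ThetaGrp.transl A z ≫ fst A T = z := by
  rw [ThetaGrp.transl_fst, MonObj.comp_mul, es_fst, _root_.one_mul, ← Category.assoc, es_snd,
    Category.id_comp]

variable (L : A.left.Modules)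

theorem isMumfordTriv_iff (hL : PicF.IsInvertible L) {T : Over S} (z : T ⟶ A) :
    ThetaGrp.IsMumfordTriv A L z ↔ ∃ n : Cl T.left, IsInv n ∧
      pb (ThetaGrp.transl A z).left (pb (fst A T).left (cl L)) =
        pb (fst A T).left (cl L) * pb (snd A T).left n := by
  have hℓ : IsInv (cl L) := isInv_cl hL
  have hm : pb ((A ◁ z) ≫ μ[A]).left (cl L) =
      pb (ThetaGrp.transl A z).left (pb (fst A T).left (cl L)) := by
    rw [whisker_mul, pbo_comp]
  have hsz : pb (snd A T ≫ z).left (cl L) = pb (snd A T).left (pb z.left (cl L)) :=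
    (pbo_comp _ _ _).symm
  constructor
  · rintro ⟨M, hM, ⟨e⟩⟩
    have h1 : pb (snd A T).left (cl M) * pb (fst A T).left (cl L) *
        pb (snd A T ≫ z).left (cl L) = pb ((A ◁ z) ≫ μ[A]).left (cl L) := cl_eq_of_iso e
    refine ⟨cl M * pb z.left (cl L), (isInv_cl hM).mul (hℓ.pb _), ?_⟩
    rw [pb_mul _ (isInv_cl hM) (hℓ.pb _), ← hm, ← h1, hsz]
    rw [_root_.mul_comm (pb (snd A T).left (cl M)) (pb (fst A T).left (cl L)), _root_.mul_assoc]
  · rintro ⟨n, hn, h⟩
    obtain ⟨w, hw, hw1⟩ := (hℓ.pb z.left).exists_inv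
    obtain ⟨M, hM, hMn⟩ := hn.mul hw
    refine ⟨M, hM, cl_eq_iff.1 ?_⟩
    show pb (snd A T).left (cl M) * pb (fst A T).left (cl L) *
        pb (snd A T ≫ z).left (cl L) = pb ((A ◁ z) ≫ μ[A]).left (cl L)
    rw [hm, h, hsz, hMn, pb_mul _ hn hw]
    have h2 : pb (snd A T).left w * pb (snd A T).left (pb z.left (cl L)) = 1 := by
      rw [← pb_mul _ hw (hℓ.pb _), _root_.mul_comm w, hw1, pb_one]
    calc pb (snd A T).left n * pb (snd A T).left w * pb (fst A T).left (cl L) *
          pb (snd A T).left (pb z.left (cl L))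
        = pb (fst A T).left (cl L) * pb (snd A T).left n *
          (pb (snd A T).left w * pb (snd A T).left (pb z.left (cl L))) := by ac_rfl
      _ = pb (fst A T).left (cl L) * pb (snd A T).left n := by rw [h2, _root_.mul_one]

/-- In the description of `isMumfordTriv_iff` the class `n` is forced (over a base where the pullback
of `L` along the unit section is trivial). -/
theorem pb_es_transl (hL : PicF.IsInvertible L) {T : Over S} (z : T ⟶ A) :
    pb (es A T).left (pb (ThetaGrp.transl A z).left (pb (fst A T).left (cl L))) =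
      pb z.left (cl L) := by
  rw [pbo_comp, pbo_comp]
  exact pbo_congr (es_transl_fst A z) _


theorem es_snd_comp {T : Over S} (z : T ⟶ A) : es A T ≫ snd A T ≫ z = z := by
  rw [← Category.assoc, es_snd, Category.id_comp]

/-- the calculus condition describing `K(L)` -/
def Good {T : Over S} (z : T ⟶ A) : Prop :=
  ∃ n : Cl T.left, IsInv n ∧
    pb (ThetaGrp.transl A z).left (pb (fst A T).left (cl L)) =
      pb (fst A T).left (cl L) * pb (snd A T).left n

theorem good_mul (hL : PicF.IsInvertible L) {T : Over S} {z₁ z₂ : T ⟶ A}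
    (h₁ : Good A L z₁) (h₂ : Good A L z₂) : Good A L (z₁ * z₂) := by
  have hℓ : IsInv (cl L) := isInv_cl hL
  obtain ⟨n₁, hn₁, h₁⟩ := h₁
  obtain ⟨n₂, hn₂, h₂⟩ := h₂
  refine ⟨n₁ * n₂, hn₁.mul hn₂, ?_⟩
  obtain ⟨lam, hlam⟩ : ∃ l : Cl (A ⊗ T).left, l = pb (fst A T).left (cl L) := ⟨_, rfl⟩
  have hlamI : IsInv lam := hlam ▸ hℓ.pb _
  rw [← hlam] at h₁ h₂ ⊢
  have hsnd : pb (ThetaGrp.transl A z₁).left (pb (snd A T).left n₂) = pb (snd A T).left n₂ := by
    rw [pbo_comp]
    exact pbo_congr (ThetaGrp.transl_snd A z₁) _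
  calc pb (ThetaGrp.transl A (z₁ * z₂)).left lam
      = pb (ThetaGrp.transl A z₁ ≫ ThetaGrp.transl A z₂).left lam :=
        pbo_congr (transl_mul A z₁ z₂) _
    _ = pb (ThetaGrp.transl A z₁).left (pb (ThetaGrp.transl A z₂).left lam) :=
        (pbo_comp _ _ _).symm
    _ = pb (ThetaGrp.transl A z₁).left (lam * pb (snd A T).left n₂) := by rw [h₂]
    _ = pb (ThetaGrp.transl A z₁).left lam *
          pb (ThetaGrp.transl A z₁).left (pb (snd A T).left n₂) :=
        pb_mul _ hlamI (hn₂.pb _)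
    _ = lam * pb (snd A T).left n₁ * pb (snd A T).left n₂ := by rw [h₁, hsnd]
    _ = lam * pb (snd A T).left (n₁ * n₂) := by rw [pb_mul _ hn₁ hn₂, _root_.mul_assoc]

theorem good_one {T : Over S} : Good A L (1 : T ⟶ A) := by
  refine ⟨1, IsInv.one, ?_⟩
  rw [pb_one, _root_.mul_one]
  calc pb (ThetaGrp.transl A (1 : T ⟶ A)).left (pb (fst A T).left (cl L))
      = pb (𝟙 (A ⊗ T) : A ⊗ T ⟶ A ⊗ T).left (pb (fst A T).left (cl L)) := pbo_congr (transl_one A) _
    _ = pb (fst A T).left (cl L) := pbo_id _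

theorem good_inv (hL : PicF.IsInvertible L) {T : Over S} {z : T ⟶ A}
    (h : Good A L z) : Good A L z⁻¹ := by
  have hℓ : IsInv (cl L) := isInv_cl hL
  obtain ⟨n, hn, h⟩ := h
  obtain ⟨n', hn', hnn'⟩ := hn.exists_inv
  refine ⟨n', hn', ?_⟩
  obtain ⟨lam, hlam⟩ : ∃ l : Cl (A ⊗ T).left, l = pb (fst A T).left (cl L) := ⟨_, rfl⟩
  have hlamI : IsInv lam := hlam ▸ hℓ.pb _
  rw [← hlam] at h ⊢
  have hsnd : pb (ThetaGrp.transl A z⁻¹).left (pb (snd A T).left n) = pb (snd A T).left n := by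
    rw [pbo_comp]
    exact pbo_congr (ThetaGrp.transl_snd A z⁻¹) _
  have h3 : lam = pb (ThetaGrp.transl A z⁻¹).left lam * pb (snd A T).left n := by
    calc lam = pb (𝟙 (A ⊗ T) : A ⊗ T ⟶ A ⊗ T).left lam := (pbo_id _).symm
      _ = pb (ThetaGrp.transl A z⁻¹ ≫ ThetaGrp.transl A z).left lam :=
          (pbo_congr (transl_inv_comp A z) _).symm
      _ = pb (ThetaGrp.transl A z⁻¹).left (pb (ThetaGrp.transl A z).left lam) :=
          (pbo_comp _ _ _).symm
      _ = pb (ThetaGrp.transl A z⁻¹).left (lam * pb (snd A T).left n) := by rw [h]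
      _ = pb (ThetaGrp.transl A z⁻¹).left lam *
            pb (ThetaGrp.transl A z⁻¹).left (pb (snd A T).left n) := pb_mul _ hlamI (hn.pb _)
      _ = pb (ThetaGrp.transl A z⁻¹).left lam * pb (snd A T).left n := by rw [hsnd]
  have h4 : pb (snd A T).left n * pb (snd A T).left n' = 1 := by
    rw [← pb_mul _ hn hn', hnn', pb_one]
  calc pb (ThetaGrp.transl A z⁻¹).left lam
      = pb (ThetaGrp.transl A z⁻¹).left lam *
          (pb (snd A T).left n * pb (snd A T).left n') := by rw [h4, _root_.mul_one]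
    _ = (pb (ThetaGrp.transl A z⁻¹).left lam * pb (snd A T).left n) *
          pb (snd A T).left n' := (_root_.mul_assoc _ _ _).symm
    _ = lam * pb (snd A T).left n' := congrArg (· * pb (snd A T).left n') h3.symm

theorem isMumfordTriv_iff_good (hL : PicF.IsInvertible L) {T : Over S} (z : T ⟶ A) :
    ThetaGrp.IsMumfordTriv A L z ↔ Good A L z := isMumfordTriv_iff A L hL z

section Field

variable {k : Type u} [Field k] (X : Over (Spec (CommRingCat.of k))) [GrpObj X]
  (N : X.left.Modules)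

theorem pb_one_hom (hN : PicF.IsInvertible N) (T : Over (Spec (CommRingCat.of k))) :
    pb (1 : T ⟶ X).left (cl N) = 1 := by
  haveI : Subsingleton ↥(𝟙_ (Over (Spec (CommRingCat.of k)))).left :=
    inferInstanceAs (Subsingleton ↥(Spec (CommRingCat.of k)))
  have x : ↥(𝟙_ (Over (Spec (CommRingCat.of k)))).left :=
    (Classical.arbitrary ↥(Spec (CommRingCat.of k)))
  have h : pb (η[X]).left (cl N) = 1 :=
    eq_one_of_isInv_of_subsingleton x ((isInv_cl hN).pb _)
  rw [Hom.one_def, ← pbo_comp, h, pb_one]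

/-- In the Mumford condition over a field, the module pulled back from the parameter scheme is
trivial. -/
theorem cl_eq_one (hN : PicF.IsInvertible N) {T : Over (Spec (CommRingCat.of k))} (z : T ⟶ X)
    (m : Cl T.left) (hm : IsInv m)
    (h : pb (snd X T).left m * pb (fst X T).left (cl N) * pb (snd X T ≫ z).left (cl N) =
      pb ((X ◁ z) ≫ μ[X]).left (cl N)) : m = 1 := by
  have hℓ : IsInv (cl N) := isInv_cl hN
  have h2 : m * pb z.left (cl N) = pb z.left (cl N) := by
    calc m * pb z.left (cl N)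
        = pb (es X T ≫ snd X T).left m * pb (es X T ≫ fst X T).left (cl N) *
            pb (es X T ≫ snd X T ≫ z).left (cl N) := by
          rw [pbo_congr (es_snd X T), pbo_id, pbo_congr (es_fst X T), pb_one_hom X N hN T,
            _root_.mul_one, pbo_congr (es_snd_comp X z)]
      _ = pb (es X T).left (pb (snd X T).left m) * pb (es X T).left (pb (fst X T).left (cl N)) *
            pb (es X T).left (pb (snd X T ≫ z).left (cl N)) := by
          rw [pbo_comp, pbo_comp, pbo_comp]
      _ = pb (es X T).left (pb (snd X T).left m * pb (fst X T).left (cl N) *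
            pb (snd X T ≫ z).left (cl N)) := by
          rw [pb_mul _ ((hm.pb _).mul (hℓ.pb _)) (hℓ.pb _), pb_mul _ (hm.pb _) (hℓ.pb _)]
      _ = pb (es X T).left (pb ((X ◁ z) ≫ μ[X]).left (cl N)) := by rw [h]
      _ = pb (es X T ≫ (X ◁ z) ≫ μ[X]).left (cl N) := pbo_comp _ _ _
      _ = pb z.left (cl N) := pbo_congr (by rw [whisker_mul, es_transl_fst]) _
  exact (hℓ.pb z.left).mul_left_cancel (by rw [_root_.mul_comm, h2, _root_.mul_one])

end Field

end Groth.Agent.Lib.Helper40.KLCalc
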