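import Mathlib
import Groth.Prelude.Def_NonAbH2

/-!
# Properties local on the target pass from one leg of a kernel pair to the morphism
-/

set_option autoImplicit false
open CategoryTheory CategoryTheory.Limits AlgebraicGeometry
universe u

namespace Groth.Agent.Lib.Helper40.KerPairProp

variable {S : Scheme.{u}} (K : Precoverage Scheme.{u})

theorem property_of_isKernelPair_of_sections (P' : MorphismProperty Scheme.{u})
    [P'.IsStableUnderBaseChange] [P'.IsLocalAtTarget K] {R U M : Over S} {s t : R ⟶ U}
    {q : U ⟶ M} (hk : IsKernelPair q s t)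
    (hloc : NonAbH1.IsLocallyTrivialFor K (Over.mk q.left : Over M.left)) (ht : P' t.left) :
    P' q.left := by
  obtain ⟨Rc, hRc, hsec⟩ := hloc
  have hkS : IsPullback s.left t.left q.left q.left := hk.map (Over.forget S)
  apply MorphismProperty.IsLocalAtTarget.of_forall_pullbackSnd (K := K) hRc
  intro Y g _ hg
  obtain ⟨x, hx⟩ := hsec g hg
  change x ≫ q.left = g at hx
  have hpaste : IsPullback (pullback.fst t.left x ≫ s.left) (pullback.snd t.left x) q.left
      (x ≫ q.left) := (IsPullback.of_hasPullback t.left x).paste_horiz hkS
  rw [hx] at hpaste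
  have h1 : P' (pullback.snd t.left x) := P'.pullback_snd _ _ ht
  have e : hpaste.isoPullback.hom ≫ pullback.snd q.left g = pullback.snd t.left x :=
    hpaste.isoPullback_hom_snd
  rw [← e] at h1
  exact (P'.cancel_left_of_respectsIso _ _).mp h1

end Groth.Agent.Lib.Helper40.KerPairProp
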