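import Mathlib
import Groth.Prelude.Def_NonAbH2
import Groth.Prelude.Def_Red2
import Groth.Agent.Lib.Helper40.GrpKer
import Groth.Agent.Lib.Helper40.LocTrivCov

/-!
# The Kummer sequence `1 → μ_n → 𝔾_m → 𝔾_m → 1` is exact for the fppf (hence fpqc) topology
-/

set_option autoImplicit false
open CategoryTheory CategoryTheory.Limits AlgebraicGeometry MonoidalCategory
open CartesianMonoidalCategory MonObj
universe u

namespace Groth.Agent.Lib.Helper40.Kummer

/-- the base ring -/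
abbrev ZZ : Type u := ULift.{u} ℤ

instance subsingleton_ringHom_ZZ (T : Type*) [Ring T] : Subsingleton (ZZ.{u} →+* T) := by
  refine ⟨fun f g => RingHom.ext fun x => ?_⟩
  have hx : x = ((x.down : ℤ) : ULift.{u} ℤ) := by
    apply ULift.ext
    simp
  rw [hx, map_intCast, map_intCast]

abbrev AZ : Type u := MonoidAlgebra ZZ.{u} (Multiplicative ℤ)
abbrev AC (n : ℕ) : Type u := MonoidAlgebra ZZ.{u} (Multiplicative (ZMod n))

noncomputable abbrev psiM (n : ℕ) : Multiplicative ℤ →* Multiplicative ℤ :=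
  AddMonoidHom.toMultiplicative (zmultiplesHom ℤ (n : ℤ) : ℤ →+ ℤ)
noncomputable abbrev phiM (n : ℕ) : Multiplicative ℤ →* Multiplicative (ZMod n) :=
  AddMonoidHom.toMultiplicative (Int.castAddHom (ZMod n))
noncomputable abbrev psiA (n : ℕ) : AZ.{u} →ₐ[ZZ.{u}] AZ.{u} :=
  MonoidAlgebra.mapDomainAlgHom ZZ.{u} ZZ.{u} (psiM n)
noncomputable abbrev phiA (n : ℕ) : AZ.{u} →ₐ[ZZ.{u}] AC.{u} n :=
  MonoidAlgebra.mapDomainAlgHom ZZ.{u} ZZ.{u} (phiM n)

lemma psiA_single (n : ℕ) (g : Multiplicative ℤ) (r : ZZ.{u}) :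
    psiA.{u} n (MonoidAlgebra.single g r) = MonoidAlgebra.single (psiM n g) r := by
  simp [MonoidAlgebra.mapDomainAlgHom]

lemma phiA_single (n : ℕ) (g : Multiplicative ℤ) (r : ZZ.{u}) :
    phiA.{u} n (MonoidAlgebra.single g r) = MonoidAlgebra.single (phiM n g) r := by
  simp [MonoidAlgebra.mapDomainAlgHom]

lemma psiM_ofAdd_one (n : ℕ) :
    psiM n (Multiplicative.ofAdd (1 : ℤ)) = Multiplicative.ofAdd (n : ℤ) := by
  simp [psiM]

/-! ### The cover `Spec A[X]/(X^n - t) → Spec A` -/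

noncomputable def tA : AZ.{u} := MonoidAlgebra.single (Multiplicative.ofAdd (1 : ℤ)) 1
noncomputable def tAinv : AZ.{u} := MonoidAlgebra.single (Multiplicative.ofAdd (-1 : ℤ)) 1

lemma tA_mul_tAinv : tA.{u} * tAinv.{u} = 1 := by
  simp [tA, tAinv, MonoidAlgebra.single_mul_single, MonoidAlgebra.one_def]

noncomputable def PP (n : ℕ) : Polynomial AZ.{u} := Polynomial.X ^ n - Polynomial.C tA

abbrev BB (n : ℕ) : Type u := AdjoinRoot (PP.{u} n)

lemma PP_monic {n : ℕ} (hn : 0 < n) : (PP.{u} n).Monic :=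
  Polynomial.monic_X_pow_sub_C _ hn.ne'

lemma root_pow (n : ℕ) :
    (AdjoinRoot.root (PP.{u} n)) ^ n = AdjoinRoot.of (PP.{u} n) tA := by
  have h : Polynomial.eval₂ (AdjoinRoot.of (PP.{u} n)) (AdjoinRoot.root (PP.{u} n))
      (Polynomial.X ^ n - Polynomial.C tA) = 0 := AdjoinRoot.eval₂_root (PP.{u} n)
  rw [Polynomial.eval₂_sub, Polynomial.eval₂_pow, Polynomial.eval₂_X, Polynomial.eval₂_C,
    sub_eq_zero] at h
  exact h

noncomputable def uB {n : ℕ} (hn : 0 < n) : (BB.{u} n)ˣ :=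
  Units.mkOfMulEqOne (AdjoinRoot.root (PP.{u} n))
    ((AdjoinRoot.root (PP.{u} n)) ^ (n - 1) * AdjoinRoot.of (PP.{u} n) tAinv) (by
      rw [← _root_.mul_assoc, ← pow_succ', Nat.sub_add_cancel (Nat.succ_le_of_lt hn), root_pow,
        ← map_mul, tA_mul_tAinv, map_one])

lemma uB_val {n : ℕ} (hn : 0 < n) :
    ((uB.{u} hn : (BB.{u} n)ˣ) : BB.{u} n) = AdjoinRoot.root (PP.{u} n) := rfl

noncomputable def rho {n : ℕ} (hn : 0 < n) : AZ.{u} →ₐ[ZZ.{u}] BB.{u} n :=
  MonoidAlgebra.lift ZZ.{u} (BB.{u} n) (Multiplicative ℤ)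
    ((Units.coeHom (BB.{u} n)).comp (zpowersHom (BB.{u} n)ˣ (uB hn)))

lemma rho_comp_psi {n : ℕ} (hn : 0 < n) :
    (rho.{u} hn).toRingHom.comp (psiA.{u} n).toRingHom = algebraMap AZ.{u} (BB.{u} n) := by
  apply MonoidAlgebra.ringHom_ext'
  · exact Subsingleton.elim _ _
  · apply MonoidHom.ext_mint
    show rho.{u} hn (psiA.{u} n (MonoidAlgebra.single (Multiplicative.ofAdd (1 : ℤ)) 1)) =
      algebraMap AZ.{u} (BB.{u} n) (MonoidAlgebra.single (Multiplicative.ofAdd (1 : ℤ)) 1)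
    rw [psiA_single, psiM_ofAdd_one, rho, MonoidAlgebra.lift_single]
    refine (one_smul ZZ.{u} _).trans ?_
    rw [MonoidHom.comp_apply, zpowersHom_apply, toAdd_ofAdd, zpow_natCast, Units.coeHom_apply,
      Units.val_pow_eq_pow_val, uB_val, root_pow]
    rfl

lemma nontrivial_BB {n : ℕ} (hn : 0 < n) : Nontrivial (BB.{u} n) := by
  have hP := PP_monic.{u} hn
  have hnu : ¬ IsUnit (PP.{u} n) := fun hu => by
    have h1 := hP.eq_one_of_isUnit hu
    have h2 : (PP.{u} n).natDegree = n := Polynomial.natDegree_X_pow_sub_C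
    rw [h1, Polynomial.natDegree_one] at h2
    omega
  exact Ideal.Quotient.nontrivial_iff.mpr (by simpa [Ideal.span_singleton_eq_top] using hnu)

lemma faithfullyFlat_BB {n : ℕ} (hn : 0 < n) : Module.FaithfullyFlat AZ.{u} (BB.{u} n) := by
  haveI := (PP_monic.{u} hn).free_adjoinRoot
  haveI := nontrivial_BB.{u} hn
  infer_instance

/-- the cover of `Spec ℤ[t,t⁻¹]` -/
noncomputable abbrev qB (n : ℕ) : Spec (CommRingCat.of (BB.{u} n)) ⟶ Spec (CommRingCat.of AZ.{u}) :=
  Spec.map (CommRingCat.ofHom (algebraMap AZ.{u} (BB.{u} n)))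

lemma qB_flat_surj {n : ℕ} (hn : 0 < n) : Flat (qB.{u} n) ∧ Surjective (qB.{u} n) :=
  (flat_and_surjective_SpecMap_iff _).mpr
    (RingHom.faithfullyFlat_algebraMap_iff.mpr (faithfullyFlat_BB hn))

lemma qB_lfp (n : ℕ) : LocallyOfFinitePresentation (qB.{u} n) :=
  (LocallyOfFinitePresentation.SpecMap_iff _).mpr
    (RingHom.finitePresentation_algebraMap.mpr inferInstance)

/-! ### The pushout of rings -/

section desc

variable {n : ℕ} {C' : Type u} [CommRing C'] (a : AZ.{u} →+* C') (b : ZZ.{u} →+* C')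
  (hab : ∀ x, a (psiA.{u} n x) = b (Coalgebra.counit (R := ZZ.{u}) x))

noncomputable def chi0 : Multiplicative ℤ →* C' :=
  (a : AZ.{u} →* C').comp (MonoidAlgebra.of ZZ.{u} (Multiplicative ℤ))

include hab in
lemma chi0_n : chi0 a (Multiplicative.ofAdd (n : ℤ)) = 1 := by
  have h := hab (MonoidAlgebra.single (Multiplicative.ofAdd (1 : ℤ)) 1)
  rw [psiA_single, psiM_ofAdd_one] at h
  rw [show chi0 a (Multiplicative.ofAdd (n : ℤ)) =
    a (MonoidAlgebra.single (Multiplicative.ofAdd (n : ℤ)) 1) from rfl, h]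
  simp

noncomputable def chiU : Multiplicative (ZMod n) →* C'ˣ :=
  AddMonoidHom.toMultiplicativeLeft (ZMod.lift n ⟨MonoidHom.toAdditiveRight (chi0 a).toHomUnits, by
    show Additive.ofMul ((chi0 a).toHomUnits (Multiplicative.ofAdd (n : ℤ))) = 0
    have h1 : (chi0 a).toHomUnits (Multiplicative.ofAdd (n : ℤ)) = 1 := Units.ext (by
      rw [MonoidHom.coe_toHomUnits, chi0_n a b hab]; rfl)
    rw [h1]; rfl⟩)

lemma chiU_cast (k : ℤ) :
    ((chiU a b hab (Multiplicative.ofAdd ((k : ℤ) : ZMod n)) : C'ˣ) : C') =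
      a (MonoidAlgebra.single (Multiplicative.ofAdd k) 1) := by
  show ((Additive.toMul (ZMod.lift n ⟨MonoidHom.toAdditiveRight (chi0 a).toHomUnits, _⟩
    ((k : ℤ) : ZMod n)) : C'ˣ) : C') = _
  rw [ZMod.lift_coe]
  rfl

noncomputable def descHom : AC.{u} n →+* C' :=
  MonoidAlgebra.liftNCRingHom b ((Units.coeHom C').comp (chiU a b hab))
    (fun _ _ => Commute.all _ _)

lemma descHom_single (g : Multiplicative (ZMod n)) (r : ZZ.{u}) :
    descHom a b hab (MonoidAlgebra.single g r) = b r * ((chiU a b hab g : C'ˣ) : C') := by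
  show MonoidAlgebra.liftNC _ _ (MonoidAlgebra.single g r) = _
  rw [MonoidAlgebra.liftNC_single]
  rfl

lemma desc_fac_left : (descHom a b hab).comp (phiA.{u} n).toRingHom = a := by
  apply MonoidAlgebra.ringHom_ext'
  · exact Subsingleton.elim _ _
  · refine MonoidHom.ext fun g => ?_
    show descHom a b hab (phiA.{u} n (MonoidAlgebra.single g 1)) = a (MonoidAlgebra.single g 1)
    rw [phiA_single, descHom_single, map_one, _root_.one_mul]
    exact chiU_cast a b hab (Multiplicative.toAdd g)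

lemma desc_uniq (m : AC.{u} n →+* C') (hm : m.comp (phiA.{u} n).toRingHom = a) :
    m = descHom a b hab := by
  apply MonoidAlgebra.ringHom_ext'
  · exact Subsingleton.elim _ _
  · refine MonoidHom.ext fun g => ?_
    obtain ⟨k, hk⟩ := ZMod.intCast_surjective (Multiplicative.toAdd g)
    have hg : phiM n (Multiplicative.ofAdd k) = g := by
      show Multiplicative.ofAdd ((k : ℤ) : ZMod n) = g
      rw [hk]; rfl
    subst hg
    show m (MonoidAlgebra.single (phiM n (Multiplicative.ofAdd k)) 1) =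
      descHom a b hab (MonoidAlgebra.single (phiM n (Multiplicative.ofAdd k)) 1)
    rw [descHom_single, map_one, _root_.one_mul]
    have h1 : m (MonoidAlgebra.single (phiM n (Multiplicative.ofAdd k)) 1) =
        a (MonoidAlgebra.single (Multiplicative.ofAdd k) 1) := by
      rw [← hm]
      show _ = m (phiA.{u} n _)
      rw [phiA_single]
    rw [h1]
    exact (chiU_cast a b hab k).symm

end desc

theorem ringPushout (n : ℕ) :
    IsPushout (CommRingCat.ofHom (psiA.{u} n).toRingHom)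
      (CommRingCat.ofHom (Bialgebra.counitAlgHom ZZ.{u} AZ.{u}).toRingHom)
      (CommRingCat.ofHom (phiA.{u} n).toRingHom)
      (CommRingCat.ofHom (algebraMap ZZ.{u} (AC.{u} n))) := by
  have w : CommRingCat.ofHom (psiA.{u} n).toRingHom ≫ CommRingCat.ofHom (phiA.{u} n).toRingHom =
      CommRingCat.ofHom (Bialgebra.counitAlgHom ZZ.{u} AZ.{u}).toRingHom ≫
        CommRingCat.ofHom (algebraMap ZZ.{u} (AC.{u} n)) := by
    apply CommRingCat.hom_ext
    apply MonoidAlgebra.ringHom_ext'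
    · exact Subsingleton.elim _ _
    · apply MonoidHom.ext_mint
      show phiA.{u} n (psiA.{u} n (MonoidAlgebra.single (Multiplicative.ofAdd (1 : ℤ)) 1)) =
        algebraMap ZZ.{u} (AC.{u} n)
          (Coalgebra.counit (R := ZZ.{u}) (MonoidAlgebra.single (Multiplicative.ofAdd (1 : ℤ)) (1 : ZZ.{u})))
      rw [psiA_single, psiM_ofAdd_one, phiA_single]
      simp [MonoidAlgebra.one_def]
  have hab : ∀ s : PushoutCocone (CommRingCat.ofHom (psiA.{u} n).toRingHom)
      (CommRingCat.ofHom (Bialgebra.counitAlgHom ZZ.{u} AZ.{u}).toRingHom),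
      ∀ x, s.inl.hom (psiA.{u} n x) = s.inr.hom (Coalgebra.counit (R := ZZ.{u}) x) :=
    fun s x => ConcreteCategory.congr_hom s.condition x
  refine IsPushout.of_isColimit' ⟨w⟩ (PushoutCocone.IsColimit.mk _
    (fun s => CommRingCat.ofHom (descHom s.inl.hom s.inr.hom (hab s))) ?_ ?_ ?_)
  · intro s
    exact CommRingCat.hom_ext (desc_fac_left s.inl.hom s.inr.hom (hab s))
  · intro s
    exact CommRingCat.hom_ext (Subsingleton.elim _ _)
  · intro s m h1 h2
    refine CommRingCat.hom_ext (desc_uniq s.inl.hom s.inr.hom (hab s) m.hom ?_)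
    rw [← h1]
    rfl

/-! ### The kernel -/

theorem isKernel_diag (n : ℕ) :
    AlgGrp.IsKernel (Red.diagMap ZZ.{u} (Int.castAddHom (ZMod n)))
      (Red.diagMap ZZ.{u} (zmultiplesHom ℤ (n : ℤ) : ℤ →+ ℤ)) := by
  unfold AlgGrp.IsKernel
  apply IsPullback.of_map_of_faithful (Over.forget _)
  exact isPullback_SpecMap_of_isPushout _ _ _ _ (ringPushout.{u} n)

theorem isMonHom_DSmap (S : Scheme.{u}) {M N : Type} [AddCommGroup M] [AddCommGroup N]
    (φ : M →+ N) : IsMonHom (Red.DSmap S φ) := by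
  unfold Red.DSmap
  haveI : IsMonHom (Red.diagMap (ULift.{u} ℤ) φ) := by
    let F := MonoidAlgebra.mapDomainBialgHom (R := ULift.{u} ℤ) (AddMonoidHom.toMultiplicative φ)
    let g := (bialgSpec (CommRingCat.of (ULift.{u} ℤ))).map
      (Quiver.Hom.op (CommBialgCat.ofHom F))
    have : Red.diagMap (ULift.{u} ℤ) φ = g.hom := rfl
    rw [this]
    exact g.isMonHom_hom
  infer_instance

theorem isKernel_DS (S : Scheme.{u}) (n : ℕ) :
    AlgGrp.IsKernel (Red.DSmap S (Int.castAddHom (ZMod n))) (Red.chi S (n : ℤ)) := by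
  have h0 := isKernel_diag.{u} n
  unfold AlgGrp.IsKernel at h0 ⊢
  let F := Over.pullback (Limits.IsTerminal.from specULiftZIsTerminal S)
  haveI : PreservesLimitsOfSize.{0, 0} F :=
    (Over.mapPullbackAdj (Limits.IsTerminal.from specULiftZIsTerminal S)).rightAdjoint_preservesLimits
  have h1 := h0.map F
  refine IsPullback.of_iso h1 (Iso.refl _) (Iso.refl _)
    (asIso (Functor.LaxMonoidal.ε F)).symm (Iso.refl _) ?_ ?_ ?_ ?_
  · exact (Category.comp_id _).trans (Category.id_comp _).symm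
  · exact toUnit_unique _ _
  · exact (Category.comp_id _).trans (Category.id_comp _).symm
  · refine (Category.comp_id _).trans ?_
    show _ = inv (Functor.LaxMonoidal.ε F) ≫ (Functor.LaxMonoidal.ε F ≫ F.map η)
    rw [IsIso.inv_hom_id_assoc]

/-! ### Local triviality -/

theorem chi_locallyTrivial (S : Scheme.{u}) {n : ℕ} (hn : 0 < n) :
    NonAbH1.IsLocallyTrivialFor Scheme.fppfPrecoverage
      (Over.mk (Red.chi S (n : ℤ)).left : Over (Red.Gm S).left) := by
  let fS : S ⟶ Spec (CommRingCat.of ZZ.{u}) := Limits.IsTerminal.from specULiftZIsTerminal S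
  let p₁ : pullback (Red.diag ZZ.{u} ℤ).hom fS ⟶ Spec (CommRingCat.of AZ.{u}) := pullback.fst _ _
  haveI : Flat (qB.{u} n) := (qB_flat_surj hn).1
  haveI : Surjective (qB.{u} n) := (qB_flat_surj hn).2
  haveI : LocallyOfFinitePresentation (qB.{u} n) := qB_lfp n
  let w : pullback p₁ (qB.{u} n) ⟶ pullback (Red.diag ZZ.{u} ℤ).hom fS := pullback.fst p₁ (qB.{u} n)
  have hv1 : (Red.chi S (n : ℤ)).left ≫ pullback.fst (Red.diag ZZ.{u} ℤ).hom fS =
      pullback.fst (Red.diag ZZ.{u} ℤ).hom fS ≫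
        Spec.map (CommRingCat.ofHom (psiA.{u} n).toRingHom) := pullback.lift_fst _ _ _
  have hv2 : (Red.chi S (n : ℤ)).left ≫ pullback.snd (Red.diag ZZ.{u} ℤ).hom fS =
      pullback.snd (Red.diag ZZ.{u} ℤ).hom fS := pullback.lift_snd _ _ _
  let s : pullback p₁ (qB.{u} n) ⟶ pullback (Red.diag ZZ.{u} ℤ).hom fS :=
    pullback.lift (pullback.snd p₁ (qB.{u} n) ≫ Spec.map (CommRingCat.ofHom (rho.{u} hn).toRingHom))
      (w ≫ pullback.snd _ _) (specULiftZIsTerminal.hom_ext _ _)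
  have hs1 : s ≫ pullback.fst (Red.diag ZZ.{u} ℤ).hom fS =
      pullback.snd p₁ (qB.{u} n) ≫ Spec.map (CommRingCat.ofHom (rho.{u} hn).toRingHom) :=
    pullback.lift_fst _ _ _
  have hs2 : s ≫ pullback.snd (Red.diag ZZ.{u} ℤ).hom fS = w ≫ pullback.snd _ _ :=
    pullback.lift_snd _ _ _
  have hρψ : Spec.map (CommRingCat.ofHom (rho.{u} hn).toRingHom) ≫
      Spec.map (CommRingCat.ofHom (psiA.{u} n).toRingHom) = qB.{u} n := by
    rw [← Spec.map_comp, ← CommRingCat.ofHom_comp, rho_comp_psi hn]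
  have hs : s ≫ (Red.chi S (n : ℤ)).left = w := by
    apply pullback.hom_ext
    · exact (Category.assoc _ _ _).trans ((congrArg (s ≫ ·) hv1).trans
        ((Category.assoc _ _ _).symm.trans
        ((congrArg (· ≫ Spec.map (CommRingCat.ofHom (psiA.{u} n).toRingHom)) hs1).trans
          ((Category.assoc _ _ _).trans
            ((congrArg (pullback.snd p₁ (qB.{u} n) ≫ ·) hρψ).trans
              pullback.condition.symm)))))
    · exact (Category.assoc _ _ _).trans ((congrArg (s ≫ ·) hv2).trans hs2)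
  refine ⟨Presieve.singleton w, w.singleton_mem_fppfPrecoverage, ?_⟩
  intro T g hg
  obtain ⟨⟩ := hg
  exact ⟨s, hs⟩

theorem kummer_fppf (S : Scheme.{u}) {n : ℕ} (hn : 0 < n) :
    NonAbH1.IsExactSeq Scheme.fppfPrecoverage
      (Red.DSmap S (Int.castAddHom (ZMod n))) (Red.chi S (n : ℤ)) := by
  have hK := isKernel_DS S n
  haveI hu : IsMonHom (Red.DSmap S (Int.castAddHom (ZMod n))) := isMonHom_DSmap S _
  haveI hv : IsMonHom (Red.chi S (n : ℤ)) := isMonHom_DSmap S _
  refine ⟨hu, hv, ?_, GrpKer.isKernelPair_of_isKernel hK, chi_locallyTrivial S hn⟩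
  have := GrpKer.comp_i_comp_f hK (𝟙 _)
  rwa [Category.id_comp] at this

theorem kummer_fpqc (S : Scheme.{u}) {n : ℕ} (hn : 0 < n) :
    NonAbH1.IsExactSeq Scheme.fpqcPrecoverage
      (Red.DSmap S (Int.castAddHom (ZMod n))) (Red.chi S (n : ℤ)) := by
  obtain ⟨h1, h2, h3, h4, h5⟩ := kummer_fppf S hn
  exact ⟨h1, h2, h3, h4, FpqcCov.isLocallyTrivialFor_fpqc_of_fppf _ h5⟩

end Groth.Agent.Lib.Helper40.Kummer
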