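import Mathlib
import Groth.Prelude.Def_Magnet3
import Groth.Prelude.Def_ActBC

/-!
# Attractors commute with base change (objectwise)
-/

set_option autoImplicit false
universe v₁ u₁ u
open CategoryTheory CategoryTheory.Limits MonoidalCategory CartesianMonoidalCategory MonObj
  AlgebraicGeometry Opposite

namespace Groth.Agent.Lib.Helper40.MagnetBC

section general

variable {C : Type u₁} [Category.{v₁} C] [CartesianMonoidalCategory C]
open Magnet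

/-- Transfer of equivariance along isomorphisms intertwining the actions. -/
theorem isEquivariant_conj {A A' B B' X X' : C} [MonObj A] [MonObj A']
    (ρ : MonAct A B) (a : MonAct A X) (ρ' : MonAct A' B') (a' : MonAct A' X')
    (kA : A' ⟶ A) (kB : B' ≅ B) (kX : X' ≅ X)
    (hρ : ρ'.act ≫ kB.hom = (A' ◁ kB.hom) ≫ (kA ▷ B) ≫ ρ.act)
    (ha : a'.act ≫ kX.hom = (A' ◁ kX.hom) ≫ (kA ▷ X) ≫ a.act)
    (ψ : B ⟶ X) (hψ : MonAct.IsEquivariant ρ a ψ) :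
    MonAct.IsEquivariant ρ' a' (kB.hom ≫ ψ ≫ kX.inv) := by
  have ha' : a'.act = ((A' ◁ kX.hom) ≫ (kA ▷ X) ≫ a.act) ≫ kX.inv := by
    rw [← ha, Category.assoc, kX.hom_inv_id, Category.comp_id]
  have hψ' : ρ.act ≫ ψ = (A ◁ ψ) ≫ a.act := hψ
  show ρ'.act ≫ kB.hom ≫ ψ ≫ kX.inv = (A' ◁ (kB.hom ≫ ψ ≫ kX.inv)) ≫ a'.act
  calc ρ'.act ≫ kB.hom ≫ ψ ≫ kX.inv = (ρ'.act ≫ kB.hom) ≫ ψ ≫ kX.inv :=
        (Category.assoc _ _ _).symm
    _ = ((A' ◁ kB.hom) ≫ (kA ▷ B) ≫ ρ.act) ≫ ψ ≫ kX.inv := by rw [hρ]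
    _ = (A' ◁ kB.hom) ≫ (kA ▷ B) ≫ (ρ.act ≫ ψ) ≫ kX.inv := by simp only [Category.assoc]
    _ = (A' ◁ kB.hom) ≫ (kA ▷ B) ≫ ((A ◁ ψ) ≫ a.act) ≫ kX.inv := by rw [hψ']
    _ = (A' ◁ kB.hom) ≫ ((kA ▷ B) ≫ (A ◁ ψ)) ≫ a.act ≫ kX.inv := by simp only [Category.assoc]
    _ = (A' ◁ kB.hom) ≫ ((A' ◁ ψ) ≫ (kA ▷ X)) ≫ a.act ≫ kX.inv := by rw [whisker_exchange]
    _ = (A' ◁ (kB.hom ≫ ψ ≫ kX.inv)) ≫ a'.act := by
        rw [ha']
        simp

/-- The converse transfer, when `kA` is an isomorphism. -/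
theorem isEquivariant_of_conj {A A' B B' X X' : C} [MonObj A] [MonObj A']
    (ρ : MonAct A B) (a : MonAct A X) (ρ' : MonAct A' B') (a' : MonAct A' X')
    (kA : A' ⟶ A) [IsIso kA] (kB : B' ≅ B) (kX : X' ≅ X)
    (hρ : ρ'.act ≫ kB.hom = (A' ◁ kB.hom) ≫ (kA ▷ B) ≫ ρ.act)
    (ha : a'.act ≫ kX.hom = (A' ◁ kX.hom) ≫ (kA ▷ X) ≫ a.act)
    (ψ : B ⟶ X) (hψ : MonAct.IsEquivariant ρ' a' (kB.hom ≫ ψ ≫ kX.inv)) :
    MonAct.IsEquivariant ρ a ψ := by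
  have hψ' : ρ'.act ≫ kB.hom ≫ ψ ≫ kX.inv = (A' ◁ (kB.hom ≫ ψ ≫ kX.inv)) ≫ a'.act := hψ
  show ρ.act ≫ ψ = (A ◁ ψ) ≫ a.act
  rw [← cancel_epi ((A' ◁ kB.hom) ≫ (kA ▷ B))]
  calc ((A' ◁ kB.hom) ≫ (kA ▷ B)) ≫ ρ.act ≫ ψ = ((A' ◁ kB.hom) ≫ (kA ▷ B) ≫ ρ.act) ≫ ψ := by
        simp only [Category.assoc]
    _ = (ρ'.act ≫ kB.hom) ≫ ψ := by rw [hρ]
    _ = (ρ'.act ≫ kB.hom ≫ ψ ≫ kX.inv) ≫ kX.hom := by
        simp only [Category.assoc, Iso.inv_hom_id, Category.comp_id]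
    _ = ((A' ◁ (kB.hom ≫ ψ ≫ kX.inv)) ≫ a'.act) ≫ kX.hom := by rw [hψ']
    _ = (A' ◁ (kB.hom ≫ ψ ≫ kX.inv)) ≫ (A' ◁ kX.hom) ≫ (kA ▷ X) ≫ a.act := by
        rw [Category.assoc, ha]
    _ = (A' ◁ kB.hom) ≫ ((A' ◁ ψ) ≫ (kA ▷ X)) ≫ a.act := by simp
    _ = (A' ◁ kB.hom) ≫ ((kA ▷ B) ≫ (A ◁ ψ)) ≫ a.act := by rw [whisker_exchange]
    _ = ((A' ◁ kB.hom) ≫ (kA ▷ B)) ≫ (A ◁ ψ) ≫ a.act := by simp only [Category.assoc]

end general

section bc

variable {S S' S'' : Scheme.{u}} (f : S'' ⟶ S') (g : S' ⟶ S) {d : S'' ⟶ S}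

/-- `bcCompIso` intertwines the twice base-changed action of a monoid with the action base-changed
along the composite. -/
theorem bc_bc_act_comp (h : f ≫ g = d) {A X : Over S} [MonObj A] (a : Magnet.MonAct A X) :
    ((a.bc g).bc f).act ≫ (ActBC.bcCompIso f g X h).hom =
      (Red.bc f (Red.bc g A) ◁ (ActBC.bcCompIso f g X h).hom) ≫
        ((ActBC.bcCompIso f g A h).hom ▷ Red.bc d X) ≫ (a.bc d).act := by
  ext
  apply pullback.hom_ext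
  · simp only [Magnet.MonAct.bc_act, Over.comp_left, Category.assoc,
      ActBC.bcCompIso_hom_left_fst, ActBC.pullback_map_left_fst, ActBC.pullback_map_left_fst_assoc]
    simp only [← Category.assoc]
    congr 1
    simp only [Category.assoc]
    apply pullback.hom_ext
    · simp only [Category.assoc]
      rw [ActBC.μ_left_fst_fst, ActBC.μ_left_fst_fst_assoc, ActBC.μ_left_fst_fst,
        Over.whiskerRight_left_fst_assoc, Over.whiskerLeft_left_fst_assoc,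
        ActBC.bcCompIso_hom_left_fst]
    · simp only [Category.assoc]
      rw [ActBC.μ_left_fst_snd, ActBC.μ_left_fst_snd_assoc, ActBC.μ_left_fst_snd,
        Over.whiskerRight_left_snd_assoc, Over.whiskerLeft_left_snd_assoc,
        ActBC.bcCompIso_hom_left_fst]
  · exact (Over.w _).trans (Over.w _).symm

end bc

section main

open Magnet

variable (S : Scheme.{u}) (M : Type) [AddCommMonoid M] (N : AddSubmonoid M)
  (X : Over S) (a : Magnet.MonAct (Magnet.AMonS S M) X) (T : Over S) (T'' : Over T.left)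

theorem main :
    ∃ Φ : (Magnet.attr a N).obj (op ((Over.map T.hom).obj T'')) ≃
        (Magnet.MonAct.eqvHom ((Magnet.subAct S M N).bc T.hom) (a.bc T.hom)).obj (op T''),
      ∀ φ, (Magnet.eqvHomEquivBc T'' ((Magnet.subAct S M N).bc T.hom) (a.bc T.hom) (Φ φ)).1 ≫
          (ActBC.bcCompIso T''.hom T.hom X rfl).hom =
        (ActBC.bcCompIso T''.hom T.hom (Magnet.AMonS S N) rfl).hom ≫
          (Magnet.eqvHomEquivBc ((Over.map T.hom).obj T'') (Magnet.subAct S M N) a φ).1 := by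
  have hρ := bc_bc_act_comp T''.hom T.hom (d := T''.hom ≫ T.hom) rfl (Magnet.subAct S M N)
  have ha := bc_bc_act_comp T''.hom T.hom (d := T''.hom ≫ T.hom) rfl a
  let E1 := Magnet.eqvHomEquivBc ((Over.map T.hom).obj T'') (Magnet.subAct S M N) a
  let E3 := Magnet.eqvHomEquivBc T'' ((Magnet.subAct S M N).bc T.hom) (a.bc T.hom)
  let kB := ActBC.bcCompIso T''.hom T.hom (Magnet.AMonS S N) (d := T''.hom ≫ T.hom) rfl
  let kX := ActBC.bcCompIso T''.hom T.hom X (d := T''.hom ≫ T.hom) rfl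
  let E2 : {ψ : Red.bc (T''.hom ≫ T.hom) (Magnet.AMonS S N) ⟶ Red.bc (T''.hom ≫ T.hom) X //
        MonAct.IsEquivariant ((Magnet.subAct S M N).bc (T''.hom ≫ T.hom))
          (a.bc (T''.hom ≫ T.hom)) ψ} ≃
      {ψ' : Red.bc T''.hom (Red.bc T.hom (Magnet.AMonS S N)) ⟶ Red.bc T''.hom (Red.bc T.hom X) //
        MonAct.IsEquivariant (((Magnet.subAct S M N).bc T.hom).bc T''.hom)
          ((a.bc T.hom).bc T''.hom) ψ'} :=
    Equiv.subtypeEquiv (Iso.homCongr kB.symm kX.symm) (fun ψ =>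
      ⟨fun hψ => isEquivariant_conj _ _ _ _ _ kB kX hρ ha ψ hψ,
       fun hψ => isEquivariant_of_conj _ _ _ _ _ kB kX hρ ha ψ hψ⟩)
  refine ⟨E1.trans (E2.trans E3.symm), fun φ => ?_⟩
  have h1 : E3 ((E1.trans (E2.trans E3.symm)) φ) = E2 (E1 φ) := by
    simp only [Equiv.trans_apply, Equiv.apply_symm_apply]
  have h2 : (E2 (E1 φ)).1 = kB.hom ≫ (E1 φ).1 ≫ kX.inv := rfl
  show (E3 ((E1.trans (E2.trans E3.symm)) φ)).1 ≫ kX.hom = kB.hom ≫ (E1 φ).1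
  rw [h1, h2, Category.assoc, Category.assoc, Iso.inv_hom_id, Category.comp_id]

end main

end Groth.Agent.Lib.Helper40.MagnetBC
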