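import Mathlib
import Groth.Prelude.Def_Magnet3
import Groth.Agent.Lib.Helper40.MagnetDense

/-!
# Attractors and directed unions of magnets (`Magnet`)

`A(⨆ N_i)_S ×_S T = lim A(N_i)_S ×_S T` for a directed family of submonoids, and the resulting
descent of equivariant morphisms to a finite level for `X` locally of finite presentation.
-/

set_option autoImplicit false
universe v₁ u₁ u
open CategoryTheory CategoryTheory.Limits AlgebraicGeometry MonoidalCategory
  CartesianMonoidalCategory MonObj Opposite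

namespace Groth.Agent.Lib.Helper40.MagnetLim

/-! ### General cartesian monoidal lemmas -/

section General

variable {C : Type u₁} [Category.{v₁} C] [CartesianMonoidalCategory C]

/-- The cone on `F` obtained from a cone on `F ⋙ tensorRight T` by projecting to the first
factor. -/
def coneFst {I : Type*} [Category I] {F : I ⥤ C} (T : C) (s : Cone (F ⋙ tensorRight T)) :
    Cone F where
  pt := s.pt
  π :=
    { app := fun i => s.π.app i ≫ fst _ _
      naturality := by
        intro i j f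
        have hw : s.π.app i ≫ (F.map f ▷ T) = s.π.app j := s.w f
        simp only [Functor.const_obj_obj, Functor.const_obj_map, Category.id_comp,
          Category.assoc]
        rw [← hw, Category.assoc, whiskerRight_fst] }

theorem coneFst_π_app {I : Type*} [Category I] {F : I ⥤ C} (T : C)
    (s : Cone (F ⋙ tensorRight T)) (i : I) : (coneFst T s).π.app i = s.π.app i ≫ fst _ _ := rfl

theorem cone_snd_eq {I : Type*} [Category I] [IsCofiltered I] {F : I ⥤ C} (T : C)
    (s : Cone (F ⋙ tensorRight T)) (i j : I) :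
    s.π.app i ≫ snd _ _ = s.π.app j ≫ snd _ _ := by
  have hi : s.π.app (IsCofiltered.min i j) ≫ (F.map (IsCofiltered.minToLeft i j) ▷ T) =
      s.π.app i := s.w (IsCofiltered.minToLeft i j)
  have hj : s.π.app (IsCofiltered.min i j) ≫ (F.map (IsCofiltered.minToRight i j) ▷ T) =
      s.π.app j := s.w (IsCofiltered.minToRight i j)
  rw [← hi, ← hj, Category.assoc, Category.assoc, whiskerRight_snd, whiskerRight_snd]

/-- `- ⊗ T` preserves cofiltered limits (by hand). -/
noncomputable def isLimitWhiskerRight {I : Type*} [Category I] [IsCofiltered I] {F : I ⥤ C}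
    {c : Cone F} (hc : IsLimit c) (T : C) : IsLimit ((tensorRight T).mapCone c) := by
  haveI : Nonempty I := IsCofiltered.nonempty
  exact
  { lift := fun s => lift (hc.lift (coneFst T s) : s.pt ⟶ c.pt)
      ((s.π.app (Classical.arbitrary I) : s.pt ⟶ _) ≫ snd _ _)
    fac := by
      intro s i
      show lift (hc.lift (coneFst T s) : s.pt ⟶ c.pt)
        ((s.π.app (Classical.arbitrary I) : s.pt ⟶ _) ≫ snd _ _) ≫
        ((c.π.app i : c.pt ⟶ F.obj i) ▷ T) = s.π.app i
      apply CartesianMonoidalCategory.hom_ext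
      · simp only [Functor.const_obj_obj, Category.assoc, whiskerRight_fst, lift_fst_assoc]
        exact hc.fac (coneFst T s) i
      · simp only [Functor.const_obj_obj, Category.assoc, whiskerRight_snd, lift_snd]
        exact cone_snd_eq T s _ _
    uniq := by
      intro s m hm
      have hm' : ∀ i, (m : s.pt ⟶ c.pt ⊗ T) ≫ ((c.π.app i : c.pt ⟶ F.obj i) ▷ T) =
          s.π.app i := hm
      show (m : s.pt ⟶ c.pt ⊗ T) = lift (hc.lift (coneFst T s) : s.pt ⟶ c.pt)
        ((s.π.app (Classical.arbitrary I) : s.pt ⟶ _) ≫ snd _ _)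
      apply CartesianMonoidalCategory.hom_ext
      · refine Eq.trans ?_ (lift_fst _ _).symm
        apply hc.uniq (coneFst T s)
        intro i
        show ((m : s.pt ⟶ c.pt ⊗ T) ≫ fst _ _) ≫ (c.π.app i : c.pt ⟶ F.obj i) =
          s.π.app i ≫ fst _ _
        rw [← hm' i]
        simp only [Functor.const_obj_obj, Category.assoc, whiskerRight_fst]
      · refine Eq.trans ?_ (lift_snd _ _).symm
        rw [← hm' (Classical.arbitrary I)]
        exact (Eq.trans (Category.assoc m _ _)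
          (congrArg (fun k => m ≫ k) (whiskerRight_snd (c.π.app _) T))).symm }

/-- The swap `P ⊗ (Q ⊗ R) ⟶ Q ⊗ (P ⊗ R)`. -/
def swapL (P Q R : C) : P ⊗ (Q ⊗ R) ⟶ Q ⊗ (P ⊗ R) :=
  lift (snd _ _ ≫ fst _ _) (lift (fst _ _) (snd _ _ ≫ snd _ _))

theorem lift_swapL {P Q R W : C} (p : W ⟶ P) (q : W ⟶ Q) (r : W ⟶ R) :
    lift p (lift q r) ≫ swapL P Q R = lift q (lift p r) := by
  unfold swapL
  apply CartesianMonoidalCategory.hom_ext
  · rw [Category.assoc, lift_fst, lift_snd_assoc, lift_fst, lift_fst]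
  · rw [Category.assoc, lift_snd, lift_snd]
    apply CartesianMonoidalCategory.hom_ext
    · rw [Category.assoc, lift_fst, lift_fst, lift_fst]
    · rw [Category.assoc, lift_snd, lift_snd_assoc, lift_snd, lift_snd]

theorem swapL_swapL (P Q R : C) : swapL P Q R ≫ swapL Q P R = 𝟙 _ := by
  apply Magnet.hom_ext_lift₂
  intro W p z
  obtain ⟨q, r, rfl⟩ : ∃ (q : W ⟶ Q) (r : W ⟶ R), z = lift q r :=
    ⟨z ≫ fst _ _, z ≫ snd _ _, (lift_comp_fst_snd z).symm⟩
  rw [← Category.assoc, lift_swapL, lift_swapL, Category.comp_id]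

theorem swapL_natural {P Q Q' R : C} (π : Q' ⟶ Q) :
    (π ▷ (P ⊗ R)) ≫ swapL Q P R = swapL Q' P R ≫ (P ◁ (π ▷ R)) := by
  apply Magnet.hom_ext_lift₂
  intro W q z
  obtain ⟨p, r, rfl⟩ : ∃ (p : W ⟶ P) (r : W ⟶ R), z = lift p r :=
    ⟨z ≫ fst _ _, z ≫ snd _ _, (lift_comp_fst_snd z).symm⟩
  rw [← Category.assoc, lift_whiskerRight, lift_swapL, ← Category.assoc, lift_swapL,
    lift_whiskerLeft, lift_whiskerRight]

open Magnet in
/-- Equivariance descends along an equivariant `π : B' ⟶ B` for which `A ◁ (π ▷ T)` is "epi for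
maps to `X`". -/
theorem isEquivariant_of_comp {A B B' X T : C} [MonObj A] (ρ : MonAct A B) (ρ' : MonAct A B')
    (a : MonAct A X) (π : B' ⟶ B) (hπ : MonAct.IsEquivariant ρ' ρ π) (g : B ⊗ T ⟶ X)
    (hg : MonAct.IsEquivariant (ρ'.prod (MonAct.trivial A T)) a ((π ▷ T) ≫ g))
    (hepi : ∀ u v : A ⊗ (B ⊗ T) ⟶ X, (A ◁ (π ▷ T)) ≫ u = (A ◁ (π ▷ T)) ≫ v → u = v) :
    MonAct.IsEquivariant (ρ.prod (MonAct.trivial A T)) a g := by
  have hgp := (MonAct.mem_eqvHom_iff ((π ▷ T) ≫ g)).mp hg
  have hπp := (MonAct.isEquivariant_iff ρ' ρ π).mp hπ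
  show (ρ.prod (MonAct.trivial A T)).act ≫ g = (A ◁ g) ≫ a.act
  apply hepi
  apply hom_ext_lift₂
  intro T' h z
  obtain ⟨b', t, rfl⟩ : ∃ (b' : T' ⟶ B') (t : T' ⟶ T), z = lift b' t :=
    ⟨z ≫ fst _ _, z ≫ snd _ _, (lift_comp_fst_snd z).symm⟩
  have e1 : lift h (lift b' t) ≫ (A ◁ (π ▷ T)) = lift h (lift (b' ≫ π) t) := by
    rw [lift_whiskerLeft, lift_whiskerRight]
  have e2 : lift h (lift (b' ≫ π) t) ≫ (ρ.prod (MonAct.trivial A T)).act =
      lift (lift h (b' ≫ π) ≫ ρ.act) t := by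
    rw [MonAct.lift_prod_act, MonAct.lift_trivial_act]
  have e3 : lift h (b' ≫ π) ≫ ρ.act = (lift h b' ≫ ρ'.act) ≫ π := by
    rw [Category.assoc]
    exact (hπp T' h b').symm
  have e4 : lift ((lift h b' ≫ ρ'.act) ≫ π) t = lift (lift h b' ≫ ρ'.act) t ≫ (π ▷ T) := by
    rw [lift_whiskerRight]
  have e5 : lift (lift h b' ≫ ρ'.act) t ≫ (π ▷ T) ≫ g =
      lift h (lift b' t ≫ (π ▷ T) ≫ g) ≫ a.act := hgp T' h b' t
  have e6 : lift b' t ≫ (π ▷ T) ≫ g = lift (b' ≫ π) t ≫ g := by
    rw [lift_whiskerRight_assoc]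
  calc lift h (lift b' t) ≫ (A ◁ (π ▷ T)) ≫ (ρ.prod (MonAct.trivial A T)).act ≫ g
      = (lift h (lift b' t) ≫ (A ◁ (π ▷ T))) ≫ (ρ.prod (MonAct.trivial A T)).act ≫ g := by
        rw [Category.assoc]
    _ = (lift h (lift (b' ≫ π) t) ≫ (ρ.prod (MonAct.trivial A T)).act) ≫ g := by
        rw [e1, Category.assoc]
    _ = lift (lift h b' ≫ ρ'.act) t ≫ (π ▷ T) ≫ g := by
        rw [e2, e3, e4, Category.assoc]
    _ = lift h (lift (b' ≫ π) t ≫ g) ≫ a.act := by rw [e5, e6]
    _ = (lift h (lift b' t) ≫ (A ◁ (π ▷ T))) ≫ (A ◁ g) ≫ a.act := by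
        rw [e1, lift_whiskerLeft_assoc]
    _ = lift h (lift b' t) ≫ (A ◁ (π ▷ T)) ≫ (A ◁ g) ≫ a.act := by
        rw [Category.assoc]

end General


/-! ### The colimit of monoid algebras along a directed union of submonoids -/

section Colim

variable (R : Type u) [CommRing R] {M : Type} [AddCommMonoid M]

theorem algHom_ext_single {G : Type*} [Monoid G] {B : Type*} [CommRing B] [Algebra R B]
    {φ₁ φ₂ : MonoidAlgebra R G →ₐ[R] B}
    (h : ∀ m : G, φ₁ (MonoidAlgebra.single m 1) = φ₂ (MonoidAlgebra.single m 1)) : φ₁ = φ₂ :=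
  (MonoidAlgebra.lift R B G).symm.injective (MonoidHom.ext h)

/-- The algebra map `R[P] → R[Q]` for submonoids `P ≤ Q` (the spelling of `Magnet.AMon.map`). -/
noncomputable def incAlg {P Q : AddSubmonoid M} (h : P ≤ Q) :
    MonoidAlgebra R (Multiplicative P) →ₐ[R] MonoidAlgebra R (Multiplicative Q) :=
  (MonoidAlgebra.mapDomainBialgHom R
    (AddMonoidHom.toMultiplicative (AddSubmonoid.inclusion h))).toAlgHom

theorem incAlg_single {P Q : AddSubmonoid M} (h : P ≤ Q) (m : M) (hm : m ∈ P) (r : R) :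
    incAlg R h (MonoidAlgebra.single (Multiplicative.ofAdd (⟨m, hm⟩ : P)) r) =
      MonoidAlgebra.single (Multiplicative.ofAdd (⟨m, h hm⟩ : Q)) r := by
  show MonoidAlgebra.mapDomainBialgHom R
    (AddMonoidHom.toMultiplicative (AddSubmonoid.inclusion h))
    (MonoidAlgebra.single (Multiplicative.ofAdd (⟨m, hm⟩ : P)) r) = _
  rw [MonoidAlgebra.mapDomainBialgHom_single]
  rfl

theorem incAlg_refl (P : AddSubmonoid M) : incAlg R (le_refl P) = AlgHom.id R _ := by
  apply algHom_ext_single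
  intro x
  obtain ⟨⟨m, hm⟩, rfl⟩ : ∃ y : P, x = Multiplicative.ofAdd y := ⟨x.toAdd, rfl⟩
  exact incAlg_single R (le_refl P) m hm 1

theorem incAlg_trans {P Q L : AddSubmonoid M} (h : P ≤ Q) (h' : Q ≤ L) :
    (incAlg R h').comp (incAlg R h) = incAlg R (h.trans h') := by
  apply algHom_ext_single
  intro x
  obtain ⟨⟨m, hm⟩, rfl⟩ : ∃ y : P, x = Multiplicative.ofAdd y := ⟨x.toAdd, rfl⟩
  rw [AlgHom.comp_apply, incAlg_single, incAlg_single, incAlg_single]

variable {J : Type} [Preorder J] [IsDirected J (· ≤ ·)] [Nonempty J]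
  (N : J → AddSubmonoid M) (hN : Monotone N)

instance : IsDirected (ULift.{u} J) (· ≤ ·) :=
  ⟨fun a b => by
    obtain ⟨c, h1, h2⟩ := exists_ge_ge a.down b.down
    exact ⟨⟨c⟩, h1, h2⟩⟩

/-- The diagram `i ↦ R[N i]`. -/
noncomputable def F₀ : ULift.{u} J ⥤ CommAlgCat.{u} R where
  obj i := CommAlgCat.of R (MonoidAlgebra R (Multiplicative (N i.down)))
  map {i j} f := CommAlgCat.ofHom (incAlg R (hN (show i.down ≤ j.down from (leOfHom f : i ≤ j))))
  map_id i := by
    rw [← CommAlgCat.ofHom_id]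
    exact congrArg CommAlgCat.ofHom (incAlg_refl R (N i.down))
  map_comp {i j k} f g := by
    rw [← CommAlgCat.ofHom_comp]
    exact congrArg CommAlgCat.ofHom (incAlg_trans R _ _).symm

/-- The cocone `R[N i] → R[⨆ N]`. -/
noncomputable def coc : Cocone (F₀ R N hN) :=
  ⟨CommAlgCat.of R (MonoidAlgebra R (Multiplicative (⨆ i, N i : AddSubmonoid M))),
    { app := fun i => CommAlgCat.ofHom (incAlg R (le_iSup N i.down))
      naturality := by
        intro i j f
        show CommAlgCat.ofHom (incAlg R (hN (show i.down ≤ j.down from (leOfHom f : i ≤ j)))) ≫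
          CommAlgCat.ofHom (incAlg R (le_iSup N j.down)) =
          CommAlgCat.ofHom (incAlg R (le_iSup N i.down)) ≫ 𝟙 _
        rw [Category.comp_id, ← CommAlgCat.ofHom_comp]
        exact congrArg CommAlgCat.ofHom (incAlg_trans R _ _) }⟩

/-- The components of a cocone, as algebra maps out of monoid algebras. -/
noncomputable def θ (s : Cocone (F₀ R N hN)) (i : J) :
    MonoidAlgebra R (Multiplicative (N i)) →ₐ[R] s.pt := (s.ι.app ⟨i⟩).hom

include hN in
theorem exists_mem (m : M) (hm : m ∈ ⨆ i, N i) : ∃ i, m ∈ N i :=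
  (AddSubmonoid.mem_iSup_of_directed hN.directed_le).mp hm

/-- The value of a cocone on a monomial. -/
noncomputable def cocVal (s : Cocone (F₀ R N hN)) (i : J) (m : M) (hm : m ∈ N i) : s.pt :=
  θ R N hN s i (MonoidAlgebra.single (Multiplicative.ofAdd (⟨m, hm⟩ : N i)) (1 : R))

theorem cocVal_mono (s : Cocone (F₀ R N hN)) {i j : J} (h : i ≤ j) (m : M) (hm : m ∈ N i) :
    cocVal R N hN s i m hm = cocVal R N hN s j m (hN h hm) := by
  have hw : (F₀ R N hN).map (homOfLE (show (ULift.up i : ULift.{u} J) ≤ ULift.up j from h)) ≫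
      s.ι.app ⟨j⟩ = s.ι.app ⟨i⟩ := s.w _
  have h2 : θ R N hN s i
      (MonoidAlgebra.single (Multiplicative.ofAdd (⟨m, hm⟩ : N i)) (1 : R)) =
      θ R N hN s j (incAlg R (hN h)
        (MonoidAlgebra.single (Multiplicative.ofAdd (⟨m, hm⟩ : N i)) (1 : R))) := by
    unfold θ
    rw [← hw]
    rfl
  unfold cocVal
  rw [h2, incAlg_single]

theorem cocVal_add (s : Cocone (F₀ R N hN)) (i : J) (x y : M) (hx : x ∈ N i) (hy : y ∈ N i) :
    cocVal R N hN s i (x + y) ((N i).add_mem hx hy) =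
      cocVal R N hN s i x hx * cocVal R N hN s i y hy := by
  have h1 : MonoidAlgebra.single (Multiplicative.ofAdd (⟨x, hx⟩ : N i)) (1 : R) *
      MonoidAlgebra.single (Multiplicative.ofAdd (⟨y, hy⟩ : N i)) (1 : R) =
      MonoidAlgebra.single
        (Multiplicative.ofAdd (⟨x, hx⟩ : N i) * Multiplicative.ofAdd (⟨y, hy⟩ : N i)) (1 : R) := by
    rw [MonoidAlgebra.single_mul_single, _root_.mul_one]
  show θ R N hN s i (MonoidAlgebra.single
      (Multiplicative.ofAdd (⟨x, hx⟩ : N i) * Multiplicative.ofAdd (⟨y, hy⟩ : N i)) (1 : R)) =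
    θ R N hN s i (MonoidAlgebra.single (Multiplicative.ofAdd (⟨x, hx⟩ : N i)) (1 : R)) *
    θ R N hN s i (MonoidAlgebra.single (Multiplicative.ofAdd (⟨y, hy⟩ : N i)) (1 : R))
  rw [← h1]
  exact _root_.map_mul (θ R N hN s i) _ _

theorem cocVal_zero (s : Cocone (F₀ R N hN)) (i : J) :
    cocVal R N hN s i 0 (N i).zero_mem = 1 := by
  have h1 : MonoidAlgebra.single (Multiplicative.ofAdd (⟨0, (N i).zero_mem⟩ : N i)) (1 : R) =
      (1 : MonoidAlgebra R (Multiplicative (N i))) := by
    rw [MonoidAlgebra.one_def]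
    rfl
  unfold cocVal
  rw [h1]
  exact _root_.map_one (θ R N hN s i)

/-- The descended function on `⨆ N`. -/
noncomputable def descFun (s : Cocone (F₀ R N hN))
    (x : Multiplicative (⨆ i, N i : AddSubmonoid M)) : s.pt :=
  cocVal R N hN s (Classical.choose (exists_mem N hN x.toAdd.1 x.toAdd.2)) x.toAdd.1
    (Classical.choose_spec (exists_mem N hN x.toAdd.1 x.toAdd.2))

theorem descFun_eq (s : Cocone (F₀ R N hN)) (x : Multiplicative (⨆ i, N i : AddSubmonoid M))
    (i : J) (hi : x.toAdd.1 ∈ N i) : descFun R N hN s x = cocVal R N hN s i x.toAdd.1 hi := by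
  obtain ⟨k, hk1, hk2⟩ :=
    exists_ge_ge (Classical.choose (exists_mem N hN x.toAdd.1 x.toAdd.2)) i
  unfold descFun
  rw [cocVal_mono R N hN s hk1, cocVal_mono R N hN s hk2]

/-- The descended monoid hom. -/
noncomputable def descHom (s : Cocone (F₀ R N hN)) :
    Multiplicative (⨆ i, N i : AddSubmonoid M) →* s.pt where
  toFun := descFun R N hN s
  map_one' := by
    obtain ⟨i⟩ := (inferInstance : Nonempty J)
    have h := descFun_eq R N hN s (1 : Multiplicative (⨆ i, N i : AddSubmonoid M)) i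
      (N i).zero_mem
    rw [h]
    exact cocVal_zero R N hN s i
  map_mul' := by
    intro x y
    obtain ⟨i, hi⟩ := exists_mem N hN x.toAdd.1 x.toAdd.2
    obtain ⟨j, hj⟩ := exists_mem N hN y.toAdd.1 y.toAdd.2
    obtain ⟨k, hk1, hk2⟩ := exists_ge_ge i j
    rw [descFun_eq R N hN s x k (hN hk1 hi), descFun_eq R N hN s y k (hN hk2 hj),
      descFun_eq R N hN s (x * y) k ((N k).add_mem (hN hk1 hi) (hN hk2 hj))]
    exact cocVal_add R N hN s k _ _ _ _

/-- The cocone `coc` is a colimit. -/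
noncomputable def isColimitCoc : IsColimit (coc R N hN) where
  desc s := CommAlgCat.ofHom (MonoidAlgebra.lift R s.pt _ (descHom R N hN s))
  fac := by
    intro s i
    apply CommAlgCat.hom_ext
    apply algHom_ext_single
    intro x
    obtain ⟨⟨m, hm⟩, rfl⟩ : ∃ y : N i.down, x = Multiplicative.ofAdd y := ⟨x.toAdd, rfl⟩
    show MonoidAlgebra.lift R s.pt _ (descHom R N hN s)
      (incAlg R (le_iSup N i.down) (MonoidAlgebra.single (Multiplicative.ofAdd ⟨m, hm⟩) 1)) =
      (s.ι.app i).hom (MonoidAlgebra.single (Multiplicative.ofAdd ⟨m, hm⟩) 1)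
    rw [incAlg_single, MonoidAlgebra.lift_single, _root_.one_smul]
    exact descFun_eq R N hN s
      (Multiplicative.ofAdd (⟨m, le_iSup N i.down hm⟩ : ↥(⨆ i, N i : AddSubmonoid M))) i.down hm
  uniq := by
    intro s m' hm'
    apply CommAlgCat.hom_ext
    apply algHom_ext_single
    intro x
    obtain ⟨i, hi⟩ := exists_mem N hN x.toAdd.1 x.toAdd.2
    have h1 : (MonoidAlgebra.lift R s.pt _ (descHom R N hN s))
        (MonoidAlgebra.single x 1) = cocVal R N hN s i x.toAdd.1 hi := by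
      rw [MonoidAlgebra.lift_single, _root_.one_smul]
      exact descFun_eq R N hN s x i hi
    have h2 : (coc R N hN).ι.app ⟨i⟩ ≫ m' = s.ι.app ⟨i⟩ := hm' ⟨i⟩
    have h3 : cocVal R N hN s i x.toAdd.1 hi =
        m'.hom (incAlg R (le_iSup N i)
          (MonoidAlgebra.single (Multiplicative.ofAdd (⟨x.toAdd.1, hi⟩ : N i)) 1)) := by
      unfold cocVal θ
      rw [← h2]
      rfl
    show m'.hom (MonoidAlgebra.single x 1) = _
    refine Eq.trans ?_ h1.symm
    rw [h3, incAlg_single]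
    rfl

end Colim

/-! ### Geometry: the limit of the `A(N i)_S ×_S T` and descent of equivariant morphisms -/

section Geom

variable {M : Type} [AddCommMonoid M]

/-- `algSpec` of `incAlg` is `AMon.map` of the inclusion. -/
theorem algSpec_map_incAlg (R : Type u) [CommRing R] {P Q : AddSubmonoid M} (h : P ≤ Q) :
    ((algSpec (CommRingCat.of R)).map (CommAlgCat.ofHom (incAlg R h)).op :
      Magnet.AMon R Q ⟶ Magnet.AMon R P) = Magnet.AMon.map R (AddSubmonoid.inclusion h) := by
  apply Over.OverMorphism.ext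
  rfl

/-- Equivariance descends along `A(Q)_S ×_S T ⟶ A(P)_S ×_S T` for `P ≤ Q` when the target is
separated (density of the map). -/
theorem isEquivariant_of_whisker (S : Scheme.{u}) (M : Type) [AddCommMonoid M] (X : Over S)
    [IsSeparated X.hom] (a : Magnet.MonAct (Magnet.AMonS S M) X) {P Q : AddSubmonoid M} (h : P ≤ Q)
    (T : Over S) (g : Magnet.AMonS S P ⊗ T ⟶ X)
    (hg : Magnet.MonAct.IsEquivariant
      ((Magnet.subAct S M Q).prod (Magnet.MonAct.trivial (Magnet.AMonS S M) T)) a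
      ((Magnet.AMonS.map S (AddSubmonoid.inclusion h) ▷ T) ≫ g)) :
    Magnet.MonAct.IsEquivariant
      ((Magnet.subAct S M P).prod (Magnet.MonAct.trivial (Magnet.AMonS S M) T)) a g := by
  have hinj : Function.Injective (AddSubmonoid.inclusion h) :=
    fun x y hxy => Subtype.ext (congrArg (fun z : ↥Q => (z : M)) hxy)
  have hπeq : Magnet.MonAct.IsEquivariant (Magnet.subAct S M Q) (Magnet.subAct S M P)
      (Magnet.AMonS.map S (AddSubmonoid.inclusion h)) :=
    Magnet.MonAct.isEquivariant_restrict_regular (Magnet.AMonS.map S Q.subtype)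
      (Magnet.AMonS.map S P.subtype) (Magnet.AMonS.map S (AddSubmonoid.inclusion h))
      (by rw [← Magnet.AMonS.map_comp]; rfl)
  refine isEquivariant_of_comp (Magnet.subAct S M P) (Magnet.subAct S M Q) a
    (Magnet.AMonS.map S (AddSubmonoid.inclusion h)) hπeq g hg ?_
  intro u v huv
  haveI : IsSchemeTheoreticallyDominant
      ((Magnet.AMonS.map S (AddSubmonoid.inclusion h)) ▷ (Magnet.AMonS S M ⊗ T)).left :=
    MagnetDense.dominant_AMonS_map_whiskerRight S (AddSubmonoid.inclusion h) hinj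
      (Magnet.AMonS S M ⊗ T)
  have hn := swapL_natural (P := Magnet.AMonS S M) (R := T)
    (Magnet.AMonS.map S (AddSubmonoid.inclusion h))
  have h1 : ((Magnet.AMonS.map S (AddSubmonoid.inclusion h)) ▷ (Magnet.AMonS S M ⊗ T)) ≫
      (swapL (Magnet.AMonS S P) (Magnet.AMonS S M) T ≫ u) =
      ((Magnet.AMonS.map S (AddSubmonoid.inclusion h)) ▷ (Magnet.AMonS S M ⊗ T)) ≫
      (swapL (Magnet.AMonS S P) (Magnet.AMonS S M) T ≫ v) := by
    rw [← Category.assoc, ← Category.assoc, hn, Category.assoc, Category.assoc, huv]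
  have h2 : swapL (Magnet.AMonS S P) (Magnet.AMonS S M) T ≫ u =
      swapL (Magnet.AMonS S P) (Magnet.AMonS S M) T ≫ v :=
    MagnetDense.eq_of_dominant_comp_eq
      ((Magnet.AMonS.map S (AddSubmonoid.inclusion h)) ▷ (Magnet.AMonS S M ⊗ T)) h1
  calc u = (swapL (Magnet.AMonS S M) (Magnet.AMonS S P) T ≫
        swapL (Magnet.AMonS S P) (Magnet.AMonS S M) T) ≫ u := by
        rw [swapL_swapL, Category.id_comp]
    _ = swapL (Magnet.AMonS S M) (Magnet.AMonS S P) T ≫
        (swapL (Magnet.AMonS S P) (Magnet.AMonS S M) T ≫ v) := by rw [Category.assoc, h2]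
    _ = v := by rw [← Category.assoc, swapL_swapL, Category.id_comp]

variable (S : Scheme.{u}) {J : Type} [Preorder J] [IsDirected J (· ≤ ·)] [Nonempty J]
  (N : J → AddSubmonoid M) (hN : Monotone N)

/-- The structure morphism to `Spec ℤ`. -/
noncomputable abbrev g₀ : S ⟶ Spec (CommRingCat.of (ULift.{u} ℤ)) :=
  Limits.IsTerminal.from specULiftZIsTerminal S

/-- The diagram `i ↦ A(N i)_S` in `Over S`. -/
noncomputable def DS : (ULift.{u} J)ᵒᵖ ⥤ Over S :=
  ((F₀ (ULift.{u} ℤ) N hN).op ⋙ algSpec (CommRingCat.of (ULift.{u} ℤ))) ⋙ Over.pullback (g₀ S)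

/-- The cone with vertex `A(⨆ N)_S`. -/
noncomputable def cS : Cone (DS S N hN) :=
  (Over.pullback (g₀ S)).mapCone
    ((algSpec (CommRingCat.of (ULift.{u} ℤ))).mapCone (coc (ULift.{u} ℤ) N hN).op)

/-- `A(⨆ N)_S = lim A(N i)_S`. -/
noncomputable def isLimitCS : IsLimit (cS S N hN) := by
  haveI h1 : PreservesLimitsOfSize.{u, u} (algSpec (CommRingCat.of (ULift.{u} ℤ))) :=
    preservesLimitsOfSize_algSpec
  haveI h2 : PreservesLimitsOfShape (ULift.{u} J)ᵒᵖ (algSpec (CommRingCat.of (ULift.{u} ℤ))) :=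
    h1.preservesLimitsOfShape
  haveI h3 : PreservesLimit (F₀ (ULift.{u} ℤ) N hN).op
      (algSpec (CommRingCat.of (ULift.{u} ℤ))) := h2.preservesLimit
  exact isLimitOfPreserves (Over.pullback (g₀ S))
    (isLimitOfPreserves (algSpec (CommRingCat.of (ULift.{u} ℤ)))
      (isColimitCoc (ULift.{u} ℤ) N hN).op)

/-- The diagram `i ↦ A(N i)_S ×_S T` of schemes. -/
noncomputable def DT (T : Over S) : (ULift.{u} J)ᵒᵖ ⥤ Scheme.{u} :=
  (DS S N hN ⋙ tensorRight T) ⋙ Over.forget S

/-- The cone with vertex `A(⨆ N)_S ×_S T`. -/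
noncomputable def cT (T : Over S) : Cone (DT S N hN T) :=
  (Over.forget S).mapCone ((tensorRight T).mapCone (cS S N hN))

/-- `A(⨆ N)_S ×_S T = lim A(N i)_S ×_S T` as schemes. -/
noncomputable def isLimitCT (T : Over S) : IsLimit (cT S N hN T) := by
  haveI : IsConnected (ULift.{u} J)ᵒᵖ := IsCofiltered.isConnected _
  exact isLimitOfPreserves (Over.forget S) (isLimitWhiskerRight (isLimitCS S N hN) T)

/-- The structure morphisms of the diagram. -/
noncomputable def tT (T : Over S) : DT S N hN T ⟶ (Functor.const _).obj S where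
  app i := ((DS S N hN ⋙ tensorRight T).obj i).hom
  naturality i j f := by
    show ((DS S N hN ⋙ tensorRight T).map f).left ≫ ((DS S N hN ⋙ tensorRight T).obj j).hom =
      ((DS S N hN ⋙ tensorRight T).obj i).hom ≫ 𝟙 S
    rw [Category.comp_id]
    exact Over.w _

instance isAffine_DT (T : Over S) [IsAffine T.left] (i : (ULift.{u} J)ᵒᵖ) :
    IsAffine ((DT S N hN T).obj i) := by
  have hB : IsAffineHom (Magnet.AMon (ULift.{u} ℤ) (N i.unop.down)).hom :=
    @isAffineHom_of_isAffine _ _ (Magnet.AMon (ULift.{u} ℤ) (N i.unop.down)).hom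
      (show IsAffine (Spec _) from inferInstance) (show IsAffine (Spec _) from inferInstance)
  haveI hsnd : IsAffineHom
      (pullback.snd (Magnet.AMon (ULift.{u} ℤ) (N i.unop.down)).hom (g₀ S)) :=
    MorphismProperty.pullback_snd _ _ hB
  show IsAffine
    (pullback (pullback.snd (Magnet.AMon (ULift.{u} ℤ) (N i.unop.down)).hom (g₀ S)) T.hom)
  infer_instance

/-- **Attractors commute with directed unions of magnets on affine test schemes.** -/
theorem exists_attr_of_iSup (S : Scheme.{u}) (M : Type) [AddCommMonoid M]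
    (X : Over S) [IsSeparated X.hom] [LocallyOfFinitePresentation X.hom]
    (a : Magnet.MonAct (Magnet.AMonS S M) X) {J : Type} [Preorder J] [IsDirected J (· ≤ ·)]
    [Nonempty J] (N : J → AddSubmonoid M) (hN : Monotone N) (T : Over S) [IsAffine T.left]
    (φ : (Magnet.attr a (⨆ i, N i)).obj (op T)) :
    ∃ (i : J) (ψ : (Magnet.attr a (N i)).obj (op T)),
      (Magnet.attrMap a (le_iSup N i)).app (op T) ψ = φ := by
  have ha : (cT S N hN T).π ≫ tT S N hN T =
      (Functor.const _).map ((φ.1.left : (cT S N hN T).pt ⟶ X.left) ≫ X.hom) := by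
    apply NatTrans.ext
    funext i
    show ((cT S N hN T).π.app i) ≫ ((DS S N hN ⋙ tensorRight T).obj i).hom =
      φ.1.left ≫ X.hom
    exact (Over.w ((tensorRight T).map ((cS S N hN).π.app i))).trans (Over.w φ.1).symm
  obtain ⟨i, g, hg1, hg2⟩ := Scheme.exists_π_app_comp_eq_of_locallyOfFinitePresentation
    (DT S N hN T) (tT S N hN T) X.hom (cT S N hN T) (isLimitCT S N hN T) φ.1.left ha
  obtain ⟨g', rfl⟩ : ∃ g' : Magnet.AMonS S ↥(N i.unop.down) ⊗ T ⟶ X, g'.left = g :=
    ⟨Over.homMk (U := Magnet.AMonS S ↥(N i.unop.down) ⊗ T) (V := X) g hg2, rfl⟩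
  have hπleft : (cT S N hN T).π.app i =
      ((Magnet.AMonS.map S (AddSubmonoid.inclusion (le_iSup N i.unop.down))) ▷ T).left :=
    congrArg (fun (k : Magnet.AMon (ULift.{u} ℤ) ↥(⨆ i, N i) ⟶
        Magnet.AMon (ULift.{u} ℤ) ↥(N i.unop.down)) =>
      (((Over.pullback (g₀ S)).map k) ▷ T).left)
      (algSpec_map_incAlg (ULift.{u} ℤ) (le_iSup N i.unop.down))
  have hE : (Magnet.AMonS.map S (AddSubmonoid.inclusion (le_iSup N i.unop.down)) ▷ T) ≫ g' =
      φ.1 := by
    apply Over.OverMorphism.ext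
    show ((Magnet.AMonS.map S (AddSubmonoid.inclusion (le_iSup N i.unop.down))) ▷ T).left ≫
      g'.left = φ.1.left
    rw [← hπleft]
    exact hg1
  exact ⟨i.unop.down, ⟨g', isEquivariant_of_whisker S M X a (le_iSup N i.unop.down) T g'
    (by rw [hE]; exact φ.2)⟩, Subtype.ext hE⟩

end Geom

end Groth.Agent.Lib.Helper40.MagnetLim
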