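import Mathlib
import Groth.Prelude.Def_Flatn

/-!
# `Mor_S(X, U)` is an open subfunctor of `Mor_S(X, Y)` for an open `U ⊆ Y` and proper `X`
-/

set_option autoImplicit false
open CategoryTheory CategoryTheory.Limits AlgebraicGeometry

namespace Groth.Agent.Lib.Helper40.MorOpen

section abstract

universe v w
variable {C : Type w} [Category.{v} C]

/-- A subfunctor of a representable functor, cut out by a monomorphism into the representing
object, is representable. -/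
theorem representableBy_of_sub (F F₀ : Cᵒᵖ ⥤ Type v) {M M₀ : C} (e : F.RepresentableBy M)
    (m : M₀ ⟶ M) [Mono m] (ι : ∀ T : C, F₀.obj (Opposite.op T) → F.obj (Opposite.op T))
    (hinj : ∀ T, Function.Injective (ι T))
    (hnat : ∀ (T T' : C) (ψ : T' ⟶ T) (a : F₀.obj (Opposite.op T)),
      ι T' (F₀.map ψ.op a) = F.map ψ.op (ι T a))
    (hiff : ∀ (T : C) (φ : T ⟶ M),
      (∃ φ₀ : T ⟶ M₀, φ₀ ≫ m = φ) ↔ (∃ a₀, ι T a₀ = e.homEquiv φ)) :
    ∃ e₀ : F₀.RepresentableBy M₀,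
      ∀ (T : C) (φ₀ : T ⟶ M₀), ι T (e₀.homEquiv φ₀) = e.homEquiv (φ₀ ≫ m) := by
  have h1 : ∀ (T : C) (φ₀ : T ⟶ M₀), ∃ a₀, ι T a₀ = e.homEquiv (φ₀ ≫ m) :=
    fun T φ₀ => (hiff T (φ₀ ≫ m)).mp ⟨φ₀, rfl⟩
  have h2 : ∀ (T : C) (a₀ : F₀.obj (Opposite.op T)),
      ∃ φ₀ : T ⟶ M₀, φ₀ ≫ m = e.homEquiv.symm (ι T a₀) :=
    fun T a₀ => (hiff T _).mpr ⟨a₀, by rw [Equiv.apply_symm_apply]⟩
  choose tf htf using h1
  choose inv hinv using h2
  refine ⟨{ homEquiv := fun {T} => ⟨tf T, inv T, ?_, ?_⟩, homEquiv_comp := ?_ },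
    fun T φ₀ => htf T φ₀⟩
  · intro φ₀
    rw [← cancel_mono m, hinv, htf, Equiv.symm_apply_apply]
  · intro a₀
    apply hinj
    rw [htf, hinv, Equiv.apply_symm_apply]
  · intro T T' ψ φ₀
    apply hinj
    show ι T (tf T (ψ ≫ φ₀)) = ι T (F₀.map ψ.op (tf T' φ₀))
    rw [htf, hnat, htf, Category.assoc, e.homEquiv_comp]

end abstract

section geom

universe u
variable {X Y U S : Scheme.{u}} (gX : X ⟶ S) (gY : Y ⟶ S) (j : U ⟶ Y) (M : Over S)
  (e : (Flatn.morS gX gY).RepresentableBy M)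

/-- The functor `T ↦ T ×_S X`. -/
noncomputable abbrev Φ : Over S ⥤ Over S := Over.pullback gX ⋙ Over.map gX

/-- The universal morphism `M ×_S X ⟶ Y`. -/
noncomputable abbrev aU : pullback M.hom gX ⟶ Y :=
  (e.homEquiv (𝟙 M) : (Φ gX).obj M ⟶ Over.mk gY).left

/-- The base change map `T ×_S X ⟶ M ×_S X`. -/
noncomputable abbrev bc {T : Over S} (φ : T ⟶ M) : pullback T.hom gX ⟶ pullback M.hom gX :=
  ((Φ gX).map φ).left

lemma bc_fst {T : Over S} (φ : T ⟶ M) :
    bc gX M φ ≫ pullback.fst M.hom gX = pullback.fst T.hom gX ≫ φ.left :=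
  pullback.lift_fst _ _ _

lemma bc_snd {T : Over S} (φ : T ⟶ M) :
    bc gX M φ ≫ pullback.snd M.hom gX = pullback.snd T.hom gX :=
  pullback.lift_snd _ _ _

lemma isPullback_bc {T : Over S} (φ : T ⟶ M) :
    IsPullback (bc gX M φ) (pullback.fst T.hom gX) (pullback.fst M.hom gX) φ.left := by
  have big : IsPullback (bc gX M φ ≫ pullback.snd M.hom gX) (pullback.fst T.hom gX) gX
      (φ.left ≫ M.hom) := by
    rw [bc_snd, Over.w φ]; exact (IsPullback.of_hasPullback T.hom gX).flip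
  exact IsPullback.of_right big (bc_fst gX M φ) (IsPullback.of_hasPullback M.hom gX).flip

lemma homEquiv_left {T : Over S} (φ : T ⟶ M) :
    (e.homEquiv φ : (Φ gX).obj T ⟶ Over.mk gY).left = bc gX M φ ≫ aU gX gY M e := by
  have h : e.homEquiv φ = (Flatn.morS gX gY).map φ.op (e.homEquiv (𝟙 M)) := by
    rw [← e.homEquiv_comp, Category.comp_id]
  rw [h]
  rfl

/-- Points of `M ×_S X` which the universal morphism sends outside `U`. -/
def bad : Set ↥(pullback M.hom gX) := {x | (aU gX gY M e) x ∉ Set.range j}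

lemma isClosed_bad [IsOpenImmersion j] : IsClosed (bad gX gY j M e) :=
  (isClosed_compl_iff.mpr j.isOpenEmbedding.isOpen_range).preimage (aU gX gY M e).continuous

/-- The open locus of `M` over which the universal morphism lands in `U`. -/
noncomputable def M₀ [IsProper gX] [IsOpenImmersion j] : M.left.Opens :=
  ⟨((pullback.fst M.hom gX) '' bad gX gY j M e)ᶜ,
    ((pullback.fst M.hom gX).isClosedMap _ (isClosed_bad gX gY j M e)).isOpen_compl⟩

variable [IsProper gX] [IsOpenImmersion j]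

lemma range_iff {T : Over S} (φ : T ⟶ M) :
    Set.range φ.left ⊆ Set.range (M₀ gX gY j M e).ι ↔
      Set.range (e.homEquiv φ : (Φ gX).obj T ⟶ Over.mk gY).left ⊆ Set.range j := by
  rw [homEquiv_left, Scheme.Opens.range_ι]
  constructor
  · intro h
    rintro _ ⟨w, rfl⟩
    rw [Scheme.Hom.comp_apply]
    by_contra hcon
    have h1 : φ.left ((pullback.fst T.hom gX) w) ∈ ((M₀ gX gY j M e : M.left.Opens) : Set M.left) :=
      h (Set.mem_range_self _)
    have h2 : φ.left ((pullback.fst T.hom gX) w) ∉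
        (pullback.fst M.hom gX) '' bad gX gY j M e := h1
    apply h2
    refine ⟨(bc gX M φ) w, hcon, ?_⟩
    rw [← Scheme.Hom.comp_apply, bc_fst, Scheme.Hom.comp_apply]
  · intro h
    rintro _ ⟨t, rfl⟩
    show φ.left t ∉ (pullback.fst M.hom gX) '' bad gX gY j M e
    rintro ⟨x, hx, hxt⟩
    obtain ⟨w, hw1, hw2⟩ :=
      Scheme.exists_preimage_of_isPullback (isPullback_bc gX M φ) x t hxt
    apply hx
    have h3 : (bc gX M φ ≫ aU gX gY M e) w ∈ Set.range j := h (Set.mem_range_self _)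
    rw [Scheme.Hom.comp_apply] at h3
    have h4 : (aU gX gY M e) ((bc gX M φ) w) = (aU gX gY M e) x := congrArg _ hw1
    rw [h4] at h3
    exact h3

/-- The open `M₀` over `S`. -/
noncomputable abbrev Mo : Over S := Over.mk ((M₀ gX gY j M e).ι ≫ M.hom)

/-- The inclusion `M₀ ⟶ M`. -/
noncomputable abbrev incl : Mo gX gY j M e ⟶ M := Over.homMk (M₀ gX gY j M e).ι rfl

/-- Composition with `j`. -/
noncomputable def ιfun (T : Over S) (a₀ : (Flatn.morS gX (j ≫ gY)).obj (Opposite.op T)) :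
    (Flatn.morS gX gY).obj (Opposite.op T) :=
  ((a₀ : (Φ gX).obj T ⟶ Over.mk (j ≫ gY)) ≫ (Over.homMk j rfl : Over.mk (j ≫ gY) ⟶ Over.mk gY) :
    (Φ gX).obj T ⟶ Over.mk gY)

lemma ιfun_left (T : Over S) (a₀ : (Flatn.morS gX (j ≫ gY)).obj (Opposite.op T)) :
    (ιfun gX gY j T a₀ : (Φ gX).obj T ⟶ Over.mk gY).left =
      (a₀ : (Φ gX).obj T ⟶ Over.mk (j ≫ gY)).left ≫ j := rfl

theorem main :
    ∃ (M₀ : M.left.Opens)
      (e₀ : (Flatn.morS gX (j ≫ gY)).RepresentableBy (Over.mk (M₀.ι ≫ M.hom))),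
      ∀ (T : Over S) (φ : T ⟶ Over.mk (M₀.ι ≫ M.hom)),
        (e.homEquiv (φ ≫ Over.homMk M₀.ι rfl) :
            (Over.map gX).obj ((Over.pullback gX).obj T) ⟶ Over.mk gY) =
          (e₀.homEquiv φ : (Over.map gX).obj ((Over.pullback gX).obj T) ⟶ Over.mk (j ≫ gY)) ≫
            (Over.homMk j rfl : Over.mk (j ≫ gY) ⟶ Over.mk gY) := by
  haveI : Mono (incl gX gY j M e).left := (inferInstance : Mono (M₀ gX gY j M e).ι)
  haveI : Mono (incl gX gY j M e) := Over.mono_of_mono_left _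
  have hinj : ∀ T, Function.Injective (ιfun gX gY j T) := by
    intro T a b hab
    have h1 : (a : (Φ gX).obj T ⟶ Over.mk (j ≫ gY)).left ≫ j =
        (b : (Φ gX).obj T ⟶ Over.mk (j ≫ gY)).left ≫ j := by
      rw [← ιfun_left, ← ιfun_left, hab]
    exact Over.OverMorphism.ext ((cancel_mono j).mp h1)
  have hnat : ∀ (T T' : Over S) (ψ : T' ⟶ T) (a : (Flatn.morS gX (j ≫ gY)).obj (Opposite.op T)),
      ιfun gX gY j T' ((Flatn.morS gX (j ≫ gY)).map ψ.op a) =
        (Flatn.morS gX gY).map ψ.op (ιfun gX gY j T a) := by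
    intro T T' ψ a
    exact Category.assoc _ _ _
  have hiff : ∀ (T : Over S) (φ : T ⟶ M),
      (∃ φ₀ : T ⟶ Mo gX gY j M e, φ₀ ≫ incl gX gY j M e = φ) ↔
        (∃ a₀, ιfun gX gY j T a₀ = e.homEquiv φ) := by
    intro T φ
    constructor
    · rintro ⟨φ₀, rfl⟩
      have hr : Set.range (φ₀ ≫ incl gX gY j M e).left ⊆ Set.range (M₀ gX gY j M e).ι := by
        rintro _ ⟨t, rfl⟩
        exact ⟨φ₀.left t, rfl⟩
      have hr' := (range_iff gX gY j M e (φ₀ ≫ incl gX gY j M e)).mp hr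
      refine ⟨(Over.homMk (IsOpenImmersion.lift j _ hr') (by
        show IsOpenImmersion.lift j _ hr' ≫ j ≫ gY = _
        rw [← Category.assoc, IsOpenImmersion.lift_fac]
        exact Over.w (e.homEquiv (φ₀ ≫ incl gX gY j M e) : (Φ gX).obj T ⟶ Over.mk gY)) :
          (Φ gX).obj T ⟶ Over.mk (j ≫ gY)), ?_⟩
      exact Over.OverMorphism.ext (IsOpenImmersion.lift_fac _ _ _)
    · rintro ⟨a₀, ha₀⟩
      have hr' : Set.range (e.homEquiv φ : (Φ gX).obj T ⟶ Over.mk gY).left ⊆ Set.range j := by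
        rw [← ha₀, ιfun_left]
        rintro _ ⟨w, rfl⟩
        rw [Scheme.Hom.comp_apply]
        exact Set.mem_range_self _
      have hr := (range_iff gX gY j M e φ).mpr hr'
      exact ⟨Over.homMk (IsOpenImmersion.lift (M₀ gX gY j M e).ι φ.left hr) (by
        show IsOpenImmersion.lift (M₀ gX gY j M e).ι φ.left hr ≫ (M₀ gX gY j M e).ι ≫ M.hom = _
        rw [← Category.assoc, IsOpenImmersion.lift_fac, Over.w]),
        Over.OverMorphism.ext (IsOpenImmersion.lift_fac _ _ _)⟩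
  obtain ⟨e₀, he₀⟩ := representableBy_of_sub (Flatn.morS gX gY) (Flatn.morS gX (j ≫ gY)) e
    (incl gX gY j M e) (ιfun gX gY j) hinj hnat hiff
  exact ⟨M₀ gX gY j M e, e₀, fun T φ => (he₀ T φ).symm⟩

end geom

end Groth.Agent.Lib.Helper40.MorOpen
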