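import Mathlib
import Groth.Prelude.Def_Neron

/-!
# Néron mapping property and base change along a morphism whose generic-point square is cartesian

For a cartesian square `η' = η ×_S S'`, morphisms `Y' ⟶ N ×_S S'` over `S'` correspond to
morphisms `Y' ⟶ N` over `S`, compatibly with restriction to `η'` resp. `η`.  Applied to
`Spec R' ⟶ Spec R` finite étale between Dedekind domains.
-/

set_option autoImplicit false
universe u
open CategoryTheory CategoryTheory.Limits AlgebraicGeometry

namespace Groth.Agent.Lib.Helper40.NeronBC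

section General

variable {S S' η η' : Scheme.{u}}

theorem pb_map_left_fst {A B : Scheme.{u}} (j : A ⟶ B) {U V : Over B} (g : U ⟶ V) :
    ((Over.pullback j).map g).left ≫ pullback.fst V.hom j = pullback.fst U.hom j ≫ g.left :=
  pullback.lift_fst _ _ _

theorem pb_map_left_snd {A B : Scheme.{u}} (j : A ⟶ B) {U V : Over B} (g : U ⟶ V) :
    ((Over.pullback j).map g).left ≫ pullback.snd V.hom j = pullback.snd U.hom j :=
  pullback.lift_snd _ _ _

variable {f : S' ⟶ S} {ι : η ⟶ S} {ι' : η' ⟶ S'} {fK : η' ⟶ η}

/-- The comparison `Y' ×_S η ⟶ Y' ×_{S'} η'`. -/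
noncomputable def θ (hsq : IsPullback fK ι' ι f) (Y' : Over S') :
    pullback (Y'.hom ≫ f) ι ⟶ pullback Y'.hom ι' :=
  pullback.lift (pullback.fst (Y'.hom ≫ f) ι)
    (hsq.lift (pullback.snd (Y'.hom ≫ f) ι) (pullback.fst (Y'.hom ≫ f) ι ≫ Y'.hom)
      (by rw [Category.assoc]; exact pullback.condition.symm))
    (by rw [hsq.lift_snd])

theorem θ_fst (hsq : IsPullback fK ι' ι f) (Y' : Over S') :
    θ hsq Y' ≫ pullback.fst Y'.hom ι' = pullback.fst (Y'.hom ≫ f) ι := by
  unfold θ
  rw [pullback.lift_fst]

theorem θ_snd_fK (hsq : IsPullback fK ι' ι f) (Y' : Over S') :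
    θ hsq Y' ≫ pullback.snd Y'.hom ι' ≫ fK = pullback.snd (Y'.hom ≫ f) ι := by
  unfold θ
  rw [← Category.assoc, pullback.lift_snd, hsq.lift_fst]

theorem θ_snd_ι' (hsq : IsPullback fK ι' ι f) (Y' : Over S') :
    θ hsq Y' ≫ pullback.snd Y'.hom ι' ≫ ι' = pullback.fst (Y'.hom ≫ f) ι ≫ Y'.hom := by
  unfold θ
  rw [← Category.assoc, pullback.lift_snd, hsq.lift_snd]

/-- The inverse comparison. -/
noncomputable def θinv (hsq : IsPullback fK ι' ι f) (Y' : Over S') :
    pullback Y'.hom ι' ⟶ pullback (Y'.hom ≫ f) ι :=
  pullback.lift (pullback.fst Y'.hom ι') (pullback.snd Y'.hom ι' ≫ fK)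
    (by
      calc pullback.fst Y'.hom ι' ≫ Y'.hom ≫ f
          = (pullback.fst Y'.hom ι' ≫ Y'.hom) ≫ f := (Category.assoc _ _ _).symm
        _ = (pullback.snd Y'.hom ι' ≫ ι') ≫ f := by rw [pullback.condition]
        _ = pullback.snd Y'.hom ι' ≫ (ι' ≫ f) := Category.assoc _ _ _
        _ = pullback.snd Y'.hom ι' ≫ (fK ≫ ι) := by rw [hsq.w]
        _ = (pullback.snd Y'.hom ι' ≫ fK) ≫ ι := (Category.assoc _ _ _).symm)

theorem θinv_fst (hsq : IsPullback fK ι' ι f) (Y' : Over S') :
    θinv hsq Y' ≫ pullback.fst (Y'.hom ≫ f) ι = pullback.fst Y'.hom ι' := by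
  unfold θinv
  rw [pullback.lift_fst]

theorem θinv_snd (hsq : IsPullback fK ι' ι f) (Y' : Over S') :
    θinv hsq Y' ≫ pullback.snd (Y'.hom ≫ f) ι = pullback.snd Y'.hom ι' ≫ fK := by
  unfold θinv
  rw [pullback.lift_snd]

theorem θinv_θ (hsq : IsPullback fK ι' ι f) (Y' : Over S') :
    θinv hsq Y' ≫ θ hsq Y' = 𝟙 _ := by
  apply pullback.hom_ext
  · rw [Category.assoc, θ_fst, θinv_fst, Category.id_comp]
  · apply hsq.hom_ext
    · rw [Category.assoc, Category.assoc, θ_snd_fK, θinv_snd, Category.id_comp]
    · rw [Category.assoc, Category.assoc, θ_snd_ι', ← Category.assoc, θinv_fst, Category.id_comp,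
        pullback.condition]

/-- Transpose of a morphism into the base change. -/
noncomputable def hat {N : Over S} {Y' : Over S'} (g : Y' ⟶ (Over.pullback f).obj N) :
    Over.mk (Y'.hom ≫ f) ⟶ N :=
  Over.homMk (g.left ≫ pullback.fst N.hom f) (by
    have hw : g.left ≫ pullback.snd N.hom f = Y'.hom := Over.w g
    show (g.left ≫ pullback.fst N.hom f) ≫ N.hom = Y'.hom ≫ f
    calc (g.left ≫ pullback.fst N.hom f) ≫ N.hom
        = g.left ≫ (pullback.fst N.hom f ≫ N.hom) := Category.assoc _ _ _
      _ = g.left ≫ (pullback.snd N.hom f ≫ f) := by rw [pullback.condition]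
      _ = (g.left ≫ pullback.snd N.hom f) ≫ f := (Category.assoc _ _ _).symm
      _ = Y'.hom ≫ f := by rw [hw])

theorem hat_left {N : Over S} {Y' : Over S'} (g : Y' ⟶ (Over.pullback f).obj N) :
    (hat g).left = g.left ≫ pullback.fst N.hom f := rfl

theorem hat_injective {N : Over S} {Y' : Over S'} {g₁ g₂ : Y' ⟶ (Over.pullback f).obj N}
    (h : hat g₁ = hat g₂) : g₁ = g₂ := by
  apply Over.OverMorphism.ext
  have h0 : g₁.left ≫ pullback.fst N.hom f = g₂.left ≫ pullback.fst N.hom f :=
    congrArg (fun k => k.left) h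
  have h1 : g₁.left ≫ pullback.snd N.hom f = Y'.hom := Over.w g₁
  have h2 : g₂.left ≫ pullback.snd N.hom f = Y'.hom := Over.w g₂
  exact pullback.hom_ext (f := N.hom) (g := f) h0 (h1.trans h2.symm)

/-- The key compatibility between the two restrictions to generic fibres. -/
theorem map_hat_fst (hsq : IsPullback fK ι' ι f) {N : Over S} {Y' : Over S'}
    (g : Y' ⟶ (Over.pullback f).obj N) :
    ((Over.pullback ι).map (hat g)).left ≫ pullback.fst N.hom ι =
      θ hsq Y' ≫ ((Over.pullback ι').map g).left ≫
        pullback.fst (pullback.snd N.hom f) ι' ≫ pullback.fst N.hom f := by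
  have e1 : ((Over.pullback ι).map (hat g)).left ≫ pullback.fst N.hom ι =
      pullback.fst (Y'.hom ≫ f) ι ≫ (hat g).left := pb_map_left_fst ι (hat g)
  have e2 : ((Over.pullback ι').map g).left ≫ pullback.fst (pullback.snd N.hom f) ι' =
      pullback.fst Y'.hom ι' ≫ g.left := pb_map_left_fst ι' g
  calc ((Over.pullback ι).map (hat g)).left ≫ pullback.fst N.hom ι
      = pullback.fst (Y'.hom ≫ f) ι ≫ (g.left ≫ pullback.fst N.hom f) := e1
    _ = (θ hsq Y' ≫ pullback.fst Y'.hom ι') ≫ (g.left ≫ pullback.fst N.hom f) := by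
        rw [θ_fst]
    _ = θ hsq Y' ≫ (pullback.fst Y'.hom ι' ≫ g.left) ≫ pullback.fst N.hom f := by
        simp only [Category.assoc]
    _ = θ hsq Y' ≫ (((Over.pullback ι').map g).left ≫
          pullback.fst (pullback.snd N.hom f) ι') ≫ pullback.fst N.hom f := by rw [e2]
    _ = _ := by simp only [Category.assoc]

theorem ext_N' {N : Over S} {W : Scheme.{u}} {a b : W ⟶ pullback (pullback.snd N.hom f) ι'}
    (h1 : a ≫ pullback.fst (pullback.snd N.hom f) ι' ≫ pullback.fst N.hom f =
      b ≫ pullback.fst (pullback.snd N.hom f) ι' ≫ pullback.fst N.hom f)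
    (h2 : a ≫ pullback.snd (pullback.snd N.hom f) ι' = b ≫ pullback.snd (pullback.snd N.hom f) ι') :
    a = b := by
  apply pullback.hom_ext
  · apply pullback.hom_ext
    · simpa only [Category.assoc] using h1
    · calc (a ≫ pullback.fst (pullback.snd N.hom f) ι') ≫ pullback.snd N.hom f
          = a ≫ (pullback.fst (pullback.snd N.hom f) ι' ≫ pullback.snd N.hom f) :=
            Category.assoc _ _ _
        _ = a ≫ (pullback.snd (pullback.snd N.hom f) ι' ≫ ι') := by rw [pullback.condition]
        _ = (a ≫ pullback.snd (pullback.snd N.hom f) ι') ≫ ι' := (Category.assoc _ _ _).symm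
        _ = (b ≫ pullback.snd (pullback.snd N.hom f) ι') ≫ ι' := by rw [h2]
        _ = b ≫ (pullback.snd (pullback.snd N.hom f) ι' ≫ ι') := Category.assoc _ _ _
        _ = b ≫ (pullback.fst (pullback.snd N.hom f) ι' ≫ pullback.snd N.hom f) := by
            rw [pullback.condition]
        _ = (b ≫ pullback.fst (pullback.snd N.hom f) ι') ≫ pullback.snd N.hom f :=
            (Category.assoc _ _ _).symm
  · exact h2

/-- **Transfer of the mapping property along a cartesian square of "generic points".** -/
theorem bijective_transfer (hsq : IsPullback fK ι' ι f) (N : Over S) (Y' : Over S')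
    (hY : Function.Bijective
      (fun g : Over.mk (Y'.hom ≫ f) ⟶ N => (Over.pullback ι).map g)) :
    Function.Bijective
      (fun g : Y' ⟶ (Over.pullback f).obj N => (Over.pullback ι').map g) := by
  constructor
  · intro g₁ g₂ h12
    have h12' : (Over.pullback ι').map g₁ = (Over.pullback ι').map g₂ := h12
    apply hat_injective
    apply hY.1
    show (Over.pullback ι).map (hat g₁) = (Over.pullback ι).map (hat g₂)
    apply Over.OverMorphism.ext
    refine pullback.hom_ext (f := N.hom) (g := ι) ?_ ?_
    · rw [map_hat_fst hsq g₁, map_hat_fst hsq g₂, h12']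
    · exact (pb_map_left_snd ι (hat g₁)).trans (pb_map_left_snd ι (hat g₂)).symm
  · intro h
    have hw : h.left ≫ pullback.snd (pullback.snd N.hom f) ι' = pullback.snd Y'.hom ι' :=
      Over.w h
    have hcond : (θ hsq Y' ≫ h.left ≫ pullback.fst (pullback.snd N.hom f) ι' ≫
        pullback.fst N.hom f) ≫ N.hom = pullback.snd (Y'.hom ≫ f) ι ≫ ι := by
      calc (θ hsq Y' ≫ h.left ≫ pullback.fst (pullback.snd N.hom f) ι' ≫
            pullback.fst N.hom f) ≫ N.hom
          = θ hsq Y' ≫ h.left ≫ pullback.fst (pullback.snd N.hom f) ι' ≫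
              (pullback.fst N.hom f ≫ N.hom) := by simp only [Category.assoc]
        _ = θ hsq Y' ≫ h.left ≫ pullback.fst (pullback.snd N.hom f) ι' ≫
              (pullback.snd N.hom f ≫ f) := by rw [pullback.condition]
        _ = θ hsq Y' ≫ h.left ≫ (pullback.fst (pullback.snd N.hom f) ι' ≫
              pullback.snd N.hom f) ≫ f := by simp only [Category.assoc]
        _ = θ hsq Y' ≫ h.left ≫ (pullback.snd (pullback.snd N.hom f) ι' ≫ ι') ≫ f := by
            rw [pullback.condition]
        _ = θ hsq Y' ≫ (h.left ≫ pullback.snd (pullback.snd N.hom f) ι') ≫ ι' ≫ f := by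
            simp only [Category.assoc]
        _ = θ hsq Y' ≫ pullback.snd Y'.hom ι' ≫ ι' ≫ f := by rw [hw]
        _ = (θ hsq Y' ≫ pullback.snd Y'.hom ι' ≫ ι') ≫ f := by simp only [Category.assoc]
        _ = (pullback.fst (Y'.hom ≫ f) ι ≫ Y'.hom) ≫ f := by rw [θ_snd_ι']
        _ = pullback.fst (Y'.hom ≫ f) ι ≫ (Y'.hom ≫ f) := Category.assoc _ _ _
        _ = pullback.snd (Y'.hom ≫ f) ι ≫ ι := pullback.condition
    let hh : (Over.pullback ι).obj (Over.mk (Y'.hom ≫ f)) ⟶ (Over.pullback ι).obj N :=
      Over.homMk (pullback.lift (θ hsq Y' ≫ h.left ≫ pullback.fst (pullback.snd N.hom f) ι' ≫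
        pullback.fst N.hom f) (pullback.snd (Y'.hom ≫ f) ι) hcond) (pullback.lift_snd _ _ _)
    have hh_fst : hh.left ≫ pullback.fst N.hom ι = θ hsq Y' ≫ h.left ≫
        pullback.fst (pullback.snd N.hom f) ι' ≫ pullback.fst N.hom f :=
      pullback.lift_fst _ _ _
    obtain ⟨gh, hgh⟩ := hY.2 hh
    have hgh' : (Over.pullback ι).map gh = hh := hgh
    have hwg : gh.left ≫ N.hom = Y'.hom ≫ f := Over.w gh
    let g : Y' ⟶ (Over.pullback f).obj N :=
      Over.homMk (pullback.lift gh.left Y'.hom hwg) (pullback.lift_snd _ _ _)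
    have hg_hat : hat g = gh := by
      apply Over.OverMorphism.ext
      show pullback.lift gh.left Y'.hom hwg ≫ pullback.fst N.hom f = gh.left
      exact pullback.lift_fst _ _ _
    refine ⟨g, ?_⟩
    show (Over.pullback ι').map g = h
    apply Over.OverMorphism.ext
    apply ext_N'
    · have e1 := map_hat_fst hsq g
      rw [hg_hat, hgh', hh_fst] at e1
      -- e1 : θ ≫ h.left ≫ fst ≫ fst = θ ≫ (map g).left ≫ fst ≫ fst
      calc ((Over.pullback ι').map g).left ≫ pullback.fst (pullback.snd N.hom f) ι' ≫
            pullback.fst N.hom f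
          = (θinv hsq Y' ≫ θ hsq Y') ≫ ((Over.pullback ι').map g).left ≫
              pullback.fst (pullback.snd N.hom f) ι' ≫ pullback.fst N.hom f := by
            rw [θinv_θ, Category.id_comp]
        _ = θinv hsq Y' ≫ (θ hsq Y' ≫ ((Over.pullback ι').map g).left ≫
              pullback.fst (pullback.snd N.hom f) ι' ≫ pullback.fst N.hom f) :=
            Category.assoc _ _ _
        _ = θinv hsq Y' ≫ (θ hsq Y' ≫ h.left ≫
              pullback.fst (pullback.snd N.hom f) ι' ≫ pullback.fst N.hom f) := by rw [← e1]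
        _ = (θinv hsq Y' ≫ θ hsq Y') ≫ h.left ≫
              pullback.fst (pullback.snd N.hom f) ι' ≫ pullback.fst N.hom f :=
            (Category.assoc _ _ _).symm
        _ = h.left ≫ pullback.fst (pullback.snd N.hom f) ι' ≫ pullback.fst N.hom f := by
            rw [θinv_θ, Category.id_comp]
    · exact (pb_map_left_snd ι' g).trans hw.symm

end General

/-! ### Finite étale extensions of Dedekind domains -/

section Dedekind

variable (R R' : Type u) [CommRing R] [IsDedekindDomain R] [CommRing R'] [IsDedekindDomain R']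
  [Algebra R R'] [Module.Finite R R'] [Algebra.Etale R R']

include R in
theorem algebraMap_injective_of_etale : Function.Injective (algebraMap R R') := by
  haveI : Module.Flat R R' := inferInstance
  rw [injective_iff_map_eq_zero]
  intro r hr
  by_contra hne
  have hreg : IsSMulRegular R' r :=
    Module.Flat.isSMulRegular_of_nonZeroDivisors (mem_nonZeroDivisors_of_ne_zero hne)
  have h10 : (1 : R') = 0 := by
    apply hreg
    show r • (1 : R') = r • (0 : R')
    rw [Algebra.smul_def, hr, zero_mul, smul_zero]
  exact one_ne_zero h10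

/-- The square of generic points is cartesian. -/
theorem isPullback_genPt :
    haveI : FaithfulSMul R R' :=
      (faithfulSMul_iff_algebraMap_injective R R').mpr (algebraMap_injective_of_etale R R')
    letI : Algebra (FractionRing R) (FractionRing R') := FractionRing.liftAlgebra R (FractionRing R')
    IsPullback (Spec.map (CommRingCat.ofHom (algebraMap (FractionRing R) (FractionRing R'))))
      (Neron.genPt R') (Neron.genPt R) (Spec.map (CommRingCat.ofHom (algebraMap R R'))) := by
  haveI : FaithfulSMul R R' :=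
    (faithfulSMul_iff_algebraMap_injective R R').mpr (algebraMap_injective_of_etale R R')
  letI : Algebra (FractionRing R) (FractionRing R') := FractionRing.liftAlgebra R (FractionRing R')
  haveI : IsScalarTower R (FractionRing R) (FractionRing R') :=
    FractionRing.isScalarTower_liftAlgebra R (FractionRing R')
  haveI hloc : IsLocalization (Algebra.algebraMapSubmonoid R' (nonZeroDivisors R))
      (FractionRing R') := inferInstance
  haveI : IsLocalization (Submonoid.map (algebraMap R R') (nonZeroDivisors R))
      (FractionRing R') := hloc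
  have H : (algebraMap (FractionRing R) (FractionRing R')).comp (algebraMap R (FractionRing R)) =
      (algebraMap R' (FractionRing R')).comp (algebraMap R R') := by
    rw [← IsScalarTower.algebraMap_eq, ← IsScalarTower.algebraMap_eq]
  have hpo := CommRingCat.isPushout_of_isLocalization (algebraMap R R')
    (algebraMap (FractionRing R) (FractionRing R')) H (nonZeroDivisors R)
  exact (isPullback_SpecMap_of_isPushout _ _ _ _ hpo).flip

theorem etale_specMap : Etale (Spec.map (CommRingCat.ofHom (algebraMap R R'))) := by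
  rw [HasRingHomProperty.Spec_iff (P := @Etale)]
  exact RingHom.etale_algebraMap.mpr inferInstance

/-- **Base change of a Néron model along a finite étale extension of Dedekind domains.** -/
theorem isNeronModelOf_baseChange (N : Over (Spec (CommRingCat.of R)))
    (hN : Neron.IsNeronModelOf R N ((Neron.genericFibre R).obj N) (Iso.refl _)) :
    Neron.IsNeronModelOf R'
      ((Over.pullback (Spec.map (CommRingCat.ofHom (algebraMap R R')))).obj N)
      ((Neron.genericFibre R').obj
        ((Over.pullback (Spec.map (CommRingCat.ofHom (algebraMap R R')))).obj N))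
      (Iso.refl _) := by
  obtain ⟨hsm, hsep, hft, hqc, hnmp⟩ := hN
  haveI := hsm
  haveI := hsep
  haveI := hft
  haveI := hqc
  haveI hf : Etale (Spec.map (CommRingCat.ofHom (algebraMap R R'))) := etale_specMap R R'
  refine ⟨?_, ?_, ?_, ?_, ?_⟩
  · show Smooth (pullback.snd N.hom (Spec.map (CommRingCat.ofHom (algebraMap R R'))))
    infer_instance
  · show IsSeparated (pullback.snd N.hom (Spec.map (CommRingCat.ofHom (algebraMap R R'))))
    exact MorphismProperty.pullback_snd (P := @IsSeparated) _ _ hsep
  · show LocallyOfFiniteType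
      (pullback.snd N.hom (Spec.map (CommRingCat.ofHom (algebraMap R R'))))
    exact MorphismProperty.pullback_snd (P := @LocallyOfFiniteType) _ _ hft
  · show QuasiCompact (pullback.snd N.hom (Spec.map (CommRingCat.ofHom (algebraMap R R'))))
    exact MorphismProperty.pullback_snd (P := @QuasiCompact) _ _ hqc
  · intro Y' hY'
    haveI := hY'
    have hsmY : Smooth (Over.mk (Y'.hom ≫ Spec.map (CommRingCat.ofHom (algebraMap R R')))).hom := by
      show Smooth (Y'.hom ≫ Spec.map (CommRingCat.ofHom (algebraMap R R')))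
      infer_instance
    have hb := hnmp (Over.mk (Y'.hom ≫ Spec.map (CommRingCat.ofHom (algebraMap R R')))) hsmY
    have hb' : Function.Bijective
        (fun g : Over.mk (Y'.hom ≫ Spec.map (CommRingCat.ofHom (algebraMap R R'))) ⟶ N =>
          (Over.pullback (Neron.genPt R)).map g) := by
      have e : (fun g : Over.mk (Y'.hom ≫ Spec.map (CommRingCat.ofHom (algebraMap R R'))) ⟶ N =>
          (Over.pullback (Neron.genPt R)).map g) =
          (fun g => (Neron.genericFibre R).map g ≫ (Iso.refl _).hom) :=
        funext fun g => (Category.comp_id _).symm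
      rw [e]
      exact hb
    have ht := bijective_transfer (isPullback_genPt R R') N Y' hb'
    have e' : (fun g : Y' ⟶ (Over.pullback (Spec.map (CommRingCat.ofHom (algebraMap R R')))).obj N =>
        (Neron.genericFibre R').map g ≫ (Iso.refl _).hom) =
        (fun g => (Over.pullback (Neron.genPt R')).map g) :=
      funext fun g => Category.comp_id _
    rw [e']
    exact ht

end Dedekind

end Groth.Agent.Lib.Helper40.NeronBC
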