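import Mathlib
import Groth.Prelude.Def_AlgSp3
import Groth.Agent.Lib.Helper40.AlgSpBasic
import Groth.Agent.S9885

/-!
# Tools for the Néron mapping property for algebraic spaces
-/

set_option autoImplicit false
universe u
open CategoryTheory CategoryTheory.Limits AlgebraicGeometry Opposite

namespace Groth.Agent.Lib.Helper40.NeronSp

section general

theorem isPullback_prod_map_fst {C : Type*} [Category C] [HasBinaryProducts C] {X Y : C}
    (f : X ⟶ Y) (Z : C) :
    IsPullback (prod.fst : X ⨯ Z ⟶ X) (prod.map f (𝟙 Z)) f (prod.fst : Y ⨯ Z ⟶ Y) := by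
  have w : (prod.fst : X ⨯ Z ⟶ X) ≫ f = prod.map f (𝟙 Z) ≫ prod.fst :=
    (prod.map_fst f (𝟙 Z)).symm
  refine ⟨⟨w⟩, ⟨PullbackCone.IsLimit.mk w (fun s => prod.lift s.fst (s.snd ≫ prod.snd))
    ?_ ?_ ?_⟩⟩
  · intro s
    exact prod.lift_fst _ _
  · intro s
    apply Limits.prod.hom_ext
    · rw [Category.assoc, prod.map_fst, ← Category.assoc, prod.lift_fst, s.condition]
    · rw [Category.assoc, prod.map_snd, Category.comp_id, prod.lift_snd]
  · intro s m h1 h2
    apply Limits.prod.hom_ext
    · rw [prod.lift_fst, h1]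
    · rw [prod.lift_snd, ← h2, Category.assoc, prod.map_snd, Category.comp_id]

/-- Descent along an epimorphism with given kernel pair, in a regular epi category. -/
theorem exists_desc_of_epi {C : Type*} [Category C] [IsRegularEpiCategory C] {A Q X R : C}
    (ε : A ⟶ Q) [Epi ε] {r1 r2 : R ⟶ A} (sq : IsPullback r1 r2 ε ε) (q : A ⟶ X)
    (hq : r1 ≫ q = r2 ≫ q) : ∃ p : Q ⟶ X, ε ≫ p = q := by
  have hreg : IsRegularEpi ε := IsRegularEpiCategory.regularEpiOfEpi ε
  have hcompat : ∀ {Z : C} (g₁ g₂ : Z ⟶ A), g₁ ≫ ε = g₂ ≫ ε → g₁ ≫ q = g₂ ≫ q := by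
    intro Z g₁ g₂ hg
    rw [← sq.lift_fst g₁ g₂ hg, Category.assoc, hq, ← Category.assoc, sq.lift_snd]
  exact ⟨EffectiveEpi.desc ε q hcompat, EffectiveEpi.fac ε q _⟩

end general

open AlgSp

variable {S : Scheme.{u}}

/-- A representable étale surjective map of sheaves is an epimorphism. -/
theorem epi_of_repWith_etale_surjective {F G : AlgSp.Sp S} (a : F ⟶ G)
    (hae : AlgSp.RepWith @Etale a) (has : AlgSp.RepWith @Surjective a) : Epi a := by
  have h1 : AlgSp.RepWith @Flat a := by
    refine MorphismProperty.relative_monotone ?_ _ hae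
    intro A B k hk
    have : Etale k.left := hk
    show Flat k.left
    infer_instance
  have h2 : AlgSp.RepWith @LocallyOfFinitePresentation a := by
    refine MorphismProperty.relative_monotone ?_ _ hae
    intro A B k hk
    have : Etale k.left := hk
    show LocallyOfFinitePresentation k.left
    infer_instance
  have := Groth.Agent.S9885.result S F G a h1 h2 has
  infer_instance

/-- Maps into `h_S` are unique. -/
theorem hom_to_yon_terminal {G : Sp S} (a b : G ⟶ (yon S).obj (Over.mk (𝟙 S))) : a = b := by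
  apply Groth.Agent.Lib.Helper40.AlgSpBasic.hom_ext_yon
  intro T x
  have key : ∀ c : (yon S).obj T ⟶ (yon S).obj (Over.mk (𝟙 S)),
      c = (yon S).map (Over.mkIdTerminal.from T) := by
    intro c
    have h := (yon S).map_preimage c
    rw [← h]
    congr 1
    exact Over.mkIdTerminal.hom_ext _ _
  rw [key (x ≫ a), key (x ≫ b)]

variable (U : S.Opens)

/-- `Y ×_S U` over `S`. -/
noncomputable abbrev YU (Y : Over S) : Over S := (Over.map U.ι).obj ((Over.pullback U.ι).obj Y)

noncomputable abbrev cU (Y : Over S) : YU U Y ⟶ Y := (Over.mapPullbackAdj U.ι).counit.app Y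

noncomputable def sU (Y : Over S) : YU U Y ⟶ Over.mk U.ι :=
  Over.homMk (pullback.snd Y.hom U.ι) rfl

noncomputable abbrev mapU {Y Y' : Over S} (h : Y ⟶ Y') : YU U Y ⟶ YU U Y' :=
  (Over.map U.ι).map ((Over.pullback U.ι).map h)

theorem cU_left (Y : Over S) : (cU U Y).left = pullback.fst Y.hom U.ι := by
  simp [Over.mapPullbackAdj_counit_app]

theorem sU_left (Y : Over S) : (sU U Y).left = pullback.snd Y.hom U.ι := rfl

theorem mapU_cU {Y Y' : Over S} (h : Y ⟶ Y') : mapU U h ≫ cU U Y' = cU U Y ≫ h :=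
  (Over.mapPullbackAdj U.ι).counit.naturality h

theorem mapU_sU {Y Y' : Over S} (h : Y ⟶ Y') : mapU U h ≫ sU U Y' = sU U Y := by
  apply Over.OverMorphism.ext
  show ((Over.pullback U.ι).map h).left ≫ pullback.snd Y'.hom U.ι = pullback.snd Y.hom U.ι
  exact pullback.lift_snd _ _ _

theorem isLimit_fan (Y : Over S) : Nonempty (IsLimit (BinaryFan.mk (cU U Y) (sU U Y))) := by
  have hc := cU_left U Y
  have hw : ∀ {W : Over S} (a : W ⟶ Y) (b : W ⟶ Over.mk U.ι), a.left ≫ Y.hom = b.left ≫ U.ι :=
    fun a b => (Over.w a).trans (Over.w b).symm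
  have hw2 : ∀ {W : Over S} (a : W ⟶ Y) (b : W ⟶ Over.mk U.ι),
      pullback.lift a.left b.left (hw a b) ≫ (YU U Y).hom = W.hom := by
    intro W a b
    show pullback.lift a.left b.left (hw a b) ≫ (pullback.snd Y.hom U.ι ≫ U.ι) = W.hom
    rw [← Category.assoc, pullback.lift_snd]
    exact Over.w b
  refine ⟨BinaryFan.IsLimit.mk _
    (fun {W} a b => Over.homMk (pullback.lift a.left b.left (hw a b)) (hw2 a b)) ?_ ?_ ?_⟩
  · intro W a b
    apply Over.OverMorphism.ext
    show pullback.lift a.left b.left (hw a b) ≫ (cU U Y).left = a.left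
    rw [hc, pullback.lift_fst]
  · intro W a b
    apply Over.OverMorphism.ext
    show pullback.lift a.left b.left (hw a b) ≫ (sU U Y).left = b.left
    rw [sU_left, pullback.lift_snd]
  · intro W a b m h1 h2
    apply Over.OverMorphism.ext
    show m.left = pullback.lift a.left b.left (hw a b)
    apply pullback.hom_ext
    · rw [pullback.lift_fst, ← hc, ← h1]
      rfl
    · rw [pullback.lift_snd, ← sU_left, ← h2]
      rfl

/-- The comparison `h_{Y ×_S U} ⟶ h_Y × h_U`. -/
noncomputable abbrev kap (Y : Over S) :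
    (yon S).obj (YU U Y) ⟶ (yon S).obj Y ⨯ (yon S).obj (Over.mk U.ι) :=
  prod.lift ((yon S).map (cU U Y)) ((yon S).map (sU U Y))

theorem map_kap {Y Y' : Over S} (h : Y ⟶ Y') :
    (yon S).map (mapU U h) ≫ kap U Y' = kap U Y ≫ prod.map ((yon S).map h) (𝟙 _) := by
  apply Limits.prod.hom_ext
  · rw [Category.assoc, prod.lift_fst, Category.assoc, prod.map_fst, ← Category.assoc,
      prod.lift_fst, ← Functor.map_comp, ← Functor.map_comp, mapU_cU]
  · rw [Category.assoc, prod.lift_snd, Category.assoc, prod.map_snd, Category.comp_id,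
      prod.lift_snd, ← Functor.map_comp, mapU_sU]

theorem epi_kap (Y : Over S) : Epi (kap U Y) := by
  obtain ⟨hl0⟩ := isLimit_fan U Y
  have hl : IsLimit (BinaryFan.mk ((yon S).map (cU U Y)) ((yon S).map (sU U Y))) :=
    mapIsLimitOfPreservesOfIsLimit (yon S) _ _ hl0
  obtain ⟨σ, h1, h2⟩ := BinaryFan.IsLimit.lift' hl
    (prod.fst : (yon S).obj Y ⨯ (yon S).obj (Over.mk U.ι) ⟶ _) prod.snd
  have h1' : σ ≫ (yon S).map (cU U Y) = prod.fst := h1
  have h2' : σ ≫ (yon S).map (sU U Y) = prod.snd := h2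
  have hσ : σ ≫ kap U Y = 𝟙 _ := by
    apply Limits.prod.hom_ext
    · rw [Category.assoc, prod.lift_fst, h1', Category.id_comp]
    · rw [Category.assoc, prod.lift_snd, h2', Category.id_comp]
  constructor
  intro Z u v huv
  calc u = (σ ≫ kap U Y) ≫ u := by rw [hσ, Category.id_comp]
    _ = (σ ≫ kap U Y) ≫ v := by rw [Category.assoc, huv, ← Category.assoc]
    _ = v := by rw [hσ, Category.id_comp]

theorem kap_fst (Y : Over S) : kap U Y ≫ prod.fst = (yon S).map (cU U Y) := prod.lift_fst _ _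

end Groth.Agent.Lib.Helper40.NeronSp
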