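import Groth.Agent.Lib.Helper40.TorsorPush
import Groth.Agent.Lib.Helper40.TorsorTriv
import Groth.Agent.Lib.Helper40.FpqcCovOver

/-!
# Extension properties for a group versus a pseudo-torsor under it

Abstract form of "G has the Néron mapping property iff a G-pseudo-torsor N (covering the base)
has it": for an endofunctor `F` of `Over S` with a natural transformation `ε : F ⟶ 𝟭` such that
`F` sends covering maps to epimorphisms, and a class `P` of objects stable under `- ⊗ N`,
bijectivity of `g ↦ ε_Z ≫ g` on `Hom(Z, G)` for all `Z ∈ P` is equivalent to the same for `N`.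
-/

set_option autoImplicit false
universe u
open CategoryTheory MonoidalCategory CartesianMonoidalCategory MonObj GrpObj AlgebraicGeometry Limits

namespace Groth.Agent.Lib.Helper40.NeronTorsor

open Groth.Agent.Lib.Helper40.ActPts Groth.Agent.Lib.Helper40.TorsorTriv
  Groth.Agent.Lib.Helper40.FpqcCov
  Groth.Agent.Lib.Helper40.TorsorPush

variable {S : Scheme.{u}} (F : Over S ⥤ Over S) (ε : F ⟶ 𝟭 (Over S))

theorem eps_fst (Z N : Over S) :
    ε.app (Z ⊗ N) ≫ fst Z N = F.map (fst Z N) ≫ ε.app Z :=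
  (ε.naturality (fst Z N)).symm

/-- Descent step: a map on `Z ⊗ N` whose restriction comes from `g₀` on `F Z` descends to `Z`. -/
theorem exists_of_tensor
    (hε : ∀ {A B : Over S} (f : A ⟶ B), IsCov f.left → Epi (F.map f))
    (N : Over S) (hN : IsCov N.hom) (P : Over S → Prop) (hP : ∀ Z, P Z → P (Z ⊗ N))
    (Y : Over S)
    (hinj : ∀ Z, P Z → Function.Injective (fun g : Z ⟶ Y => ε.app Z ≫ g))
    (Z : Over S) (hZ : P Z) (g₀ : F.obj Z ⟶ Y) (m : Z ⊗ N ⟶ Y)
    (hm : ε.app (Z ⊗ N) ≫ m = F.map (fst Z N) ≫ g₀) :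
    ∃ g : Z ⟶ Y, ε.app Z ≫ g = g₀ := by
  have hcov : IsCov (fst Z N).left := isCov_fst_left Z N hN
  -- the two projections of the kernel pair
  let p : (Z ⊗ N) ⊗ N ⟶ Z ⊗ N := fst (Z ⊗ N) N
  let q : (Z ⊗ N) ⊗ N ⟶ Z ⊗ N := lift (fst (Z ⊗ N) N ≫ fst Z N) (snd (Z ⊗ N) N)
  have hpq : p ≫ fst Z N = q ≫ fst Z N := by simp [p, q]
  have hpqm : p ≫ m = q ≫ m := by
    apply hinj _ (hP _ (hP _ hZ))
    change ε.app _ ≫ p ≫ m = ε.app _ ≫ q ≫ m
    have hp' : ε.app ((Z ⊗ N) ⊗ N) ≫ p = F.map p ≫ ε.app (Z ⊗ N) := (ε.naturality p).symm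
    have hq' : ε.app ((Z ⊗ N) ⊗ N) ≫ q = F.map q ≫ ε.app (Z ⊗ N) := (ε.naturality q).symm
    rw [← Category.assoc, hp', ← Category.assoc (ε.app _), hq', Category.assoc, Category.assoc, hm,
      ← Category.assoc, ← Category.assoc, ← F.map_comp, ← F.map_comp, hpq]
  obtain ⟨g, hg⟩ := exists_desc_over hcov m (by
    intro R x y hxy
    let w : R ⟶ (Z ⊗ N) ⊗ N := lift x (y ≫ snd Z N)
    have hwp : w ≫ p = x := by simp [w, p]
    have hwq : w ≫ q = y := by
      apply CartesianMonoidalCategory.hom_ext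
      · simp [w, q, hxy]
      · simp [w, q]
    rw [← hwp, Category.assoc, hpqm, ← Category.assoc, hwq])
  refine ⟨g, ?_⟩
  have := hε (fst Z N) hcov
  rw [← cancel_epi (F.map (fst Z N)), ← hm, ← hg, ← Category.assoc, ← eps_fst, Category.assoc]

variable {G N : Over S} [GrpObj G] (a : AlgGrp.Action G N)

theorem injective_torsor_of_group (ha : NonAbH1.IsPseudoTorsorSch a) (Z : Over S)
    (hinj : Function.Injective (fun g : Z ⟶ G => ε.app Z ≫ g)) :
    Function.Injective (fun g : Z ⟶ N => ε.app Z ≫ g) := by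
  intro g h hgh
  change ε.app Z ≫ g = ε.app Z ≫ h at hgh
  have hd : lift g h ≫ divMap a ha = (1 : Z ⟶ G) := by
    apply hinj
    change ε.app Z ≫ lift g h ≫ divMap a ha = ε.app Z ≫ 1
    rw [← Category.assoc, comp_lift, hgh, MonObj.comp_one]
    have := divMap_smul a ha (1 : F.obj Z ⟶ G) (ε.app Z ≫ h)
    rwa [ActPts.one_smul] at this
  have := smul_divMap a ha g h
  rw [hd, ActPts.one_smul] at this
  exact this.symm

theorem injective_group_of_torsor (ha : NonAbH1.IsPseudoTorsorSch a) (hN : IsCov N.hom)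
    (Z : Over S)
    (hinj : Function.Injective (fun g : Z ⊗ N ⟶ N => ε.app (Z ⊗ N) ≫ g)) :
    Function.Injective (fun g : Z ⟶ G => ε.app Z ≫ g) := by
  intro g h hgh
  change ε.app Z ≫ g = ε.app Z ≫ h at hgh
  have hcov : IsCov (fst Z N).left := isCov_fst_left Z N hN
  have := epi_of_isCov_left hcov
  have hn : smul a (fst Z N ≫ g) (snd Z N) = smul a (fst Z N ≫ h) (snd Z N) := by
    apply hinj
    change ε.app _ ≫ smul a (fst Z N ≫ g) (snd Z N) = ε.app _ ≫ smul a (fst Z N ≫ h) (snd Z N)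
    rw [comp_smul, comp_smul, ← Category.assoc, ← Category.assoc, eps_fst, Category.assoc,
      Category.assoc, hgh]
  rw [← cancel_epi (fst Z N), ← divMap_smul a ha (fst Z N ≫ g) (snd Z N), hn, divMap_smul]

theorem bijective_iff
    (hε : ∀ {A B : Over S} (f : A ⟶ B), IsCov f.left → Epi (F.map f))
    (ha : NonAbH1.IsPseudoTorsorSch a) (hN : IsCov N.hom)
    (P : Over S → Prop) (hP : ∀ Z, P Z → P (Z ⊗ N)) :
    (∀ Z, P Z → Function.Bijective (fun g : Z ⟶ G => ε.app Z ≫ g)) ↔
    (∀ Z, P Z → Function.Bijective (fun g : Z ⟶ N => ε.app Z ≫ g)) := by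
  constructor
  · intro H
    have hinjN : ∀ Z, P Z → Function.Injective (fun g : Z ⟶ N => ε.app Z ≫ g) :=
      fun Z hZ => injective_torsor_of_group F ε a ha Z (H Z hZ).1
    intro Z hZ
    refine ⟨hinjN Z hZ, ?_⟩
    intro g₀
    obtain ⟨d, hd⟩ := (H (Z ⊗ N) (hP Z hZ)).2
      (lift (F.map (fst Z N) ≫ g₀) (ε.app (Z ⊗ N) ≫ snd Z N) ≫ divMap a ha)
    change ε.app _ ≫ d = _ at hd
    refine exists_of_tensor F ε hε N hN P hP N hinjN Z hZ g₀ (smul a d (snd Z N)) ?_
    rw [comp_smul, hd, smul_divMap]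
  · intro H
    have hinjG : ∀ Z, P Z → Function.Injective (fun g : Z ⟶ G => ε.app Z ≫ g) :=
      fun Z hZ => injective_group_of_torsor F ε a ha hN Z (H _ (hP Z hZ)).1
    intro Z hZ
    refine ⟨hinjG Z hZ, ?_⟩
    intro g₀
    obtain ⟨n, hn⟩ := (H (Z ⊗ N) (hP Z hZ)).2
      (smul a (F.map (fst Z N) ≫ g₀) (ε.app (Z ⊗ N) ≫ snd Z N))
    change ε.app _ ≫ n = _ at hn
    refine exists_of_tensor F ε hε N hN P hP G hinjG Z hZ g₀ (lift n (snd Z N) ≫ divMap a ha) ?_
    rw [← Category.assoc, comp_lift, hn, divMap_smul]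


section Restrict

variable {U : Scheme.{u}} (j : U ⟶ S)

/-- Restriction along `j` is bijective on `Hom(Z, Y)` iff precomposition with the counit of
`Over.map j ⊣ Over.pullback j` is. -/
theorem bijective_pullback_map_iff (Z Y : Over S) :
    Function.Bijective (fun g : Z ⟶ Y => (Over.pullback j).map g) ↔
      Function.Bijective (fun g : Z ⟶ Y => (Over.mapPullbackAdj j).counit.app Z ≫ g) := by
  have h : (fun g : Z ⟶ Y => (Over.pullback j).map g) =
      ((Over.mapPullbackAdj j).homEquiv ((Over.pullback j).obj Z) Y) ∘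
        (fun g : Z ⟶ Y => (Over.mapPullbackAdj j).counit.app Z ≫ g) := by
    funext g
    change _ = (Over.mapPullbackAdj j).homEquiv _ _ ((Over.mapPullbackAdj j).counit.app Z ≫ g)
    rw [Adjunction.homEquiv_naturality_right]
    have : (Over.mapPullbackAdj j).homEquiv ((Over.pullback j).obj Z) Z
        ((Over.mapPullbackAdj j).counit.app Z) = 𝟙 _ := by
      rw [← Equiv.eq_symm_apply, Adjunction.homEquiv_symm_id]
    erw [this, Category.id_comp]
  rw [h]
  exact Equiv.comp_bijective _ _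

/-- `j_! j^*` sends covering maps to epimorphisms. -/
theorem epi_map_of_isCov {A B : Over S} (f : A ⟶ B) (hf : IsCov f.left) :
    Epi ((Over.pullback j ⋙ Over.map j).map f) := by
  apply epi_of_isCov_left
  refine hf.of_isPullback (b := pullback.fst B.hom j) (a := pullback.fst A.hom j) ?_
  have hright : IsPullback (pullback.snd B.hom j) (pullback.fst B.hom j) j B.hom :=
    (IsPullback.of_hasPullback B.hom j).flip
  have hbig : IsPullback (((Over.pullback j ⋙ Over.map j).map f).left ≫ pullback.snd B.hom j)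
      (pullback.fst A.hom j) j (f.left ≫ B.hom) := by
    have e1 : ((Over.pullback j ⋙ Over.map j).map f).left ≫ pullback.snd B.hom j =
        pullback.snd A.hom j := by
      simp only [Functor.comp_map, Over.map_map_left, Over.pullback_map_left]
      exact pullback.lift_snd _ _ _
    rw [e1, Over.w f]
    exact (IsPullback.of_hasPullback A.hom j).flip
  refine IsPullback.of_right hbig ?_ hright
  simp only [Functor.comp_map, Over.map_map_left, Over.pullback_map_left]
  exact pullback.lift_fst _ _ _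

end Restrict

end Groth.Agent.Lib.Helper40.NeronTorsor
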