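import Mathlib

/-!
# Base change of a square-zero thickening `Spec (A/I) ⟶ Spec A` has nilpotent kernel
-/

set_option autoImplicit false
universe u
open CategoryTheory CategoryTheory.Limits AlgebraicGeometry

namespace Groth.Agent.Lib.Helper40.NilThick

theorem ker_le_map_of_isPushout {A' A'' B P : CommRingCat.{u}} {a : A' ⟶ B} {π : A' ⟶ A''}
    {b : B ⟶ P} {c : A'' ⟶ P} (h : IsPushout a π b c) (hπ : Function.Surjective π.hom) :
    RingHom.ker b.hom ≤ Ideal.map a.hom (RingHom.ker π.hom) := by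
  have hker : ∀ x : A', x ∈ RingHom.ker π.hom →
      x ∈ RingHom.ker ((Ideal.Quotient.mk (Ideal.map a.hom (RingHom.ker π.hom))).comp a.hom) := by
    intro x hx
    rw [RingHom.mem_ker]
    show Ideal.Quotient.mk (Ideal.map a.hom (RingHom.ker π.hom)) (a.hom x) = 0
    rw [Ideal.Quotient.eq_zero_iff_mem]
    exact Ideal.mem_map_of_mem _ hx
  obtain ⟨c'r, hc'r⟩ : ∃ c'r : A'' →+* B ⧸ Ideal.map a.hom (RingHom.ker π.hom),
      c'r.comp π.hom = (Ideal.Quotient.mk (Ideal.map a.hom (RingHom.ker π.hom))).comp a.hom :=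
    ⟨RingHom.liftOfSurjective π.hom hπ ⟨_, hker⟩,
      RingHom.liftOfRightInverse_comp _ _ _ _⟩
  have hw : a ≫ CommRingCat.ofHom (Ideal.Quotient.mk (Ideal.map a.hom (RingHom.ker π.hom))) =
      π ≫ CommRingCat.ofHom c'r := CommRingCat.hom_ext hc'r.symm
  have hd : b ≫ h.desc _ _ hw =
      CommRingCat.ofHom (Ideal.Quotient.mk (Ideal.map a.hom (RingHom.ker π.hom))) :=
    h.inl_desc _ _ hw
  intro x hx
  have h1 : (h.desc _ _ hw).hom (b.hom x) =
      Ideal.Quotient.mk (Ideal.map a.hom (RingHom.ker π.hom)) x := congr($hd x)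
  rw [RingHom.mem_ker.mp hx, map_zero] at h1
  exact Ideal.Quotient.eq_zero_iff_mem.mp h1.symm

theorem ker_sq_eq_bot_of_isPushout {A' A'' B P : CommRingCat.{u}} {a : A' ⟶ B} {π : A' ⟶ A''}
    {b : B ⟶ P} {c : A'' ⟶ P} (h : IsPushout a π b c) (hπ : Function.Surjective π.hom)
    (hsq : RingHom.ker π.hom ^ 2 = ⊥) : RingHom.ker b.hom ^ 2 = ⊥ := by
  rw [eq_bot_iff]
  calc RingHom.ker b.hom ^ 2 ≤ (Ideal.map a.hom (RingHom.ker π.hom)) ^ 2 :=
        Ideal.pow_right_mono (ker_le_map_of_isPushout h hπ) 2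
    _ = Ideal.map a.hom (RingHom.ker π.hom ^ 2) := (Ideal.map_pow _ _ _).symm
    _ = ⊥ := by rw [hsq, Ideal.map_bot]

theorem isNilpotent_ker_of_isPullback {W W₀ : Scheme.{u}} {A : Type u} [CommRing A] (I : Ideal A)
    (hI : I ^ 2 = ⊥) {i : W₀ ⟶ W} {q₀ : W₀ ⟶ Spec (CommRingCat.of (A ⧸ I))}
    {q : W ⟶ Spec (CommRingCat.of A)}
    (sq : IsPullback i q₀ q (Spec.map (CommRingCat.ofHom (Ideal.Quotient.mk I))))
    [QuasiCompact i] : IsNilpotent i.ker := by
  refine ⟨2, ?_⟩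
  apply Scheme.IdealSheafData.ext
  funext U
  show i.ker.ideal U ^ 2 = ⊥
  rw [Scheme.Hom.ker_apply]
  have po := (isIso_pushoutSection_iff sq (US := ⊤) (UT := ⊤) (UX := U.1) (UY := i ⁻¹ᵁ U.1)
    (by simp) (by simp) (by simp)).mp
    (isIso_pushoutSection_of_isAffineOpen sq _ _ _ (isAffineOpen_top _) (isAffineOpen_top _) U.2)
  have eπ : ∀ e, (Spec.map (CommRingCat.ofHom (Ideal.Quotient.mk I))).appLE ⊤ ⊤ e =
      (Spec.map (CommRingCat.ofHom (Ideal.Quotient.mk I))).appTop :=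
    fun _ => Scheme.Hom.appLE_eq_app _
  have eh : ∀ e, i.appLE U.1 (i ⁻¹ᵁ U.1) e = i.app U.1 := fun _ => Scheme.Hom.appLE_eq_app _
  have nat : ∀ x, (Scheme.ΓSpecIso (CommRingCat.of (A ⧸ I))).hom.hom
      ((Spec.map (CommRingCat.ofHom (Ideal.Quotient.mk I))).appTop.hom x) =
      Ideal.Quotient.mk I ((Scheme.ΓSpecIso (CommRingCat.of A)).hom.hom x) :=
    fun x => congr($(Scheme.ΓSpecIso_naturality (CommRingCat.ofHom (Ideal.Quotient.mk I))) x)
  have hominv : ∀ y, (Scheme.ΓSpecIso (CommRingCat.of A)).hom.hom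
      ((Scheme.ΓSpecIso (CommRingCat.of A)).inv.hom y) = y :=
    fun y => congr($((Scheme.ΓSpecIso (CommRingCat.of A)).inv_hom_id) y)
  have injA : Function.Injective (Scheme.ΓSpecIso (CommRingCat.of A)).hom.hom :=
    (ConcreteCategory.bijective_of_isIso (Scheme.ΓSpecIso (CommRingCat.of A)).hom).injective
  have injQ : Function.Injective (Scheme.ΓSpecIso (CommRingCat.of (A ⧸ I))).hom.hom :=
    (ConcreteCategory.bijective_of_isIso (Scheme.ΓSpecIso (CommRingCat.of (A ⧸ I))).hom).injective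
  have hmem : ∀ x, x ∈ RingHom.ker
      (Spec.map (CommRingCat.ofHom (Ideal.Quotient.mk I))).appTop.hom →
      (Scheme.ΓSpecIso (CommRingCat.of A)).hom.hom x ∈ I := by
    intro x hx
    rw [← Ideal.Quotient.eq_zero_iff_mem, ← nat, RingHom.mem_ker.mp hx, map_zero]
  have key := ker_sq_eq_bot_of_isPushout po (by
      rw [eπ]
      intro y
      obtain ⟨x', hx'⟩ := Ideal.Quotient.mk_surjective
        ((Scheme.ΓSpecIso (CommRingCat.of (A ⧸ I))).hom.hom y)
      refine ⟨(Scheme.ΓSpecIso (CommRingCat.of A)).inv.hom x', injQ ?_⟩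
      rw [nat, hominv, hx']) (by
      rw [eπ, eq_bot_iff, pow_two, Ideal.mul_le]
      intro x hx y hy
      have h1 : (Scheme.ΓSpecIso (CommRingCat.of A)).hom.hom x *
          (Scheme.ΓSpecIso (CommRingCat.of A)).hom.hom y ∈ I ^ 2 := by
        rw [pow_two]
        exact Ideal.mul_mem_mul (hmem x hx) (hmem y hy)
      rw [hI, Ideal.mem_bot, ← map_mul] at h1
      rw [Ideal.mem_bot]
      exact injA (h1.trans (map_zero _).symm))
  rw [eh] at key
  exact key

end Groth.Agent.Lib.Helper40.NilThick
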