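import Groth.Agent.Lib.QCoh.Tensor
import Groth.Agent.Lib.QCoh.TensorPic
import Groth.Agent.Lib.QCoh.Invertible
import Groth.Agent.Lib.QCoh.Helper50_Pullback
import Groth.Agent.Lib.Helper48.DualInv
import Groth.Agent.Lib.Helper56.PullTensorB

/-!
# A commutative monoid of isomorphism classes of modules, with pullbacks (helper40)

`Cl X` : isomorphism classes of `O_X`-modules with the tensor product (a commutative monoid);
`IsInv a` : the class of an invertible module; `pb f` : pullback of classes.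
-/

universe u

open CategoryTheory AlgebraicGeometry

namespace Groth.Agent.Lib.Helper40.PicCalc

open Groth.Agent.Lib.QCoh CohB1

variable {X Y Z : Scheme.{u}}

/-- isomorphism classes of modules -/
def Cl (X : Scheme.{u}) : Type (u + 1) := Quotient (isIsomorphicSetoid X.Modules)

/-- the class of a module -/
def cl (M : X.Modules) : Cl X := Quotient.mk (isIsomorphicSetoid X.Modules) M

theorem cl_eq_iff {M N : X.Modules} : cl M = cl N ↔ Nonempty (M ≅ N) :=
  Quotient.eq (r := isIsomorphicSetoid X.Modules)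

theorem cl_eq_of_iso {M N : X.Modules} (e : M ≅ N) : cl M = cl N := cl_eq_iff.2 ⟨e⟩

noncomputable instance instMulCl : Mul (Cl X) :=
  ⟨Quotient.lift₂ (fun M N => cl (tensorMod M N)) (fun M N M' N' h h' => by
    obtain ⟨e⟩ : Nonempty (M ≅ M') := h
    obtain ⟨e'⟩ : Nonempty (N ≅ N') := h'
    exact cl_eq_of_iso (tensorModCongr e e'))⟩

noncomputable instance instOneCl : One (Cl X) := ⟨cl (Coh.structureModule X)⟩

theorem cl_mul (M N : X.Modules) : cl M * cl N = cl (tensorMod M N) := rfl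

theorem one_def : (1 : Cl X) = cl (Coh.structureModule X) := rfl

theorem ind {p : Cl X → Prop} (h : ∀ M : X.Modules, p (cl M)) (a : Cl X) : p a :=
  Quotient.inductionOn a h

noncomputable instance instCommMonoidCl : CommMonoid (Cl X) where
  mul_assoc a b c := by
    revert a b c
    refine ind (fun A => ind (fun B => ind (fun C => ?_)))
    exact cl_eq_of_iso (tensorModAssoc A B C)
  one_mul a := by
    revert a
    refine ind (fun A => ?_)
    exact cl_eq_of_iso (tensorModLeftUnitor A)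
  mul_one a := by
    revert a
    refine ind (fun A => ?_)
    exact cl_eq_of_iso (tensorModRightUnitor A)
  mul_comm a b := by
    revert a b
    refine ind (fun A => ind (fun B => ?_))
    exact cl_eq_of_iso (tensorModBraiding A B)

/-- pullback of classes -/
noncomputable def pb (f : X ⟶ Y) : Cl Y → Cl X :=
  Quotient.lift (fun M => cl ((Scheme.Modules.pullback f).obj M)) (fun M M' h => by
    obtain ⟨e⟩ : Nonempty (M ≅ M') := h
    exact cl_eq_of_iso ((Scheme.Modules.pullback f).mapIso e))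

theorem pb_cl (f : X ⟶ Y) (M : Y.Modules) :
    pb f (cl M) = cl ((Scheme.Modules.pullback f).obj M) := rfl

theorem pb_comp (f : X ⟶ Y) (g : Y ⟶ Z) (a : Cl Z) : pb f (pb g a) = pb (f ≫ g) a := by
  revert a
  refine ind (fun M => ?_)
  exact cl_eq_of_iso ((Scheme.Modules.pullbackComp f g).app M)

theorem pb_id (a : Cl X) : pb (𝟙 X) a = a := by
  revert a
  refine ind (fun M => ?_)
  exact cl_eq_of_iso ((Scheme.Modules.pullbackId X).app M)

theorem pb_congr {f g : X ⟶ Y} (h : f = g) (a : Cl Y) : pb f a = pb g a := by rw [h]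

theorem pb_one (f : X ⟶ Y) : pb f (1 : Cl Y) = 1 := cl_eq_of_iso (pullbackUnitIso f)

/-- classes of invertible modules -/
def IsInv (a : Cl X) : Prop := ∃ L : X.Modules, PicF.IsInvertible L ∧ cl L = a

theorem isInv_cl {L : X.Modules} (h : PicF.IsInvertible L) : IsInv (cl L) := ⟨L, h, rfl⟩

theorem isInvertible_of_isInv_cl {L : X.Modules} (h : IsInv (cl L)) : PicF.IsInvertible L := by
  obtain ⟨L', hL', e⟩ := h
  obtain ⟨e⟩ := cl_eq_iff.1 e
  exact isInvertible_of_iso e hL'

theorem IsInv.one : IsInv (1 : Cl X) := ⟨_, isInvertible_structureModule X, rfl⟩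

theorem IsInv.mul {a b : Cl X} (ha : IsInv a) (hb : IsInv b) : IsInv (a * b) := by
  obtain ⟨L, hL, rfl⟩ := ha
  obtain ⟨M, hM, rfl⟩ := hb
  exact ⟨_, isInvertible_tensorMod hL hM, rfl⟩

theorem IsInv.exists_inv {a : Cl X} (ha : IsInv a) : ∃ b : Cl X, IsInv b ∧ a * b = 1 := by
  obtain ⟨L, hL, rfl⟩ := ha
  obtain ⟨N, hN, ⟨e⟩⟩ := Groth.Agent.Lib.Helper48.DualInv.exists_inverse hL
  exact ⟨cl N, ⟨N, hN, rfl⟩, cl_eq_of_iso e⟩

theorem IsInv.mul_left_cancel {a b c : Cl X} (ha : IsInv a) (h : a * b = a * c) : b = c := by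
  obtain ⟨a', -, h1⟩ := ha.exists_inv
  calc b = (a' * a) * b := by rw [mul_comm a' a, h1, one_mul]
    _ = a' * (a * b) := mul_assoc _ _ _
    _ = a' * (a * c) := by rw [h]
    _ = (a' * a) * c := (mul_assoc _ _ _).symm
    _ = c := by rw [mul_comm a' a, h1, one_mul]

theorem IsInv.of_mul_eq {a b c : Cl X} (ha : IsInv a) (hc : IsInv c) (h : a * b = c) :
    IsInv b := by
  obtain ⟨a', ha', h1⟩ := ha.exists_inv
  have hb : b = a' * c := by
    calc b = (a' * a) * b := by rw [mul_comm a' a, h1, one_mul]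
      _ = a' * (a * b) := mul_assoc _ _ _
      _ = a' * c := by rw [h]
  rw [hb]
  exact ha'.mul hc

theorem IsInv.pb (f : X ⟶ Y) {a : Cl Y} (ha : IsInv a) : IsInv (pb f a) := by
  obtain ⟨L, hL, rfl⟩ := ha
  exact ⟨_, isInvertible_pullback f hL, rfl⟩

theorem pb_mul (f : X ⟶ Y) {a b : Cl Y} (ha : IsInv a) (hb : IsInv b) :
    pb f (a * b) = pb f a * pb f b := by
  obtain ⟨L, hL, rfl⟩ := ha
  obtain ⟨M, hM, rfl⟩ := hb
  exact cl_eq_of_iso (Groth.Agent.Lib.Helper56.PullTensor.pullbackTensorIso f hL hM)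

/-- On a one-point scheme every invertible class is trivial. -/
theorem eq_one_of_isInv_of_subsingleton [Subsingleton X] (x : X) {a : Cl X} (ha : IsInv a) :
    a = 1 := by
  obtain ⟨L, hL, rfl⟩ := ha
  obtain ⟨U, hxU, ⟨e⟩⟩ := hL x
  have hU : U = ⊤ := by
    ext y
    have : y = x := Subsingleton.elim y x
    simp [this, hxU]
  subst hU
  have h1 : pb (⊤ : X.Opens).ι (cl L) = 1 :=
    cl_eq_of_iso (((Scheme.Modules.restrictFunctorIsoPullback (⊤ : X.Opens).ι).app L).symm ≪≫ e)
  have h2 : (Scheme.topIso X).inv ≫ (⊤ : X.Opens).ι = 𝟙 X := (Scheme.topIso X).inv_hom_id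
  calc cl L = pb (𝟙 X) (cl L) := (pb_id _).symm
    _ = pb ((Scheme.topIso X).inv ≫ (⊤ : X.Opens).ι) (cl L) := by rw [h2]
    _ = pb (Scheme.topIso X).inv (pb (⊤ : X.Opens).ι (cl L)) := (pb_comp _ _ _).symm
    _ = pb (Scheme.topIso X).inv 1 := by rw [h1]
    _ = 1 := pb_one _

end Groth.Agent.Lib.Helper40.PicCalc
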