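import Groth.Agent.Lib.Helper40.ActPts
import Groth.Agent.Lib.Helper40.FpqcCovOver
import Groth.Agent.Lib.Helper40.FpqcMono
import Groth.Prelude.Def_W4bk4git07Quot

/-!
# Equivariant maps of principal bundles are cartesian; associated bundles

`a : Action H P`, `q : P ⟶ Q` invariant with `GIT.PsiY a q` an isomorphism (a principal bundle).
* point calculus: `smul_comp`, `exists_smul_eq`, `smul_cancel`;
* `isPullback_of_equivariant`: an equivariant map `f : P ⟶ P'` of principal `H`-bundles over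
  `p : Q ⟶ Q'` gives a cartesian square as soon as `q` is a (generalized) fpqc covering;
* `act_fst`, `isPullback_assoc`: the case `G ⊗ X ⟶ G` of associated bundles `G ×^H X ⟶ G/H`;
* `isPullback_prod`: `G ×^H (X × Y) = (G ×^H X) ×_{G/H} (G ×^H Y)`.
-/

set_option autoImplicit false
universe u
open CategoryTheory MonoidalCategory CartesianMonoidalCategory MonObj GrpObj AlgebraicGeometry
open CategoryTheory.Limits

namespace Groth.Agent.Lib.Helper40.PrinBundle

open Groth.Agent.Lib.Helper40.ActPts Groth.Agent.Lib.Helper40.FpqcCov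

section Points

variable {S₀ : Scheme.{u}} {H P Q : Over S₀} [GrpObj H] (a : AlgGrp.Action H P) (q : P ⟶ Q)
  (hinv : GIT.IsInvariant a q)

theorem psiY_fst : GIT.PsiY a q hinv ≫ pullback.fst q.left q.left = a.act.left := by
  unfold GIT.PsiY
  exact pullback.lift_fst _ _ _

theorem psiY_snd : GIT.PsiY a q hinv ≫ pullback.snd q.left q.left = (snd H P).left := by
  unfold GIT.PsiY
  exact pullback.lift_snd _ _ _

include hinv in
theorem smul_comp {T : Over S₀} (h : T ⟶ H) (x : T ⟶ P) : smul a h x ≫ q = x ≫ q := by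
  have e : a.act ≫ q = snd H P ≫ q := hinv
  rw [smul_def, Category.assoc, e, ← Category.assoc, lift_snd]

theorem exists_smul_eq [IsIso (GIT.PsiY a q hinv)] {T : Over S₀} (x y : T ⟶ P)
    (e : x ≫ q = y ≫ q) : ∃ h : T ⟶ H, x = smul a h y := by
  have e' : x.left ≫ q.left = y.left ≫ q.left := by
    rw [← Over.comp_left, ← Over.comp_left, e]
  obtain ⟨l, hl1, hl2⟩ : ∃ l : T ⟶ H ⊗ P, l ≫ a.act = x ∧ l ≫ snd H P = y := by
    have h1 : (pullback.lift x.left y.left e' ≫ inv (GIT.PsiY a q hinv)) ≫ a.act.left =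
        x.left := by
      rw [← psiY_fst a q hinv, Category.assoc, IsIso.inv_hom_id_assoc]
      exact pullback.lift_fst _ _ _
    have h2 : (pullback.lift x.left y.left e' ≫ inv (GIT.PsiY a q hinv)) ≫ (snd H P).left =
        y.left := by
      rw [← psiY_snd a q hinv, Category.assoc, IsIso.inv_hom_id_assoc]
      exact pullback.lift_snd _ _ _
    refine ⟨Over.homMk (pullback.lift x.left y.left e' ≫ inv (GIT.PsiY a q hinv)) ?_, ?_, ?_⟩
    · rw [← Over.w (snd H P), ← Category.assoc, h2, Over.w y]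
    · exact Over.OverMorphism.ext h1
    · exact Over.OverMorphism.ext h2
  refine ⟨l ≫ fst H P, ?_⟩
  rw [smul_def, ← hl1]
  congr 1
  apply CartesianMonoidalCategory.hom_ext
  · rw [lift_fst]
  · rw [lift_snd, hl2]

theorem smul_cancel [Mono (GIT.PsiY a q hinv)] {T : Over S₀} (h h' : T ⟶ H) (y : T ⟶ P)
    (e : smul a h y = smul a h' y) : h = h' := by
  have e2 : (lift h y).left = (lift h' y).left := by
    rw [← cancel_mono (GIT.PsiY a q hinv)]
    apply pullback.hom_ext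
    · rw [Category.assoc, Category.assoc, psiY_fst, ← Over.comp_left, ← Over.comp_left]
      exact congrArg (fun k => k.left) e
    · rw [Category.assoc, Category.assoc, psiY_snd, ← Over.comp_left, ← Over.comp_left,
        lift_snd, lift_snd]
  have e3 : lift h y = lift h' y := Over.OverMorphism.ext e2
  have e4 := congrArg (fun k => k ≫ fst H P) e3
  simpa using e4

variable {P' Q' : Over S₀} (a' : AlgGrp.Action H P') (q' : P' ⟶ Q')
  (hinv' : GIT.IsInvariant a' q') (f : P ⟶ P') (hf : a.act ≫ f = (H ◁ f) ≫ a'.act)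
  (p : Q ⟶ Q') (hp : q ≫ p = f ≫ q')

include hf in
theorem smul_comp_equivariant {T : Over S₀} (h : T ⟶ H) (x : T ⟶ P) :
    smul a h x ≫ f = smul a' h (x ≫ f) := by
  rw [smul_def, Category.assoc, hf, ← Category.assoc, lift_whiskerLeft, smul_def]

include hf hp in
/-- An equivariant map of principal bundles gives a cartesian square. -/
theorem isPullback_of_equivariant [IsIso (GIT.PsiY a q hinv)] [IsIso (GIT.PsiY a' q' hinv')]
    (hq : IsCov q.left) : IsPullback q.left f.left p.left q'.left := by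
  have hp' : q.left ≫ p.left = f.left ≫ q'.left := by
    rw [← Over.comp_left, ← Over.comp_left, hp]
  have c : pullback.snd p.left q'.left ≫ q'.left = pullback.fst p.left q'.left ≫ p.left :=
    pullback.condition.symm
  have hΦ1 : pullback.lift q.left f.left hp' ≫ pullback.fst p.left q'.left = q.left :=
    pullback.lift_fst _ _ _
  have hΦ2 : pullback.lift q.left f.left hp' ≫ pullback.snd p.left q'.left = f.left :=
    pullback.lift_snd _ _ _
  have hmono : Mono (pullback.lift q.left f.left hp') := by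
    refine ⟨fun {Z} x₀ y₀ e => ?_⟩
    have e1 : x₀ ≫ q.left = y₀ ≫ q.left := by
      rw [← hΦ1, ← Category.assoc, e, Category.assoc]
    have e2 : x₀ ≫ f.left = y₀ ≫ f.left := by
      rw [← hΦ2, ← Category.assoc, e, Category.assoc]
    have hx₀ : x₀ ≫ P.hom = y₀ ≫ P.hom := by
      rw [← Over.w q, ← Category.assoc, e1, Category.assoc]
    let y : Over.mk (y₀ ≫ P.hom) ⟶ P := Over.homMk y₀ rfl
    let x : Over.mk (y₀ ≫ P.hom) ⟶ P := Over.homMk x₀ hx₀
    have ex : x ≫ q = y ≫ q := Over.OverMorphism.ext e1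
    have ef : x ≫ f = y ≫ f := Over.OverMorphism.ext e2
    obtain ⟨h, hh⟩ := exists_smul_eq a q hinv x y ex
    have h1 : smul a' h (y ≫ f) = smul a' 1 (y ≫ f) := by
      rw [ActPts.one_smul, ← smul_comp_equivariant a a' f hf, ← hh, ef]
    have h2 : h = 1 := smul_cancel a' q' hinv' _ _ _ h1
    have h3 : x = y := by rw [hh, h2, ActPts.one_smul]
    exact congrArg (fun k => k.left) h3
  have hcov : IsCov (pullback.lift q.left f.left hp') := by
    obtain ⟨W, w1, w2, hw, hcovw1⟩ : ∃ (W : Scheme.{u}) (w1 : W ⟶ pullback p.left q'.left)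
        (w2 : W ⟶ P.left), w1 ≫ pullback.fst p.left q'.left = w2 ≫ q.left ∧ IsCov w1 :=
      ⟨_, _, _, pullback.condition,
        hq.of_isPullback (IsPullback.of_hasPullback (pullback.fst p.left q'.left) q.left)⟩
    have hy' : (w1 ≫ pullback.snd p.left q'.left) ≫ P'.hom = w2 ≫ P.hom := by
      rw [← Over.w q', ← Over.w q, ← Over.w p]
      calc (w1 ≫ pullback.snd p.left q'.left) ≫ q'.left ≫ Q'.hom
          = w1 ≫ (pullback.snd p.left q'.left ≫ q'.left) ≫ Q'.hom := by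
            simp only [Category.assoc]
        _ = w1 ≫ (pullback.fst p.left q'.left ≫ p.left) ≫ Q'.hom := by rw [c]
        _ = (w1 ≫ pullback.fst p.left q'.left) ≫ p.left ≫ Q'.hom := by
            simp only [Category.assoc]
        _ = (w2 ≫ q.left) ≫ p.left ≫ Q'.hom := by rw [hw]
        _ = w2 ≫ q.left ≫ p.left ≫ Q'.hom := by simp only [Category.assoc]
    let x : Over.mk (w2 ≫ P.hom) ⟶ P := Over.homMk w2 rfl
    let y' : Over.mk (w2 ≫ P.hom) ⟶ P' := Over.homMk (w1 ≫ pullback.snd p.left q'.left) hy'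
    have ey : y' ≫ q' = (x ≫ f) ≫ q' := by
      apply Over.OverMorphism.ext
      change (w1 ≫ pullback.snd p.left q'.left) ≫ q'.left = (w2 ≫ f.left) ≫ q'.left
      rw [Category.assoc, c, ← Category.assoc, hw, Category.assoc, Category.assoc, hp']
    obtain ⟨h, hh⟩ := exists_smul_eq a' q' hinv' y' (x ≫ f) ey
    refine IsCov.of_comp_eq (smul a h x).left ?_ hcovw1
    apply pullback.hom_ext
    · rw [Category.assoc, hΦ1, ← Over.comp_left, smul_comp a q hinv]
      exact hw.symm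
    · rw [Category.assoc, hΦ2, ← Over.comp_left, smul_comp_equivariant a a' f hf, ← hh]
      rfl
  have hiso : IsIso (pullback.lift q.left f.left hp') := isIso_of_mono_of_isCov _ hcov
  exact IsPullback.of_iso_pullback ⟨hp'⟩ (asIso (pullback.lift q.left f.left hp')) hΦ1 hΦ2

/-- A flat surjective morphism from a quasi-compact `S₀`-scheme to a separated one is a covering. -/
theorem isCov_of_flat_surjective {P Q : Over S₀} (q : P ⟶ Q) [QuasiCompact P.hom]
    [IsSeparated Q.hom] (h1 : Function.Surjective q.left.base) (h2 : Flat q.left) :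
    IsCov q.left := by
  have : QuasiCompact (q.left ≫ Q.hom) := by
    rw [Over.w q]
    infer_instance
  have : QuasiCompact q.left := QuasiCompact.of_comp q.left Q.hom
  have : Surjective q.left := ⟨h1⟩
  exact (IsQCov.of_quasiCompact q.left).isCov

end Points

section Assoc

variable {S₀ : Scheme.{u}} {H G X : Over S₀} [GrpObj H] [GrpObj G] (j : H ⟶ G)
  (r : AlgGrp.Action H G) (b : AlgGrp.Action H (G ⊗ X))

/-- The projection `G ⊗ X ⟶ G` is equivariant for `h·(g, x) = (g h⁻¹, h x)` and `h·g = g h⁻¹`. -/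
theorem act_fst
    (hr : ∀ (T : Over S₀) (h : T ⟶ H) (g : T ⟶ G), lift h g ≫ r.act = g * (h ≫ j)⁻¹)
    (hb : ∀ (T : Over S₀) (h : T ⟶ H) (g : T ⟶ G) (x : T ⟶ X),
      lift h (lift g x) ≫ b.act ≫ fst G X = g * (h ≫ j)⁻¹) :
    b.act ≫ fst G X = (H ◁ fst G X) ≫ r.act := by
  have e : lift (fst H (G ⊗ X)) (lift (snd H (G ⊗ X) ≫ fst G X) (snd H (G ⊗ X) ≫ snd G X)) =
      𝟙 (H ⊗ (G ⊗ X)) := by
    apply CartesianMonoidalCategory.hom_ext
    · simp
    · apply CartesianMonoidalCategory.hom_ext <;> simp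
  have e1 := hb _ (fst H (G ⊗ X)) (snd H (G ⊗ X) ≫ fst G X) (snd H (G ⊗ X) ≫ snd G X)
  rw [e, Category.id_comp] at e1
  have e2 := hr _ (fst H (G ⊗ X)) (snd H (G ⊗ X) ≫ fst G X)
  have e3 : lift (fst H (G ⊗ X)) (snd H (G ⊗ X) ≫ fst G X) = H ◁ fst G X := by
    apply CartesianMonoidalCategory.hom_ext <;> simp
  rw [e3] at e2
  rw [e1, e2]

/-- The associated bundle square `G ⊗ X ⟶ G`, `G ×^H X ⟶ G/H` is cartesian. -/
theorem isPullback_assoc
    (hr : ∀ (T : Over S₀) (h : T ⟶ H) (g : T ⟶ G), lift h g ≫ r.act = g * (h ≫ j)⁻¹)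
    (hb : ∀ (T : Over S₀) (h : T ⟶ H) (g : T ⟶ G) (x : T ⟶ X),
      lift h (lift g x) ≫ b.act ≫ fst G X = g * (h ≫ j)⁻¹)
    {B QX : Over S₀} (π : G ⟶ B) (hπinv : GIT.IsInvariant r π)
    (hπiso : IsIso (GIT.PsiY r π hπinv))
    (qX : G ⊗ X ⟶ QX) (hqinv : GIT.IsInvariant b qX) (hqiso : IsIso (GIT.PsiY b qX hqinv))
    (hcov : IsCov qX.left) (pX : QX ⟶ B) (hp : qX ≫ pX = fst G X ≫ π) :
    IsPullback qX.left (fst G X).left pX.left π.left :=
  isPullback_of_equivariant b qX hqinv r π hπinv (fst G X) (act_fst j r b hr hb) pX hp hcov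

end Assoc

section Prod

variable {S₀ : Scheme.{u}} {G X Y B QX QY QXY : Over S₀}

set_option backward.isDefEq.respectTransparency.types false in
/-- `G ×^H (X × Y)` is the fibre product of `G ×^H X` and `G ×^H Y` over `G/H` (formal consequence
of the three associated-bundle squares being cartesian and `π` being a covering). -/
theorem isPullback_prod (π : G ⟶ B) (qX : G ⊗ X ⟶ QX) (qY : G ⊗ Y ⟶ QY)
    (qXY : G ⊗ (X ⊗ Y) ⟶ QXY) (pX : QX ⟶ B) (pY : QY ⟶ B) (pXY : QXY ⟶ B) (fX : QXY ⟶ QX)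
    (fY : QXY ⟶ QY)
    (hA : IsPullback qX.left (fst G X).left pX.left π.left)
    (hB : IsPullback qY.left (fst G Y).left pY.left π.left)
    (hC : IsPullback qXY.left (fst G (X ⊗ Y)).left pXY.left π.left)
    (hfX : qXY ≫ fX = (G ◁ fst X Y) ≫ qX) (hfXp : fX ≫ pX = pXY)
    (hfY : qXY ≫ fY = (G ◁ snd X Y) ≫ qY) (hfYp : fY ≫ pY = pXY)
    (hcov : IsCov π.left) : IsPullback fX.left fY.left pX.left pY.left := by
  have ifl := FpqcLocal.flat_descendsAlong_fpqc.{u}
  have hfX' : qXY.left ≫ fX.left = (G ◁ fst X Y).left ≫ qX.left := by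
    rw [← Over.comp_left, ← Over.comp_left, hfX]
  have hfY' : qXY.left ≫ fY.left = (G ◁ snd X Y).left ≫ qY.left := by
    rw [← Over.comp_left, ← Over.comp_left, hfY]
  have hfXp' : fX.left ≫ pX.left = pXY.left := by rw [← Over.comp_left, hfXp]
  have hfYp' : fY.left ≫ pY.left = pXY.left := by rw [← Over.comp_left, hfYp]
  have hΨ : fX.left ≫ pX.left = fY.left ≫ pY.left := by rw [hfXp', hfYp']
  obtain ⟨Z, zX, zY, hZ⟩ : ∃ (Z : Scheme.{u}) (zX : Z ⟶ QX.left) (zY : Z ⟶ QY.left),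
      IsPullback zX zY pX.left pY.left := ⟨_, _, _, IsPullback.of_hasPullback pX.left pY.left⟩
  obtain ⟨Ψ, hΨ1, hΨ2⟩ : ∃ Ψ : QXY.left ⟶ Z, Ψ ≫ zX = fX.left ∧ Ψ ≫ zY = fY.left :=
    ⟨hZ.lift fX.left fY.left hΨ, hZ.lift_fst _ _ _, hZ.lift_snd _ _ _⟩
  suffices hiso : IsIso Ψ by
    refine IsPullback.of_iso hZ (asIso Ψ).symm (Iso.refl _) (Iso.refl _) (Iso.refl _) ?_ ?_ ?_ ?_
    · rw [← hΨ1]
      simp
    · rw [← hΨ2]
      simp
    · simp
    · simp
  obtain ⟨ZG, e, gZ, hZG⟩ : ∃ (ZG : Scheme.{u}) (e : ZG ⟶ Z) (gZ : ZG ⟶ G.left),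
      IsPullback e gZ (zX ≫ pX.left) π.left :=
    ⟨_, _, _, IsPullback.of_hasPullback (zX ≫ pX.left) π.left⟩
  have hcove : IsCov e := hcov.of_isPullback hZG
  have hg' : (qXY.left ≫ Ψ) ≫ zX ≫ pX.left = (fst G (X ⊗ Y)).left ≫ π.left := by
    rw [Category.assoc, ← Category.assoc Ψ, hΨ1, hfXp']
    exact hC.w
  obtain ⟨g', hg'1, hg'2⟩ : ∃ g' : (G ⊗ (X ⊗ Y)).left ⟶ ZG,
      g' ≫ e = qXY.left ≫ Ψ ∧ g' ≫ gZ = (fst G (X ⊗ Y)).left :=
    ⟨hZG.lift _ _ hg', hZG.lift_fst _ _ _, hZG.lift_snd _ _ _⟩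
  have s : IsPullback (g' ≫ gZ) qXY.left π.left (Ψ ≫ zX ≫ pX.left) := by
    rw [hg'2, ← Category.assoc, hΨ1, hfXp']
    exact hC.flip
  have sq : IsPullback g' qXY.left e Ψ := IsPullback.of_right s hg'1 hZG.flip
  suffices hg'iso : IsIso g' by
    have key : (MorphismProperty.isomorphisms Scheme.{u}) Ψ :=
      hcove.descends (MorphismProperty.isomorphisms Scheme.{u}) sq hg'iso
    exact key
  -- the inverse of `g'`
  have hwα : (e ≫ zX) ≫ pX.left = gZ ≫ π.left := by
    rw [Category.assoc]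
    exact hZG.w
  have hwβ : (e ≫ zY) ≫ pY.left = gZ ≫ π.left := by
    rw [Category.assoc, ← hZ.w]
    exact hZG.w
  obtain ⟨αO, hαq, hαf⟩ : ∃ αO : Over.mk (gZ ≫ G.hom) ⟶ G ⊗ X,
      αO.left ≫ qX.left = e ≫ zX ∧ αO ≫ fst G X = Over.homMk gZ rfl := by
    refine ⟨Over.homMk (hA.lift (e ≫ zX) gZ hwα) ?_, hA.lift_fst _ _ _,
      Over.OverMorphism.ext (hA.lift_snd _ _ _)⟩
    rw [← Over.w (fst G X), ← Category.assoc, hA.lift_snd]
    rfl
  obtain ⟨βO, hβq, hβf⟩ : ∃ βO : Over.mk (gZ ≫ G.hom) ⟶ G ⊗ Y,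
      βO.left ≫ qY.left = e ≫ zY ∧ βO ≫ fst G Y = Over.homMk gZ rfl := by
    refine ⟨Over.homMk (hB.lift (e ≫ zY) gZ hwβ) ?_, hB.lift_fst _ _ _,
      Over.OverMorphism.ext (hB.lift_snd _ _ _)⟩
    rw [← Over.w (fst G Y), ← Category.assoc, hB.lift_snd]
    rfl
  obtain ⟨gO, hgO⟩ : ∃ gO : Over.mk (gZ ≫ G.hom) ⟶ G, gO = Over.homMk gZ rfl := ⟨_, rfl⟩
  rw [← hgO] at hαf hβf
  have hgOl : gO.left = gZ := by rw [hgO]; rfl
  have hα_eq : αO = lift gO (αO ≫ snd G X) := by
    apply CartesianMonoidalCategory.hom_ext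
    · rw [lift_fst, hαf]
    · rw [lift_snd]
  have hβ_eq : βO = lift gO (βO ≫ snd G Y) := by
    apply CartesianMonoidalCategory.hom_ext
    · rw [lift_fst, hβf]
    · rw [lift_snd]
  have hd : lift gO (lift (αO ≫ snd G X) (βO ≫ snd G Y)) ≫ (G ◁ fst X Y) = αO := by
    rw [lift_whiskerLeft, lift_fst, ← hα_eq]
  have he : lift gO (lift (αO ≫ snd G X) (βO ≫ snd G Y)) ≫ (G ◁ snd X Y) = βO := by
    rw [lift_whiskerLeft, lift_snd, ← hβ_eq]
  obtain ⟨g'O, hg'O⟩ : ∃ g'O : G ⊗ (X ⊗ Y) ⟶ Over.mk (gZ ≫ G.hom), g'O.left = g' := by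
    refine ⟨Over.homMk g' ?_, rfl⟩
    change g' ≫ gZ ≫ G.hom = _
    rw [← Category.assoc, hg'2, Over.w]
  have k1 : g'O ≫ gO = fst G (X ⊗ Y) := by
    apply Over.OverMorphism.ext
    rw [Over.comp_left, hg'O, hgOl, hg'2]
  have k2 : g'O ≫ αO = G ◁ fst X Y := by
    apply Over.OverMorphism.ext
    apply hA.hom_ext
    · rw [Over.comp_left, hg'O, Category.assoc, hαq, ← Category.assoc, hg'1, Category.assoc,
        hΨ1, hfX']
    · rw [← Over.comp_left, ← Over.comp_left, Category.assoc, hαf, k1, whiskerLeft_fst]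
  have k3 : g'O ≫ βO = G ◁ snd X Y := by
    apply Over.OverMorphism.ext
    apply hB.hom_ext
    · rw [Over.comp_left, hg'O, Category.assoc, hβq, ← Category.assoc, hg'1, Category.assoc,
        hΨ2, hfY']
    · rw [← Over.comp_left, ← Over.comp_left, Category.assoc, hβf, k1, whiskerLeft_fst]
  have hii : g'O ≫ lift gO (lift (αO ≫ snd G X) (βO ≫ snd G Y)) = 𝟙 _ := by
    rw [comp_lift, comp_lift, k1, ← Category.assoc, k2, ← Category.assoc, k3, whiskerLeft_snd,
      whiskerLeft_snd]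
    apply CartesianMonoidalCategory.hom_ext
    · simp
    · apply CartesianMonoidalCategory.hom_ext <;> simp
  refine ⟨(lift gO (lift (αO ≫ snd G X) (βO ≫ snd G Y))).left, ?_, ?_⟩
  · rw [← hg'O, ← Over.comp_left, hii]
    rfl
  · apply hZG.hom_ext
    · rw [Category.assoc, hg'1, Category.id_comp]
      apply hZ.hom_ext
      · rw [Category.assoc, Category.assoc, hΨ1, hfX', ← Category.assoc, ← Over.comp_left, hd,
          hαq]
      · rw [Category.assoc, Category.assoc, hΨ2, hfY', ← Category.assoc, ← Over.comp_left, he,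
          hβq]
    · rw [Category.assoc, hg'2, ← Over.comp_left, lift_fst, Category.id_comp, hgOl]

end Prod

end Groth.Agent.Lib.Helper40.PrinBundle
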