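import Mathlib
import Groth.Prelude.Def_AlgGrp
import Groth.Prelude.Def_ChGrp
import Groth.Agent.Lib.Helper40.BlanchardLemma
import Groth.Agent.Lib.Helper60.Rigidity

/-!
# Actions of connected groups on products of complete varieties (via Blanchard's lemma)
-/

set_option autoImplicit false

universe u
open CategoryTheory CategoryTheory.Limits MonoidalCategory CartesianMonoidalCategory MonObj GrpObj
  AlgebraicGeometry Topology

namespace Groth.Agent.Lib.Helper40.ProdAction

open Groth.Agent.Lib.Helper40.BlanchardLemma Groth.Agent.Lib.Helper40.BlanchardTFAE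

variable {k : Type u} [Field k]

/-- Over an algebraically closed field, the global functions on a universally closed integral
scheme are the constants. -/
theorem bijective_appTop_of_isAlgClosed [IsAlgClosed k] {X : Scheme.{u}}
    (a : X ⟶ Spec (CommRingCat.of k)) [IsIntegral X] [UniversallyClosed a] :
    Function.Bijective ((Scheme.ΓSpecIso (CommRingCat.of k)).inv ≫ a.appTop).hom := by
  let F := (Scheme.ΓSpecIso (CommRingCat.of k)).inv ≫ a.appTop
  have hint : F.hom.IsIntegral := by
    apply RingHom.isIntegral_respectsIso.2 (e := (Scheme.ΓSpecIso _).symm.commRingCatIsoToRingEquiv)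
    exact isIntegral_appTop_of_universallyClosed a
  algebraize [F.hom]
  exact IsAlgClosed.algebraMap_bijective_of_isIntegral (k := k) (K := Γ(X, ⊤))

variable {G X Y : Over (Spec (CommRingCat.of k))}

theorem isIso_app_fst [IsAlgClosed k] [IsProper Y.hom] [IsIntegral Y.left] (U : X.left.Opens) :
    IsIso ((fst X Y).left.app U) := by
  have hfib : ∀ T, IsIso (Y.hom.app T) :=
    Groth.Agent.Lib.Helper60.Rigidity.isIso_app_of_bijective Y.hom
      (bijective_appTop_of_isAlgClosed Y.hom)
  have sq : IsPullback (snd X Y).left (fst X Y).left Y.hom X.hom :=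
    (IsPullback.of_hasPullback X.hom Y.hom).flip
  haveI : Flat X.hom := flat_hom X
  exact Groth.Agent.Lib.Helper48.FibBaseChange.isIso_app_of_isPullback sq hfib U

theorem isIso_app_snd [IsAlgClosed k] [IsProper X.hom] [IsIntegral X.left] (U : Y.left.Opens) :
    IsIso ((snd X Y).left.app U) := by
  have hfib : ∀ T, IsIso (X.hom.app T) :=
    Groth.Agent.Lib.Helper60.Rigidity.isIso_app_of_bijective X.hom
      (bijective_appTop_of_isAlgClosed X.hom)
  have sq : IsPullback (fst X Y).left (snd X Y).left X.hom Y.hom :=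
    IsPullback.of_hasPullback X.hom Y.hom
  haveI : Flat Y.hom := flat_hom Y
  exact Groth.Agent.Lib.Helper48.FibBaseChange.isIso_app_of_isPullback sq hfib U

/-- An action of a connected group on a product of complete varieties is a product action. -/
theorem prod_action [IsAlgClosed k] [GrpObj G] [ConnectedSpace ↥G.left]
    [IsProper X.hom] [IsIntegral X.left] [IsProper Y.hom] [IsIntegral Y.left]
    (a : AlgGrp.Action G (X ⊗ Y)) :
    ∃ (b : AlgGrp.Action G X) (c : AlgGrp.Action G Y),
      a.act = lift ((G ◁ fst X Y) ≫ b.act) ((G ◁ snd X Y) ≫ c.act) ∧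
      ∀ (b' : AlgGrp.Action G X) (c' : AlgGrp.Action G Y),
        a.act = lift ((G ◁ fst X Y) ≫ b'.act) ((G ◁ snd X Y) ≫ c'.act) → b' = b ∧ c' = c := by
  have sq1 : IsPullback (snd X Y).left (fst X Y).left Y.hom X.hom :=
    (IsPullback.of_hasPullback X.hom Y.hom).flip
  have sq2 : IsPullback (fst X Y).left (snd X Y).left X.hom Y.hom :=
    IsPullback.of_hasPullback X.hom Y.hom
  haveI : IsProper (fst X Y).left :=
    MorphismProperty.of_isPullback (P := @IsProper) sq1 inferInstance
  haveI : IsProper (snd X Y).left :=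
    MorphismProperty.of_isPullback (P := @IsProper) sq2 inferInstance
  obtain ⟨b, hb, hbu⟩ := blanchard a (fst X Y) (fun U => isIso_app_fst U)
  obtain ⟨c, hc, hcu⟩ := blanchard a (snd X Y) (fun U => isIso_app_snd U)
  have hb' : (G ◁ fst X Y) ≫ b.act = a.act ≫ fst X Y := hb
  have hc' : (G ◁ snd X Y) ≫ c.act = a.act ≫ snd X Y := hc
  refine ⟨b, c, ?_, ?_⟩
  · apply CartesianMonoidalCategory.hom_ext
    · rw [lift_fst, hb']
    · rw [lift_snd, hc']
  · intro b' c' h
    constructor
    · apply hbu
      show (G ◁ fst X Y) ≫ b'.act = a.act ≫ fst X Y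
      rw [h, lift_fst]
    · apply hcu
      show (G ◁ snd X Y) ≫ c'.act = a.act ≫ snd X Y
      rw [h, lift_snd]

end Groth.Agent.Lib.Helper40.ProdAction
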