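import Groth.Agent.Lib.Helper40.TorsorPush
import Groth.Agent.Lib.Helper40.TorsorTriv
import Groth.Agent.Lib.Helper40.FpqcCovOver
import Groth.Agent.Lib.Helper40.LocTrivCov

/-!
# Lifting points along a `φ`-equivariant map of torsors when `φ` is bijective on points

Let `φ : G ⟶ G'` be a homomorphism of group schemes over `S`, `P` a `G`-pseudo-torsor covering `S`,
`P'` a `G'`-pseudo-torsor, `q : P ⟶ P'` a `φ`-equivariant map, and `TX : Over S` such that `φ` is
bijective on `W`-points for all `W` mapping to `TX`.  Then every `TX`-point of `P'` lifts uniquely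
to a `TX`-point of `P`.
-/

set_option autoImplicit false
universe u
open CategoryTheory MonoidalCategory CartesianMonoidalCategory MonObj GrpObj AlgebraicGeometry Limits

namespace Groth.Agent.Lib.Helper40.PushGeneric

open Groth.Agent.Lib.Helper40.ActPts Groth.Agent.Lib.Helper40.TorsorTriv
  Groth.Agent.Lib.Helper40.FpqcCov Groth.Agent.Lib.Helper40.TorsorPush

variable {S : Scheme.{u}} {G G' P P' : Over S} [GrpObj G] [GrpObj G'] (φ : G ⟶ G') [IsMonHom φ]
  (a : AlgGrp.Action G P) (a' : AlgGrp.Action G' P') (q : P ⟶ P')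
  (hq : a.act ≫ q = lift (fst G P ≫ φ) (snd G P ≫ q) ≫ a'.act)

include hq in
/-- Uniqueness of lifts. -/
theorem lift_unique (hps : NonAbH1.IsPseudoTorsorSch a) (hps' : NonAbH1.IsPseudoTorsorSch a')
    {R : Over S} (hinj : Function.Injective (fun h : R ⟶ G => h ≫ φ))
    (t₁ t₂ : R ⟶ P) (h12 : t₁ ≫ q = t₂ ≫ q) : t₁ = t₂ := by
  have h1 : smul a (lift t₁ t₂ ≫ divMap a hps) t₂ = t₁ := smul_divMap a hps t₁ t₂
  have h2 := equivariant_pts φ a a' q hq (lift t₁ t₂ ≫ divMap a hps) t₂
  rw [h1, h12] at h2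
  have h3 : (lift t₁ t₂ ≫ divMap a hps) ≫ φ = (1 : R ⟶ G') := by
    have e1 := divMap_smul a' hps' ((lift t₁ t₂ ≫ divMap a hps) ≫ φ) (t₂ ≫ q)
    have e2 := divMap_smul a' hps' (1 : R ⟶ G') (t₂ ≫ q)
    rw [← h2] at e1
    rw [ActPts.one_smul] at e2
    rw [← e1, e2]
  have h4 : (1 : R ⟶ G) ≫ φ = (1 : R ⟶ G') := by
    rw [Hom.one_def, Hom.one_def, Category.assoc, IsMonHom.one_hom]
  have h5 : lift t₁ t₂ ≫ divMap a hps = (1 : R ⟶ G) := hinj (h3.trans h4.symm)
  rw [h5, ActPts.one_smul] at h1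
  exact h1.symm

include hq in
/-- Existence of lifts. -/
theorem exists_lift (hps : NonAbH1.IsPseudoTorsorSch a) (hps' : NonAbH1.IsPseudoTorsorSch a')
    (hcov : IsCov P.hom) (TX : Over S)
    (hbij : ∀ (W : Over S), (W ⟶ TX) → Function.Bijective (fun h : W ⟶ G => h ≫ φ))
    (σ' : TX ⟶ P') : ∃ t : TX ⟶ P, t ≫ q = σ' := by
  have hc : IsCov (fst TX P).left := isCov_fst_left TX P hcov
  have hepi := epi_of_isCov_left hc
  obtain ⟨h, hh⟩ := (hbij (TX ⊗ P) (fst TX P)).2
    (lift (fst TX P ≫ σ') (snd TX P ≫ q) ≫ divMap a' hps')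
  change h ≫ φ = _ at hh
  have hf' : smul a h (snd TX P) ≫ q = fst TX P ≫ σ' := by
    rw [equivariant_pts φ a a' q hq, hh, smul_divMap]
  obtain ⟨t, ht⟩ := exists_desc_over hc (smul a h (snd TX P)) (by
    intro R x y hxy
    apply lift_unique φ a a' q hq hps hps' (hbij R (x ≫ fst TX P)).1
    rw [Category.assoc, Category.assoc, hf', ← Category.assoc, ← Category.assoc, hxy])
  refine ⟨t, ?_⟩
  rw [← cancel_epi (fst TX P), ← Category.assoc, ht, hf']


section Bij

variable {X T : Scheme.{u}} (j : T ⟶ X) {A B : Over X} (g : A ⟶ B)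

/-- If `j^* g` is an isomorphism then `g` is bijective on `W`-points for every `W` of the form
`j_! W₀`. -/
theorem bijective_comp_of_isIso_map (hg : IsIso ((Over.pullback j).map g)) (W₀ : Over T) :
    Function.Bijective (fun h : (Over.map j).obj W₀ ⟶ A => h ≫ g) := by
  have h : (fun h : (Over.map j).obj W₀ ⟶ A => h ≫ g) =
      ((Over.mapPullbackAdj j).homEquiv W₀ B).symm ∘
        (fun k : W₀ ⟶ (Over.pullback j).obj A => k ≫ (Over.pullback j).map g) ∘
          ((Over.mapPullbackAdj j).homEquiv W₀ A) := by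
    funext h
    change h ≫ g = ((Over.mapPullbackAdj j).homEquiv W₀ B).symm
      ((Over.mapPullbackAdj j).homEquiv W₀ A h ≫ (Over.pullback j).map g)
    rw [← Adjunction.homEquiv_naturality_right, Equiv.symm_apply_apply]
  rw [h]
  refine (Equiv.bijective _).comp (Function.Bijective.comp ?_ (Equiv.bijective _))
  constructor
  · intro k₁ k₂ h12
    exact (cancel_mono ((Over.pullback j).map g)).1 h12
  · intro k
    exact ⟨k ≫ inv ((Over.pullback j).map g), by simp⟩

/-- If `j^* g` is an isomorphism then `g` is bijective on `W`-points for every `W` mapping to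
`Over.mk j`. -/
theorem bijective_comp_of_isIso_map' (hg : IsIso ((Over.pullback j).map g)) (W : Over X)
    (u : W ⟶ Over.mk j) : Function.Bijective (fun h : W ⟶ A => h ≫ g) := by
  let e : (Over.map j).obj (Over.mk u.left) ≅ W :=
    Over.isoMk (Iso.refl _) (by simpa using (Over.w u).symm)
  have h1 := bijective_comp_of_isIso_map j g hg (Over.mk u.left)
  have h : (fun h : W ⟶ A => h ≫ g) =
      (fun k : (Over.map j).obj (Over.mk u.left) ⟶ B => e.inv ≫ k) ∘
        (fun h : (Over.map j).obj (Over.mk u.left) ⟶ A => h ≫ g) ∘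
          (fun h : W ⟶ A => e.hom ≫ h) := by
    funext h
    change h ≫ g = e.inv ≫ (e.hom ≫ h) ≫ g
    rw [Category.assoc, Iso.inv_hom_id_assoc]
  rw [h]
  refine Function.Bijective.comp ?_ (Function.Bijective.comp h1 ?_)
  · constructor
    · intro k₁ k₂ h12
      exact (cancel_epi e.inv).1 h12
    · intro k
      exact ⟨e.hom ≫ k, by simp⟩
  · constructor
    · intro k₁ k₂ h12
      exact (cancel_epi e.hom).1 h12
    · intro k
      exact ⟨e.inv ≫ k, by simp⟩

end Bij

end Groth.Agent.Lib.Helper40.PushGeneric
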