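import Mathlib
import Groth.Prelude.Def_AlgGrp
import Groth.Prelude.Def_ChGrp
import Groth.Agent.Lib.Helper40.FpqcCov
import Groth.Agent.Lib.Helper40.FpqcCovOver

/-!
# The action of a quotient group `G/N` when `N` acts trivially (helper40)
-/

set_option autoImplicit false
open CategoryTheory CategoryTheory.Limits AlgebraicGeometry MonoidalCategory
open CartesianMonoidalCategory MonObj GrpObj
universe u

namespace Groth.Agent.Lib.Helper40.QuotAction

open Groth.Agent.Lib.Helper40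

variable {S : Scheme.{u}} {G N Q X : Over S} [GrpObj G] [GrpObj N] [GrpObj Q]

theorem action_ext {b b' : AlgGrp.Action Q X} (h : b.act = b'.act) : b = b' := by
  obtain ⟨act, h1, h2⟩ := b
  obtain ⟨act', h1', h2'⟩ := b'
  simp only at h
  subst h
  rfl

section

variable (a : AlgGrp.Action G X) (n : N ⟶ G) (π : G ⟶ Q) [IsMonHom π]
  (hN : ∀ (T : Over S) (g : T ⟶ G), (∃ m : T ⟶ N, m ≫ n = g) ↔
    ∀ (T' : Over S) (s : T' ⟶ T) (x : T' ⟶ X), lift (s ≫ g) x ≫ a.act = x)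
  (hker : AlgGrp.IsKernel n π)

include hN hker in
theorem act_eq_of_comp_eq {T : Over S} (γ₁ γ₂ : T ⟶ G) (x : T ⟶ X) (h : γ₁ ≫ π = γ₂ ≫ π) :
    lift γ₁ x ≫ a.act = lift γ₂ x ≫ a.act := by
  have hδ : (γ₁⁻¹ * γ₂) ≫ π = toUnit T ≫ η[Q] := by
    rw [MonObj.mul_comp, GrpObj.inv_comp, h, _root_.inv_mul_cancel, Hom.one_def]
  obtain ⟨m, hm⟩ : ∃ m : T ⟶ N, m ≫ n = γ₁⁻¹ * γ₂ := ⟨hker.lift _ _ hδ, hker.lift_fst _ _ _⟩
  have htriv := (hN T (γ₁⁻¹ * γ₂)).mp ⟨m, hm⟩ T (𝟙 T) x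
  rw [Category.id_comp] at htriv
  calc lift γ₁ x ≫ a.act = lift γ₁ (lift (γ₁⁻¹ * γ₂) x ≫ a.act) ≫ a.act := by rw [htriv]
    _ = lift (γ₁ * (γ₁⁻¹ * γ₂)) x ≫ a.act := (AlgGrp.Action.lift_mul_act a _ _ _).symm
    _ = lift γ₂ x ≫ a.act := by rw [_root_.mul_inv_cancel_left]

theorem isCov_whiskerRight (hcov : FpqcCov.IsCov π.left) (Z : Over S) :
    FpqcCov.IsCov (π ▷ Z).left :=
  hcov.of_isPullback ((FpqcCov.isPullback_whiskerRight π Z).map (Over.forget _))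

theorem isCov_whiskerLeft (hcov : FpqcCov.IsCov π.left) (Z : Over S) :
    FpqcCov.IsCov (Z ◁ π).left :=
  hcov.of_isPullback ((FpqcCov.isPullback_whiskerLeft Z π).map (Over.forget _))

theorem epi_whiskerRight (hcov : FpqcCov.IsCov π.left) (Z : Over S) : Epi (π ▷ Z) :=
  haveI : Epi ((Over.forget S).map (π ▷ Z)) := (isCov_whiskerRight π hcov Z).epi
  (Over.forget S).epi_of_epi_map (f := π ▷ Z) inferInstance

theorem epi_whiskerLeft (hcov : FpqcCov.IsCov π.left) (Z : Over S) : Epi (Z ◁ π) :=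
  haveI : Epi ((Over.forget S).map (Z ◁ π)) := (isCov_whiskerLeft π hcov Z).epi
  (Over.forget S).epi_of_epi_map (f := Z ◁ π) inferInstance

include hN hker in
theorem exists_quot_act (hcov : FpqcCov.IsCov π.left) :
    ∃ bact : Q ⊗ X ⟶ X, (π ▷ X) ≫ bact = a.act := by
  have hcov' : FpqcCov.IsCov (π ▷ X).left := isCov_whiskerRight π hcov X
  haveI := hcov'.effectiveEpi
  have hdesc : ∀ {Z : Scheme.{u}} (g₁ g₂ : Z ⟶ (G ⊗ X).left),
      g₁ ≫ (π ▷ X).left = g₂ ≫ (π ▷ X).left → g₁ ≫ a.act.left = g₂ ≫ a.act.left := by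
    intro Z g₁ g₂ h12
    have hs : g₂ ≫ (G ⊗ X).hom = g₁ ≫ (G ⊗ X).hom := by
      have e1 : (π ▷ X).left ≫ (Q ⊗ X).hom = (G ⊗ X).hom := Over.w (π ▷ X)
      rw [← e1, ← Category.assoc, ← Category.assoc, h12]
    obtain ⟨T, t₁, t₂, ht1, ht2⟩ : ∃ (T : Over S) (t₁ t₂ : T ⟶ G ⊗ X) (_ : T.left = Z),
        HEq t₁.left g₁ ∧ HEq t₂.left g₂ :=
      ⟨Over.mk (g₁ ≫ (G ⊗ X).hom), Over.homMk g₁ rfl, Over.homMk g₂ hs, rfl, HEq.rfl, HEq.rfl⟩
    subst ht1
    obtain ⟨h1, h2⟩ := ht2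
    have h1' : t₁.left = g₁ := eq_of_heq h1
    have h2' : t₂.left = g₂ := eq_of_heq h2
    subst h1' h2'
    have ht : t₁ ≫ (π ▷ X) = t₂ ≫ (π ▷ X) := Over.OverMorphism.ext h12
    have hγ : (t₁ ≫ fst G X) ≫ π = (t₂ ≫ fst G X) ≫ π := by
      have := congrArg (fun k => k ≫ fst Q X) ht
      simpa only [Category.assoc, whiskerRight_fst] using this
    have hx : t₁ ≫ snd G X = t₂ ≫ snd G X := by
      have := congrArg (fun k => k ≫ snd Q X) ht
      simpa only [Category.assoc, whiskerRight_snd] using this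
    have e1 : t₁ = lift (t₁ ≫ fst G X) (t₁ ≫ snd G X) := by
      rw [← comp_lift, lift_fst_snd, Category.comp_id]
    have e2 : t₂ = lift (t₂ ≫ fst G X) (t₁ ≫ snd G X) := by
      rw [hx, ← comp_lift, lift_fst_snd, Category.comp_id]
    have key : t₁ ≫ a.act = t₂ ≫ a.act :=
      (congrArg (fun k => k ≫ a.act) e1).trans
        ((act_eq_of_comp_eq a n π hN hker _ _ _ hγ).trans
          (congrArg (fun k => k ≫ a.act) e2).symm)
    exact congrArg CommaMorphism.left key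
  obtain ⟨bl, hbl⟩ : ∃ bl : (Q ⊗ X).left ⟶ X.left, (π ▷ X).left ≫ bl = a.act.left :=
    ⟨EffectiveEpi.desc (π ▷ X).left a.act.left (fun g₁ g₂ h => hdesc g₁ g₂ h),
      EffectiveEpi.fac _ _ _⟩
  have hw : bl ≫ X.hom = (Q ⊗ X).hom := by
    haveI : Epi (π ▷ X).left := hcov'.epi
    rw [← cancel_epi (π ▷ X).left, ← Category.assoc, hbl, Over.w a.act, Over.w (π ▷ X)]
  exact ⟨Over.homMk bl hw, Over.OverMorphism.ext hbl⟩

include hN hker in
theorem exists_quot_action (hcov : FpqcCov.IsCov π.left) :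
    ∃ b : AlgGrp.Action Q X, (π ▷ X) ≫ b.act = a.act := by
  obtain ⟨bact, hb⟩ := exists_quot_act a n π hN hker hcov
  have pb : ∀ {T : Over S} (g : T ⟶ G) (x : T ⟶ X),
      lift (g ≫ π) x ≫ bact = lift g x ≫ a.act := by
    intro T g x; rw [← hb, lift_whiskerRight_assoc]
  refine ⟨⟨bact, ?_, ?_⟩, hb⟩
  · have hη : η[Q] = η[G] ≫ π := (IsMonHom.one_hom (f := π)).symm
    rw [hη, comp_whiskerRight, Category.assoc, hb, a.one_act]
  · haveI := epi_whiskerRight (π ▷ G) (isCov_whiskerRight π hcov G) X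
    haveI := epi_whiskerRight (Q ◁ π) (isCov_whiskerLeft π hcov Q) X
    rw [← cancel_epi ((Q ◁ π) ▷ X), ← cancel_epi ((π ▷ G) ▷ X)]
    apply AlgGrp.Action.hom_ext_lift₃
    intro T g g' x
    simp only [lift_whiskerRight_assoc, lift_whiskerRight, lift_whiskerLeft,
      lift_whiskerLeft_assoc, lift_lift_associator_hom_assoc]
    rw [← Hom.mul_def, ← MonObj.mul_comp]
    simp only [pb]
    exact AlgGrp.Action.lift_mul_act a g g' x

include hN hker in
theorem existsUnique_quot_action (hcov : FpqcCov.IsCov π.left) :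
    ∃! b : AlgGrp.Action Q X, (π ▷ X) ≫ b.act = a.act := by
  obtain ⟨b, hb⟩ := exists_quot_action a n π hN hker hcov
  refine ⟨b, hb, fun b' hb' => ?_⟩
  apply action_ext
  haveI := epi_whiskerRight π hcov X
  rw [← cancel_epi (π ▷ X), hb', hb]

include hN hker in
theorem faithful (b : AlgGrp.Action Q X) (hb : (π ▷ X) ≫ b.act = a.act)
    (hcov : FpqcCov.IsCov π.left) {T : Over S} (q : T ⟶ Q)
    (hq : ∀ (T' : Over S) (s : T' ⟶ T) (x : T' ⟶ X), lift (s ≫ q) x ≫ b.act = x) : q = 1 := by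
  obtain ⟨T₁, s, gam, hsq⟩ : ∃ (T₁ : Over S) (s : T₁ ⟶ T) (gam : T₁ ⟶ G), IsPullback s gam q π :=
    ⟨_, _, _, IsPullback.of_hasPullback q π⟩
  have hsqL : IsPullback s.left gam.left q.left π.left := hsq.map (Over.forget _)
  haveI : Epi ((Over.forget S).map s) := (hcov.of_isPullback hsqL).epi
  haveI : Epi s := (Over.forget S).epi_of_epi_map (f := s) inferInstance
  have htriv : ∀ (T' : Over S) (s' : T' ⟶ T₁) (x : T' ⟶ X), lift (s' ≫ gam) x ≫ a.act = x := by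
    intro T' s' x
    rw [← hb, lift_whiskerRight_assoc, Category.assoc, ← hsq.w, ← Category.assoc]
    exact hq T' (s' ≫ s) x
  obtain ⟨m, hm⟩ := (hN T₁ gam).mpr htriv
  have h1 : gam ≫ π = 1 := by
    rw [← hm, Category.assoc, hker.w, ← Category.assoc, Hom.one_def,
      toUnit_unique (m ≫ toUnit N) (toUnit T₁)]
  rw [← cancel_epi s, hsq.w, h1, MonObj.comp_one]

theorem graph_eq (b : AlgGrp.Action Q X) (hb : (π ▷ X) ≫ b.act = a.act) :
    lift (snd G X) a.act = (π ▷ X) ≫ lift (snd Q X) b.act := by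
  rw [comp_lift, whiskerRight_snd, hb]

end

end Groth.Agent.Lib.Helper40.QuotAction
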