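import Mathlib

/-!
# Relatively representable morphisms: equalizers of points, diagonals
-/

universe v₁ v₂ u₁ u₂
open CategoryTheory CategoryTheory.Limits

namespace Groth.Agent.Lib.Helper40.RelRep

variable {C : Type u₁} [Category.{v₁} C] {D : Type u₂} [Category.{v₂} D] (F : C ⥤ D)
  [F.Full] [F.Faithful] [HasPullbacks C] [PreservesLimitsOfShape WalkingCospan F]

/-- If `a : G ⟶ X` is relatively representable and `u₁ u₂ : F.obj W ⟶ G` agree after composing
with `a`, then their equalizer is represented by some `e : E ⟶ W`. -/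
theorem exists_equalizer {G X : D} {a : G ⟶ X} (ha : F.relativelyRepresentable a) {W : C}
    (u₁ u₂ : F.obj W ⟶ G) (hu : u₁ ≫ a = u₂ ≫ a) :
    ∃ (E : C) (e : E ⟶ W), F.map e ≫ u₁ = F.map e ≫ u₂ ∧
      ∀ ⦃Z : D⦄ (z : Z ⟶ F.obj W), z ≫ u₁ = z ≫ u₂ →
        ∃ ℓ : Z ⟶ F.obj E, ℓ ≫ F.map e = z ∧ ∀ m : Z ⟶ F.obj E, m ≫ F.map e = z → m = ℓ := by
  obtain ⟨V, snd, fst, sq⟩ := ha (u₁ ≫ a)
  have c1 : u₁ ≫ a = F.map (𝟙 W) ≫ u₁ ≫ a := by
    rw [CategoryTheory.Functor.map_id, Category.id_comp]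
  have c2 : u₂ ≫ a = F.map (𝟙 W) ≫ u₁ ≫ a := by
    rw [CategoryTheory.Functor.map_id, Category.id_comp, hu]
  let σ₁ : W ⟶ V := F.preimage (sq.lift u₁ (F.map (𝟙 W)) c1)
  let σ₂ : W ⟶ V := F.preimage (sq.lift u₂ (F.map (𝟙 W)) c2)
  have hσ₁f : F.map σ₁ ≫ fst = u₁ := by
    rw [Functor.map_preimage, sq.lift_fst]
  have hσ₂f : F.map σ₂ ≫ fst = u₂ := by
    rw [Functor.map_preimage, sq.lift_fst]
  have hσ₁s : σ₁ ≫ snd = 𝟙 W := by
    apply F.map_injective
    rw [Functor.map_comp, Functor.map_preimage, sq.lift_snd]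
  have hσ₂s : σ₂ ≫ snd = 𝟙 W := by
    apply F.map_injective
    rw [Functor.map_comp, Functor.map_preimage, sq.lift_snd]
  let E := pullback σ₁ σ₂
  let e₁ : E ⟶ W := pullback.fst σ₁ σ₂
  let e₂ : E ⟶ W := pullback.snd σ₁ σ₂
  have hE : IsPullback e₁ e₂ σ₁ σ₂ := IsPullback.of_hasPullback σ₁ σ₂
  have he : e₁ = e₂ := by
    have := congrArg (· ≫ snd) hE.w
    simp only [Category.assoc] at this
    rw [hσ₁s, hσ₂s, Category.comp_id, Category.comp_id] at this
    exact this
  have hE' : IsPullback (F.map e₁) (F.map e₂) (F.map σ₁) (F.map σ₂) := hE.map F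
  refine ⟨E, e₁, ?_, ?_⟩
  · rw [← hσ₁f, ← hσ₂f, ← Category.assoc, ← Category.assoc, hE'.w, he]
  · intro Z z hz
    have hzz : z ≫ F.map σ₁ = z ≫ F.map σ₂ := by
      apply sq.hom_ext
      · rw [Category.assoc, Category.assoc, hσ₁f, hσ₂f, hz]
      · rw [Category.assoc, Category.assoc, ← Functor.map_comp, ← Functor.map_comp, hσ₁s, hσ₂s]
    refine ⟨hE'.lift z z hzz, hE'.lift_fst _ _ _, ?_⟩
    intro m hm
    apply hE'.hom_ext
    · rw [hE'.lift_fst, hm]
    · rw [hE'.lift_snd, ← he, hm]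

/-- The relative diagonal of a relatively representable morphism is relatively representable. -/
theorem diagonal {G X : D} {a : G ⟶ X} (ha : F.relativelyRepresentable a) [HasPullback a a] :
    F.relativelyRepresentable (pullback.diagonal a) := by
  intro T g
  set g₁ : F.obj T ⟶ G := g ≫ pullback.fst a a with hg₁
  set g₂ : F.obj T ⟶ G := g ≫ pullback.snd a a with hg₂
  have hc : g₁ ≫ a = g₂ ≫ a := by
    rw [hg₁, hg₂, Category.assoc, Category.assoc, pullback.condition]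
  obtain ⟨E, e, he, huniv⟩ := exists_equalizer F ha g₁ g₂ hc
  have hw : (F.map e ≫ g₁) ≫ pullback.diagonal a = F.map e ≫ g := by
    apply pullback.hom_ext
    · rw [Category.assoc, pullback.diagonal_fst, Category.comp_id, Category.assoc]
    · rw [Category.assoc, pullback.diagonal_snd, Category.comp_id, Category.assoc, he]
  have hs : ∀ s : PullbackCone (pullback.diagonal a) g,
      s.fst = s.snd ≫ g₁ ∧ s.fst = s.snd ≫ g₂ := by
    intro s
    constructor
    · have := congrArg (· ≫ pullback.fst a a) s.condition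
      simp only [Category.assoc] at this
      rw [pullback.diagonal_fst, Category.comp_id] at this
      exact this
    · have := congrArg (· ≫ pullback.snd a a) s.condition
      simp only [Category.assoc] at this
      rw [pullback.diagonal_snd, Category.comp_id] at this
      exact this
  have hs' : ∀ s : PullbackCone (pullback.diagonal a) g, s.snd ≫ g₁ = s.snd ≫ g₂ := fun s => by
    rw [← (hs s).1, ← (hs s).2]
  refine ⟨E, e, F.map e ≫ g₁, ⟨⟨hw⟩, ⟨PullbackCone.IsLimit.mk hw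
    (fun s => (huniv s.snd (hs' s)).choose) ?_ ?_ ?_⟩⟩⟩
  · intro s
    rw [← Category.assoc, (huniv s.snd (hs' s)).choose_spec.1, (hs s).1]
  · intro s
    exact (huniv s.snd (hs' s)).choose_spec.1
  · intro s m _ hm2
    exact (huniv s.snd (hs' s)).choose_spec.2 m hm2

/-- If `a : G ⟶ X` is relatively representable and all maps `F.obj T ⟶ X` are relatively
representable, then all maps `F.obj T ⟶ G` are relatively representable. -/
theorem of_map_to_rep {G X : D} {a : G ⟶ X} (ha : F.relativelyRepresentable a)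
    (hX : ∀ ⦃T : C⦄ (x : F.obj T ⟶ X), F.relativelyRepresentable x) ⦃T : C⦄ (t : F.obj T ⟶ G) :
    F.relativelyRepresentable t := by
  intro T' t'
  obtain ⟨W₀, q, p, sq₀⟩ := hX (t ≫ a) (t' ≫ a)
  -- sq₀ : IsPullback p (F.map q) (t ≫ a) (t' ≫ a)
  have hu : (p ≫ t) ≫ a = (F.map q ≫ t') ≫ a := by
    rw [Category.assoc, Category.assoc, sq₀.w]
  obtain ⟨E, e, he, huniv⟩ := exists_equalizer F ha (p ≫ t) (F.map q ≫ t') hu
  have hw : (F.map e ≫ p) ≫ t = F.map (e ≫ q) ≫ t' := by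
    rw [Category.assoc, he, Functor.map_comp, Category.assoc]
  have hs : ∀ s : PullbackCone t t', s.fst ≫ t ≫ a = s.snd ≫ t' ≫ a := fun s => by
    rw [← Category.assoc, s.condition, Category.assoc]
  have hs' : ∀ s : PullbackCone t t',
      sq₀.lift s.fst s.snd (hs s) ≫ (p ≫ t) = sq₀.lift s.fst s.snd (hs s) ≫ (F.map q ≫ t') := by
    intro s
    rw [← Category.assoc, ← Category.assoc, sq₀.lift_fst, sq₀.lift_snd, s.condition]
  refine ⟨E, e ≫ q, F.map e ≫ p, ⟨⟨hw⟩, ⟨PullbackCone.IsLimit.mk hw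
    (fun s => (huniv _ (hs' s)).choose) ?_ ?_ ?_⟩⟩⟩
  · intro s
    rw [← Category.assoc, (huniv _ (hs' s)).choose_spec.1, sq₀.lift_fst]
  · intro s
    rw [Functor.map_comp, ← Category.assoc, (huniv _ (hs' s)).choose_spec.1, sq₀.lift_snd]
  · intro s m hm1 hm2
    apply (huniv _ (hs' s)).choose_spec.2 m
    apply sq₀.hom_ext
    · rw [Category.assoc, hm1, sq₀.lift_fst]
    · rw [Category.assoc, ← Functor.map_comp, hm2, sq₀.lift_snd]

end Groth.Agent.Lib.Helper40.RelRep

namespace Groth.Agent.Lib.Helper40.RelRep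

variable {C : Type u₁} [Category.{v₁} C] {D : Type u₂} [Category.{v₂} D] (F : C ⥤ D)

/-- If the diagonal of `Y` is relatively representable, equalizers of pairs of points of `Y` are
represented. -/
theorem exists_equalizer_of_diag [HasBinaryProducts D] {Y : D}
    (hY : F.relativelyRepresentable (Limits.diag Y)) {W : C} (u₁ u₂ : F.obj W ⟶ Y) :
    ∃ (E : C) (e : E ⟶ W), F.map e ≫ u₁ = F.map e ≫ u₂ ∧
      ∀ ⦃Z : D⦄ (z : Z ⟶ F.obj W), z ≫ u₁ = z ≫ u₂ →
        ∃ ℓ : Z ⟶ F.obj E, ℓ ≫ F.map e = z ∧ ∀ m : Z ⟶ F.obj E, m ≫ F.map e = z → m = ℓ := by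
  obtain ⟨E, e, fst, sq⟩ := hY (prod.lift u₁ u₂)
  have d1 : Limits.diag Y ≫ prod.fst = 𝟙 Y := prod.lift_fst _ _
  have d2 : Limits.diag Y ≫ prod.snd = 𝟙 Y := prod.lift_snd _ _
  have l1 : prod.lift u₁ u₂ ≫ prod.fst = u₁ := prod.lift_fst _ _
  have l2 : prod.lift u₁ u₂ ≫ prod.snd = u₂ := prod.lift_snd _ _
  have e1 : fst = F.map e ≫ u₁ := by
    have := congrArg (· ≫ prod.fst) sq.w
    simp only [Category.assoc] at this
    rw [d1, l1, Category.comp_id] at this
    exact this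
  have e2 : fst = F.map e ≫ u₂ := by
    have := congrArg (· ≫ prod.snd) sq.w
    simp only [Category.assoc] at this
    rw [d2, l2, Category.comp_id] at this
    exact this
  refine ⟨E, e, e1.symm.trans e2, ?_⟩
  intro Z z hz
  have hc : (z ≫ u₁) ≫ Limits.diag Y = z ≫ prod.lift u₁ u₂ := by
    apply Limits.prod.hom_ext
    · rw [Category.assoc, d1, Category.comp_id, Category.assoc, l1]
    · rw [Category.assoc, d2, Category.comp_id, Category.assoc, l2, hz]
  refine ⟨sq.lift (z ≫ u₁) z hc, sq.lift_snd _ _ _, ?_⟩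
  intro m hm
  apply sq.hom_ext
  · rw [sq.lift_fst, e1, ← Category.assoc, hm]
  · rw [sq.lift_snd, hm]

/-- Points of a "jointly monic pair" `P ⟶ X`, `P ⟶ Y` are relatively representable as soon as
points of `X` are and `Y` has representable diagonal. -/
theorem of_jointly_mono [HasBinaryProducts D] {P X Y : D} (fst : P ⟶ X) (snd : P ⟶ Y)
    (hmono : ∀ ⦃Z : D⦄ (m m' : Z ⟶ P), m ≫ fst = m' ≫ fst → m ≫ snd = m' ≫ snd → m = m')
    (hX : ∀ ⦃T : C⦄ (x : F.obj T ⟶ X), F.relativelyRepresentable x)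
    (hY : F.relativelyRepresentable (Limits.diag Y)) ⦃T : C⦄ (t : F.obj T ⟶ P) :
    F.relativelyRepresentable t := by
  intro T' t'
  obtain ⟨W₀, q, p, sq₀⟩ := hX (t ≫ fst) (t' ≫ fst)
  obtain ⟨E, e, he, huniv⟩ := exists_equalizer_of_diag F hY (p ≫ t ≫ snd) (F.map q ≫ t' ≫ snd)
  have hw : (F.map e ≫ p) ≫ t = F.map (e ≫ q) ≫ t' := by
    apply hmono
    · rw [Category.assoc, Category.assoc, sq₀.w, Functor.map_comp, Category.assoc, Category.assoc]
    · rw [Category.assoc, Category.assoc, he, Functor.map_comp, Category.assoc, Category.assoc]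
  have hs : ∀ s : PullbackCone t t', s.fst ≫ t ≫ fst = s.snd ≫ t' ≫ fst := fun s => by
    rw [← Category.assoc, s.condition, Category.assoc]
  have hs' : ∀ s : PullbackCone t t',
      sq₀.lift s.fst s.snd (hs s) ≫ (p ≫ t ≫ snd) =
        sq₀.lift s.fst s.snd (hs s) ≫ (F.map q ≫ t' ≫ snd) := by
    intro s
    rw [← Category.assoc, sq₀.lift_fst, ← Category.assoc (sq₀.lift s.fst s.snd (hs s)),
      sq₀.lift_snd, ← Category.assoc, ← Category.assoc, s.condition]
  refine ⟨E, e ≫ q, F.map e ≫ p, ⟨⟨hw⟩, ⟨PullbackCone.IsLimit.mk hw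
    (fun s => (huniv _ (hs' s)).choose) ?_ ?_ ?_⟩⟩⟩
  · intro s
    rw [← Category.assoc, (huniv _ (hs' s)).choose_spec.1, sq₀.lift_fst]
  · intro s
    rw [Functor.map_comp, ← Category.assoc, (huniv _ (hs' s)).choose_spec.1, sq₀.lift_snd]
  · intro s m hm1 hm2
    apply (huniv _ (hs' s)).choose_spec.2 m
    apply sq₀.hom_ext
    · rw [Category.assoc, hm1, sq₀.lift_fst]
    · rw [Category.assoc, ← Functor.map_comp, hm2, sq₀.lift_snd]

end Groth.Agent.Lib.Helper40.RelRep
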