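import Mathlib
import Groth.Prelude.Def_NonAbH2
import Groth.Prelude.Def_Red
import Groth.Agent.Lib.Helper40.TorsorExact2

/-!
# fpqc torsors and faithfully flat base change
-/

set_option autoImplicit false
set_option linter.unusedSectionVars false
open CategoryTheory CategoryTheory.Limits AlgebraicGeometry MonoidalCategory
open CartesianMonoidalCategory MonObj
universe u

namespace Groth.Agent.Lib.Helper40.TorsorBC

open Groth.Agent.Lib.Helper40.ActPts Groth.Agent.Lib.Helper40.TorsorTriv
open Groth.Agent.Lib.Helper40.FpqcCov Groth.Agent.Lib.Helper40.TorsorPush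
open Groth.Agent.Lib.Helper40.TorsorExact

variable {X X' : Scheme.{u}} (f : X' ⟶ X)

theorem isPullback_pullback_map {A B : Over X} (φ : A ⟶ B) :
    IsPullback ((Over.pullback f).map φ).left (pullback.fst A.hom f) (pullback.fst B.hom f)
      φ.left := by
  have hB : IsPullback (pullback.fst B.hom f) (pullback.snd B.hom f) B.hom f :=
    IsPullback.of_hasPullback _ _
  have hA : IsPullback (pullback.fst A.hom f) (pullback.snd A.hom f) A.hom f :=
    IsPullback.of_hasPullback _ _
  have hA' : IsPullback (pullback.fst A.hom f) (pullback.snd A.hom f) (φ.left ≫ B.hom) f := by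
    rw [Over.w]
    exact hA
  have e2 : ((Over.pullback f).map φ).left ≫ pullback.snd B.hom f = pullback.snd A.hom f := by
    exact pullback.lift_snd _ _ _
  have e1 : ((Over.pullback f).map φ).left ≫ pullback.fst B.hom f =
      pullback.fst A.hom f ≫ φ.left := by
    exact pullback.lift_fst _ _ _
  have hA'' : IsPullback (pullback.fst A.hom f)
      (((Over.pullback f).map φ).left ≫ pullback.snd B.hom f) (φ.left ≫ B.hom) f := by
    rw [e2]
    exact hA'
  exact IsPullback.of_right hA''.flip e1 hB.flip

set_option backward.isDefEq.respectTransparency.types false in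
theorem isIso_of_isIso_pullback_map [Flat f] [Surjective f] [QuasiCompact f] {A B : Over X}
    (φ : A ⟶ B) (h : IsIso ((Over.pullback f).map φ)) : IsIso φ := by
  suffices h' : IsIso φ.left by
    have : IsIso ((Over.forget X).map φ) := h'
    exact isIso_of_reflects_iso φ (Over.forget X)
  have hl : IsIso ((Over.pullback f).map φ).left :=
    (inferInstance : IsIso ((Over.forget X').map ((Over.pullback f).map φ)))
  have hcovf : IsCov f := (IsQCov.of_quasiCompact f).isCov
  have hcov : IsCov (pullback.fst B.hom f) :=
    hcovf.of_isPullback (IsPullback.of_hasPullback B.hom f)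
  have ifl := FpqcLocal.flat_descendsAlong_fpqc.{u}
  have key : (MorphismProperty.isomorphisms Scheme.{u}) φ.left :=
    hcov.descends (MorphismProperty.isomorphisms Scheme.{u}) (isPullback_pullback_map f φ) hl
  exact key

variable {J P : Over X} [GrpObj J] (a : AlgGrp.Action J P)
  (a' : AlgGrp.Action (Red.bc f J) (Red.bc f P))
  (ha' : Functor.LaxMonoidal.μ (Over.pullback f) J P ≫ (Over.pullback f).map a.act = a'.act)

include ha' in
theorem theta_bc :
    lift a'.act (snd (Red.bc f J) (Red.bc f P)) =
      Functor.LaxMonoidal.μ (Over.pullback f) J P ≫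
        (Over.pullback f).map (lift a.act (snd J P)) ≫
          Functor.OplaxMonoidal.δ (Over.pullback f) P P := by
  apply CartesianMonoidalCategory.hom_ext
  · rw [lift_fst, Category.assoc, Category.assoc, Functor.OplaxMonoidal.δ_fst, ← Functor.map_comp,
      lift_fst, ha']
  · rw [lift_snd, Category.assoc, Category.assoc, Functor.OplaxMonoidal.δ_snd, ← Functor.map_comp,
      lift_snd, Functor.Monoidal.μ_snd]

include ha' in
theorem isPseudoTorsor_bc_iff [Flat f] [Surjective f] [QuasiCompact f] :
    NonAbH1.IsPseudoTorsorSch a ↔ NonAbH1.IsPseudoTorsorSch a' := by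
  unfold NonAbH1.IsPseudoTorsorSch
  rw [theta_bc f a a' ha']
  constructor
  · intro h
    infer_instance
  · intro h
    apply isIso_of_isIso_pullback_map f
    have e : (Over.pullback f).map (lift a.act (snd J P)) =
        Functor.OplaxMonoidal.δ (Over.pullback f) J P ≫
          (Functor.LaxMonoidal.μ (Over.pullback f) J P ≫
            (Over.pullback f).map (lift a.act (snd J P)) ≫
              Functor.OplaxMonoidal.δ (Over.pullback f) P P) ≫
          Functor.LaxMonoidal.μ (Over.pullback f) P P := by
      simp only [Category.assoc, Functor.Monoidal.δ_μ, Functor.Monoidal.δ_μ_assoc,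
        Category.comp_id]
    rw [e]
    infer_instance

theorem isCov_bc_iff [Flat f] [Surjective f] [QuasiCompact f] :
    IsCov P.hom ↔ IsCov (Red.bc f P).hom := by
  have hcovf : IsCov f := (IsQCov.of_quasiCompact f).isCov
  constructor
  · intro h
    exact h.of_isPullback (IsPullback.of_hasPullback P.hom f).flip
  · intro h
    have h1 : IsCov ((Red.bc f P).hom ≫ f) := h.comp hcovf
    exact IsCov.of_comp_eq (pullback.fst P.hom f) pullback.condition h1

include ha' in
theorem isTorsorFor_bc_iff [Flat f] [Surjective f] [QuasiCompact f] :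
    NonAbH1.IsTorsorFor Scheme.fpqcPrecoverage a ↔
      NonAbH1.IsTorsorFor Scheme.fpqcPrecoverage a' := by
  unfold NonAbH1.IsTorsorFor
  rw [isPseudoTorsor_bc_iff f a a' ha']
  constructor
  · rintro ⟨h1, h2⟩
    exact ⟨h1, isLocallyTrivialFor_fpqc_of_isCov _
      ((isCov_bc_iff f).mp (isCov_of_isLocallyTrivialFor_fpqc _ h2))⟩
  · rintro ⟨h1, h2⟩
    exact ⟨h1, isLocallyTrivialFor_fpqc_of_isCov _
      ((isCov_bc_iff f).mpr (isCov_of_isLocallyTrivialFor_fpqc _ h2))⟩

end Groth.Agent.Lib.Helper40.TorsorBC
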