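import Mathlib
import Groth.Agent.Lib.Helper40.TorsorInv

/-!
# Invariant functions for a covering with a given kernel pair
-/

set_option autoImplicit false
open CategoryTheory CategoryTheory.Limits AlgebraicGeometry
universe u

namespace Groth.Agent.Lib.Helper40.TorsorInv

open Groth.Agent.Lib.Helper40.FpqcCov

theorem appTop_of_isPullback {X Y R : Scheme.{u}} (f : X ⟶ Y) (hcov : IsCov f)
    (σ p₂ : R ⟶ X) (hsq : IsPullback σ p₂ f f) :
    Function.Injective f.appTop.hom ∧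
      ∀ s : Γ(X, ⊤), s ∈ Set.range f.appTop.hom ↔ σ.appTop.hom s = p₂.appTop.hom s := by
  have hepi : Epi f := hcov.epi
  have heff : EffectiveEpi f := hcov.effectiveEpi
  refine ⟨EpiSections.injective_appTop_of_epi f, fun s => ⟨?_, fun h => ?_⟩⟩
  · rintro ⟨t, rfl⟩
    have e : ∀ {W : Scheme.{u}} (g : W ⟶ X),
        g.appTop.hom (f.appTop.hom t) = (g ≫ f).appTop.hom t := by
      intro W g
      rw [Scheme.Hom.comp_appTop]
      rfl
    rw [e, e, hsq.w]
  · apply exists_appTop_eq_of_effectiveEpi f s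
    intro Z g₁ g₂ h12
    obtain ⟨z, e1, e2⟩ : ∃ z : Z ⟶ R, z ≫ σ = g₁ ∧ z ≫ p₂ = g₂ :=
      ⟨hsq.lift g₁ g₂ h12, hsq.lift_fst _ _ _, hsq.lift_snd _ _ _⟩
    subst e1 e2
    simp only [Scheme.Hom.comp_appTop, CommRingCat.hom_comp, RingHom.comp_apply]
    rw [h]

end Groth.Agent.Lib.Helper40.TorsorInv
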