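import Mathlib
import Groth.Prelude.Def_NonAbH2
import Groth.Prelude.Def_ChGrp
import Groth.Prelude.Def_ActBC
import Groth.Agent.Lib.Helper40.TorsorExact2
import Groth.Agent.Lib.Helper40.QuotShEff

/-!
# Reduction of the structure group of a torsor and sections of the quotient
-/

set_option autoImplicit false
set_option linter.unusedSectionVars false
open CategoryTheory CategoryTheory.Limits AlgebraicGeometry MonoidalCategory
open CartesianMonoidalCategory MonObj
universe u

namespace Groth.Agent.Lib.Helper40.TorsorRed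

open Groth.Agent.Lib.Helper40.ActPts Groth.Agent.Lib.Helper40.TorsorTriv
open Groth.Agent.Lib.Helper40.FpqcCov Groth.Agent.Lib.Helper40.TorsorPush
open Groth.Agent.Lib.Helper40.TorsorExact

variable {S : Scheme.{u}} {G H F Q : Over S} [GrpObj G] [GrpObj H]
  (i : G ⟶ H) [IsMonHom i] (aF : AlgGrp.Action H F) (π : F ⟶ Q)
  (hsq : IsPullback (aF.restrict i).act (snd G F) π π)

theorem isCov_of_isLocallyTrivialFor_etale {Y : Scheme.{u}} (X : Over Y)
    (h : NonAbH1.IsLocallyTrivialFor Scheme.etalePrecoverage X) : IsCov X.hom := by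
  obtain ⟨R, hR, hsec⟩ := h
  exact isCov_of_isLocallyTrivialFor_fppf X
    ⟨R, QuotShApi.etalePrecoverage_le_fppfPrecoverage _ hR, hsec⟩

theorem restrict_pts {T : Over S} (g : T ⟶ G) (y : T ⟶ F) :
    lift g y ≫ (aF.restrict i).act = smul aF (g ≫ i) y := by
  rw [AlgGrp.Action.lift_restrict_act, smul_def]

include hsq in
theorem sq_exists {T : Over S} (x y : T ⟶ F) (h : x ≫ π = y ≫ π) :
    ∃ g : T ⟶ G, smul aF (g ≫ i) y = x := by
  refine ⟨hsq.lift x y h ≫ fst G F, ?_⟩
  have h1 := hsq.lift_fst x y h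
  have h2 := hsq.lift_snd x y h
  have e : hsq.lift x y h = lift (hsq.lift x y h ≫ fst G F) y := by
    apply CartesianMonoidalCategory.hom_ext
    · rw [lift_fst]
    · rw [lift_snd, h2]
  rw [e, restrict_pts] at h1
  exact h1

include hsq in
theorem sq_unique {T : Over S} (g1 g2 : T ⟶ G) (y : T ⟶ F)
    (h : smul aF (g1 ≫ i) y = smul aF (g2 ≫ i) y) : g1 = g2 := by
  have e : lift g1 y = lift g2 y := by
    apply hsq.hom_ext
    · rw [restrict_pts, restrict_pts, h]
    · rw [lift_snd, lift_snd]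
  have := congrArg (fun k => k ≫ fst G F) e
  simpa using this

include hsq in
theorem sq_inv {T : Over S} (g : T ⟶ G) (y : T ⟶ F) : smul aF (g ≫ i) y ≫ π = y ≫ π := by
  rw [← restrict_pts, Category.assoc, hsq.w, ← Category.assoc, lift_snd]

section S16227

variable {E : Over S} (aE : AlgGrp.Action G E)
  (φ : E ⟶ F) (hφ : AlgGrp.Action.IsEquivariant aE (aF.restrict i) φ)

include hφ in
theorem equiv_pts {T : Over S} (g : T ⟶ G) (e : T ⟶ E) :
    smul aE g e ≫ φ = smul aF (g ≫ i) (e ≫ φ) := by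
  unfold AlgGrp.Action.IsEquivariant at hφ
  rw [smul_def, Category.assoc, hφ, ← Category.assoc, lift_whiskerLeft, restrict_pts]

include hsq hφ in
theorem phi_cancel (hps : NonAbH1.IsPseudoTorsorSch aE) {T : Over S} (e1 e2 : T ⟶ E)
    (h : e1 ≫ φ = e2 ≫ φ) : e1 = e2 := by
  have e : e1 = smul aE (lift e1 e2 ≫ divMap aE hps) e2 := (smul_divMap aE hps e1 e2).symm
  set d := lift e1 e2 ≫ divMap aE hps
  have h1 : smul aF (d ≫ i) (e2 ≫ φ) = smul aF ((1 : T ⟶ G) ≫ i) (e2 ≫ φ) := by
    rw [← equiv_pts i aF aE φ hφ, ← e, h, MonObj.one_comp, ActPts.one_smul]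
  have h2 : d = 1 := sq_unique i aF π hsq _ _ _ h1
  rw [e, h2, ActPts.one_smul]

include hsq hφ in
theorem isPullback_of_reduction (hcovE : IsCov E.hom) (hps : NonAbH1.IsPseudoTorsorSch aE)
    (σ : 𝟙_ (Over S) ⟶ Q) (hσ : toUnit E ≫ σ = φ ≫ π) : IsPullback φ (toUnit E) π σ := by
  apply isPullback_of_existsUnique hσ.symm
  intro W x t hxt
  have hcove : IsCov (fst W E).left := isCov_fst_left W E hcovE
  have hepi : Epi (fst W E) := epi_of_isCov_left hcove
  have h1 : (fst W E ≫ x) ≫ π = (snd W E ≫ φ) ≫ π := by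
    rw [Category.assoc, hxt, Category.assoc, ← hσ, ← Category.assoc, ← Category.assoc]
    congr 1
    exact toUnit_unique _ _
  obtain ⟨g, hg⟩ := sq_exists i aF π hsq _ _ h1
  have h2 : smul aE g (snd W E) ≫ φ = fst W E ≫ x := by
    rw [equiv_pts i aF aE φ hφ, hg]
  obtain ⟨k, hk⟩ := exists_desc_over hcove (smul aE g (snd W E)) (by
    intro R a b hab
    apply phi_cancel i aF π hsq aE φ hφ hps
    rw [Category.assoc, Category.assoc, h2, ← Category.assoc, ← Category.assoc, hab])
  refine ⟨k, ⟨?_, toUnit_unique _ _⟩, ?_⟩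
  · rw [← cancel_epi (fst W E), ← Category.assoc, hk, h2]
  · rintro k' ⟨hk', -⟩
    apply phi_cancel i aF π hsq aE φ hφ hps
    rw [hk', ← cancel_epi (fst W E), ← Category.assoc, hk, h2]

include hsq hφ in
theorem existsUnique_section (hcovE : IsCov E.hom) (hps : NonAbH1.IsPseudoTorsorSch aE) :
    ∃! σ : 𝟙_ (Over S) ⟶ Q, toUnit E ≫ σ = φ ≫ π := by
  have hcovE' : IsCov (toUnit E).left := by
    rw [Over.toUnit_left]
    exact hcovE
  have hepi : Epi (toUnit E) := epi_of_isCov_left hcovE'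
  obtain ⟨σ, hσ⟩ := exists_desc_over hcovE' (φ ≫ π) (by
    intro R x y _
    have e : x = smul aE (lift x y ≫ divMap aE hps) y := (smul_divMap aE hps x y).symm
    rw [e, ← Category.assoc, equiv_pts i aF aE φ hφ, sq_inv i aF π hsq, Category.assoc])
  refine ⟨σ, hσ, ?_⟩
  intro σ' hσ'
  rw [← cancel_epi (toUnit E), hσ, hσ']

end S16227

end Groth.Agent.Lib.Helper40.TorsorRed
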