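import Mathlib
import Groth.Agent.Lib.Helper40.TorsorRed

/-!
# A section of `F/G` gives a reduction of the structure group
-/

set_option autoImplicit false
set_option linter.unusedSectionVars false
open CategoryTheory CategoryTheory.Limits AlgebraicGeometry MonoidalCategory
open CartesianMonoidalCategory MonObj
universe u

namespace Groth.Agent.Lib.Helper40.TorsorRed

open Groth.Agent.Lib.Helper40.ActPts Groth.Agent.Lib.Helper40.TorsorTriv
open Groth.Agent.Lib.Helper40.FpqcCov Groth.Agent.Lib.Helper40.TorsorPush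
open Groth.Agent.Lib.Helper40.TorsorExact

variable {S : Scheme.{u}} {G H F Q : Over S} [GrpObj G] [GrpObj H]
  (i : G ⟶ H) [IsMonHom i] (aF : AlgGrp.Action H F) (π : F ⟶ Q)
  (hsq : IsPullback (aF.restrict i).act (snd G F) π π) (σ : 𝟙_ (Over S) ⟶ Q)

/-- the fibre of `π` over the section `σ` -/
noncomputable abbrev red : Over S := pullback π σ

noncomputable abbrev redφ : red π σ ⟶ F := pullback.fst π σ

theorem redφ_comp : redφ π σ ≫ π = toUnit _ ≫ σ := by
  rw [pullback.condition]
  congr 1
  exact toUnit_unique _ _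

theorem redφ_cancel {T : Over S} (a b : T ⟶ red π σ) (h : a ≫ redφ π σ = b ≫ redφ π σ) :
    a = b := by
  apply pullback.hom_ext h
  exact toUnit_unique _ _

noncomputable def redLift {T : Over S} (x : T ⟶ F) (h : x ≫ π = toUnit T ≫ σ) : T ⟶ red π σ :=
  pullback.lift x (toUnit T) h

theorem redLift_φ {T : Over S} (x : T ⟶ F) (h : x ≫ π = toUnit T ≫ σ) :
    redLift π σ x h ≫ redφ π σ = x :=
  pullback.lift_fst _ _ _

theorem pt_comp {T : Over S} (e : T ⟶ red π σ) : (e ≫ redφ π σ) ≫ π = toUnit T ≫ σ := by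
  rw [Category.assoc, redφ_comp, ← Category.assoc]
  congr 1
  exact toUnit_unique _ _

include hsq in
theorem redAct_aux :
    smul aF (fst G (red π σ) ≫ i) (snd G (red π σ) ≫ redφ π σ) ≫ π = toUnit _ ≫ σ := by
  rw [sq_inv i aF π hsq, pt_comp]

noncomputable def redActMap : G ⊗ red π σ ⟶ red π σ :=
  redLift π σ (smul aF (fst G (red π σ) ≫ i) (snd G (red π σ) ≫ redφ π σ))
    (redAct_aux i aF π hsq σ)

theorem redActMap_pts {T : Over S} (g : T ⟶ G) (e : T ⟶ red π σ) :
    lift g e ≫ redActMap i aF π hsq σ ≫ redφ π σ = smul aF (g ≫ i) (e ≫ redφ π σ) := by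
  unfold redActMap
  rw [redLift_φ, comp_smul, ← Category.assoc, lift_fst, ← Category.assoc, lift_snd]

noncomputable def redAction : AlgGrp.Action G (red π σ) :=
  actionOfPts (redActMap i aF π hsq σ)
    (by
      intro T x
      apply redφ_cancel
      rw [Category.assoc, redActMap_pts, MonObj.one_comp, ActPts.one_smul])
    (by
      intro T g h x
      apply redφ_cancel
      rw [Category.assoc, redActMap_pts, Category.assoc, redActMap_pts, Category.assoc,
        redActMap_pts, MonObj.mul_comp, ActPts.mul_smul])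

theorem redAction_pts {T : Over S} (g : T ⟶ G) (e : T ⟶ red π σ) :
    smul (redAction i aF π hsq σ) g e ≫ redφ π σ = smul aF (g ≫ i) (e ≫ redφ π σ) := by
  rw [smul_def, Category.assoc]
  exact redActMap_pts i aF π hsq σ g e

theorem redAction_isEquivariant :
    AlgGrp.Action.IsEquivariant (redAction i aF π hsq σ) (aF.restrict i) (redφ π σ) := by
  unfold AlgGrp.Action.IsEquivariant
  have e : G ◁ redφ π σ = lift (fst G (red π σ)) (snd G (red π σ) ≫ redφ π σ) := by
    apply CartesianMonoidalCategory.hom_ext <;> simp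
  rw [e, restrict_pts]
  have := redAction_pts i aF π hsq σ (fst G (red π σ)) (snd G (red π σ))
  rw [smul_def, lift_fst_snd, Category.id_comp] at this
  exact this

theorem redAction_isPseudoTorsor :
    NonAbH1.IsPseudoTorsorSch (redAction i aF π hsq σ) := by
  set E := red π σ
  set aE := redAction i aF π hsq σ with haE
  have h0 : (fst E E ≫ redφ π σ) ≫ π = (snd E E ≫ redφ π σ) ≫ π := by
    rw [pt_comp, pt_comp]
  obtain ⟨dE, hdE⟩ := sq_exists i aF π hsq _ _ h0
  have hΘ : lift aE.act (snd G E) = lift (smul aE (fst G E) (snd G E)) (snd G E) := by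
    rw [smul_def, lift_fst_snd, Category.id_comp]
  refine ⟨lift dE (snd E E), ?_, ?_⟩
  · rw [hΘ, comp_lift, lift_snd]
    have : lift (smul aE (fst G E) (snd G E)) (snd G E) ≫ dE = fst G E := by
      apply sq_unique i aF π hsq _ _ (snd G E ≫ redφ π σ)
      have h1 := congrArg (fun k => lift (smul aE (fst G E) (snd G E)) (snd G E) ≫ k) hdE
      simp only [comp_smul] at h1
      rw [← Category.assoc, ← Category.assoc, lift_snd, ← Category.assoc, lift_fst] at h1
      rw [h1, redAction_pts]
    rw [this, lift_fst_snd]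
  · rw [hΘ, comp_lift, comp_smul, lift_fst, lift_snd]
    have : smul aE dE (snd E E) = fst E E := by
      apply redφ_cancel
      rw [redAction_pts, hdE]
    rw [this, lift_fst_snd]

theorem red_isLocallyTrivialFor_etale
    (hloc : NonAbH1.IsLocallyTrivialFor Scheme.etalePrecoverage (Over.mk π.left : Over Q.left)) :
    NonAbH1.IsLocallyTrivialFor Scheme.etalePrecoverage (red π σ) := by
  obtain ⟨R, hR, hsec⟩ := hloc
  have hR' : R.pullbackArrows σ.left ∈ Scheme.etalePrecoverage (𝟙_ (Over S)).left :=
    Precoverage.pullbackArrows_mem σ.left hR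
  refine ⟨R.pullbackArrows σ.left, hR', ?_⟩
  rintro S' f ⟨Z, g, hg⟩
  obtain ⟨s, hs⟩ := hsec g hg
  change s ≫ π.left = g at hs
  have hσQ : σ.left ≫ Q.hom = 𝟙 S := Over.w σ
  let U : Over S := Over.mk (pullback.snd g σ.left)
  have hx : (pullback.fst g σ.left ≫ s) ≫ F.hom = U.hom := by
    rw [← Over.w π, Category.assoc, ← Category.assoc s, hs, ← Category.assoc, pullback.condition,
      Category.assoc, hσQ]
    exact Category.comp_id _
  let x : U ⟶ F := Over.homMk (pullback.fst g σ.left ≫ s) hx
  have hxπ : x ≫ π = toUnit U ≫ σ := by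
    ext
    rw [Over.comp_left, Over.comp_left, Over.toUnit_left]
    show (pullback.fst g σ.left ≫ s) ≫ π.left = pullback.snd g σ.left ≫ σ.left
    rw [Category.assoc, hs, pullback.condition]
  exact ⟨(redLift π σ x hxπ).left, Over.w (redLift π σ x hxπ)⟩

end Groth.Agent.Lib.Helper40.TorsorRed
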