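import Groth.Agent.Lib.Helper40.Bezout

set_option autoImplicit false
universe u

namespace Groth.Agent.Lib.Helper40

theorem kerProd_bijective {R : Type*} [CommRing R] {M : Type*} [AddCommGroup M] [Module R M]
    (g : M →ₗ[R] R) (y : M) (hy : g y = 1) :
    Function.Bijective
      (LinearMap.coprod (LinearMap.ker g).subtype (LinearMap.toSpanSingleton R M y)) := by
  have hF : ∀ k r, (LinearMap.coprod (LinearMap.ker g).subtype
      (LinearMap.toSpanSingleton R M y)) (k, r) = (k : M) + r • y := fun k r => by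
    simp [LinearMap.coprod_apply, LinearMap.toSpanSingleton_apply]
  refine ⟨?_, ?_⟩
  · rw [← LinearMap.ker_eq_bot, LinearMap.ker_eq_bot']
    rintro ⟨k, r⟩ hkr
    rw [hF] at hkr
    have h1 := congrArg g hkr
    rw [map_add, map_smul, hy, map_zero, k.2, zero_add, smul_eq_mul, mul_one] at h1
    subst h1
    rw [zero_smul, add_zero] at hkr
    ext
    · exact hkr
    · rfl
  · intro m
    refine ⟨(⟨m - g m • y, ?_⟩, g m), ?_⟩
    · rw [LinearMap.mem_ker, map_sub, map_smul, hy, smul_eq_mul, mul_one, sub_self]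
    · rw [hF]; simp

/-- the explicit splitting `ker g × R ≃ M` for `g y = 1`. -/
noncomputable def kerProdEquiv {R : Type*} [CommRing R] {M : Type*} [AddCommGroup M] [Module R M]
    (g : M →ₗ[R] R) (y : M) (hy : g y = 1) : (LinearMap.ker g × R) ≃ₗ[R] M :=
  LinearEquiv.ofBijective
    (LinearMap.coprod (LinearMap.ker g).subtype (LinearMap.toSpanSingleton R M y))
    (kerProd_bijective g y hy)

theorem kerProdEquiv_apply {R : Type*} [CommRing R] {M : Type*} [AddCommGroup M] [Module R M]
    (g : M →ₗ[R] R) (y : M) (hy : g y = 1) (k : LinearMap.ker g) (r : R) :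
    kerProdEquiv g y hy (k, r) = (k : M) + r • y := by
  rw [kerProdEquiv, LinearEquiv.ofBijective_apply, LinearMap.coprod_apply]
  simp [LinearMap.toSpanSingleton_apply]

/-- Over a Bézout domain a unimodular row is the first row of an invertible matrix. -/
theorem exists_matrix_first_row {R : Type u} [CommRing R] [IsDomain R] [IsBezout R]
    (n : ℕ) (f : Fin (n + 1) → R) (hf : Ideal.span (Set.range f) = ⊤) :
    ∃ A : Matrix (Fin (n + 1)) (Fin (n + 1)) R, IsUnit A.det ∧ A 0 = f := by
  classical
  -- the linear form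
  let φ : (Fin (n + 1) → R) →ₗ[R] R :=
    ∑ i, (f i) • (LinearMap.proj i : (Fin (n + 1) → R) →ₗ[R] R)
  have hφ : ∀ v, φ v = ∑ i, f i * v i := by
    intro v
    simp [φ, LinearMap.sum_apply]
  have hφe : ∀ j, φ (Pi.single j 1) = f j := by
    intro j
    rw [hφ, Finset.sum_eq_single j]
    · simp
    · intro i _ hij
      simp [Pi.single_eq_of_ne hij]
    · intro h; exact absurd (Finset.mem_univ j) h
  -- surjectivity
  have h1 : (1 : R) ∈ Ideal.span (Set.range f) := by rw [hf]; trivial
  obtain ⟨c, hc⟩ := (Ideal.mem_span_range_iff_exists_fun (R := R)).mp h1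
  let y : Fin (n + 1) → R := c
  have hy : φ y = 1 := by
    rw [hφ, ← hc]
    exact Finset.sum_congr rfl (fun i _ => mul_comm _ _)
  let e := kerProdEquiv φ y hy
  have hKfin : Module.Finite R (LinearMap.ker φ) := (exists_equiv_ker_prod φ y hy).2 inferInstance
  have hKfree : Module.Free R (LinearMap.ker φ) :=
    free_of_fg_submodule_of_free (Fin (n + 1) → R) (LinearMap.ker φ)
      (Module.Finite.iff_fg.mp hKfin)
  have hrank : Module.finrank R (LinearMap.ker φ) = n := by
    have h2 := LinearEquiv.finrank_eq e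
    rw [Module.finrank_prod, Module.finrank_self, Module.finrank_fin_fun] at h2
    omega
  let bK : Module.Basis (Fin n) R (LinearMap.ker φ) := Module.finBasisOfFinrankEq R _ hrank
  let bKR : Module.Basis (Fin n ⊕ Unit) R (LinearMap.ker φ × R) :=
    bK.prod (Module.Basis.singleton Unit R)
  let B0 : Module.Basis (Fin n ⊕ Unit) R (Fin (n + 1) → R) := bKR.map e
  let σ : Fin n ⊕ Unit ≃ Fin (n + 1) :=
    ((finSuccEquiv n).trans (Equiv.optionEquivSumPUnit (Fin n))).symm
  let B' : Module.Basis (Fin (n + 1)) R (Fin (n + 1) → R) := B0.reindex σ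
  have hB0 : φ (B' 0) = 1 := by
    have : σ.symm 0 = Sum.inr () := by
      simp [σ, finSuccEquiv_zero]
    simp only [B', Module.Basis.reindex_apply, this, B0, Module.Basis.map_apply, bKR]
    have h3 : (bK.prod (Module.Basis.singleton Unit R)) (Sum.inr ()) = ((0 : LinearMap.ker φ), (1 : R)) := by
      ext <;> simp
    rw [h3]
    change φ (kerProdEquiv φ y hy (0, 1)) = 1
    rw [kerProdEquiv_apply]
    simp [hy]
  have hBs : ∀ j : Fin n, φ (B' j.succ) = 0 := by
    intro j
    have : σ.symm j.succ = Sum.inl j := by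
      simp [σ, finSuccEquiv_succ]
    simp only [B', Module.Basis.reindex_apply, this, B0, Module.Basis.map_apply, bKR]
    have h3 : (bK.prod (Module.Basis.singleton Unit R)) (Sum.inl j) = (bK j, (0 : R)) := by
      ext <;> simp
    rw [h3]
    change φ (kerProdEquiv φ y hy (bK j, 0)) = 0
    rw [kerProdEquiv_apply]
    simp
  refine ⟨B'.toMatrix (Pi.basisFun R (Fin (n + 1))), ?_, ?_⟩
  · have := Module.Basis.toMatrix_mul_toMatrix_flip B' (Pi.basisFun R (Fin (n + 1)))
    exact Matrix.isUnit_det_of_right_inverse this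
  · funext j
    rw [Module.Basis.toMatrix_apply, Pi.basisFun_apply]
    have h4 := congrArg φ (B'.sum_repr (Pi.single j (1 : R)))
    rw [hφe, map_sum, Fin.sum_univ_succ] at h4
    simp only [map_smul, hB0, hBs, smul_eq_mul, mul_one, mul_zero, Finset.sum_const_zero,
      add_zero] at h4
    exact h4

end Groth.Agent.Lib.Helper40
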