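import Mathlib
import Groth.Prelude.Def_W4bk4git07Quot
import Groth.Agent.Lib.Helper40.GeomQuotDesc2
import Groth.Agent.Lib.Helper40.GoodQuotRestrict
import Groth.Agent.Lib.Helper40.FpqcCovOver

/-!
# Universal categorical quotients: surjectivity, invariant functions, and the comparison with
universal geometric quotients (helper40)
-/

set_option autoImplicit false
open CategoryTheory CategoryTheory.Limits AlgebraicGeometry MonoidalCategory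
open CartesianMonoidalCategory MonObj GrpObj
universe u

namespace Groth.Agent.Lib.Helper40.UnivCatQuot

open Groth.Agent.Lib.Helper40.GeomQuotCat (appLE_congr)
open Groth.Agent.Lib.Helper40.GoodQuotRestrict (appLE_bijective_of_image_eq image_preimage_eq)
open Groth.Agent.Lib.Helper40.GeomQuotDesc (exists_induced_action)
open Groth.Agent.Lib.Helper40

/-! ### the affine line over `S` as a test object -/

variable {S : Scheme.{u}}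

/-- The affine line over `S`. -/
noncomputable def A1 (S : Scheme.{u}) : Over S := Over.mk (𝔸(PUnit.{u+1}; S) ↘ S)

/-- The morphism to the affine line given by a global function. -/
noncomputable def toA1 (T : Over S) (v : Γ(T.left, ⊤)) : T ⟶ A1 S :=
  Over.homMk (AffineSpace.homOfVector T.hom (fun _ => v)) (AffineSpace.homOfVector_over _ _)

theorem toA1_coord (T : Over S) (v : Γ(T.left, ⊤)) :
    (toA1 T v).left.appTop.hom (AffineSpace.coord S PUnit.unit) = v :=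
  AffineSpace.homOfVector_appTop_coord _ _ _

theorem A1_ext {T : Over S} (χ₁ χ₂ : T ⟶ A1 S)
    (h : χ₁.left.appTop.hom (AffineSpace.coord S PUnit.unit) =
      χ₂.left.appTop.hom (AffineSpace.coord S PUnit.unit)) : χ₁ = χ₂ := by
  apply Over.OverMorphism.ext
  apply AffineSpace.hom_ext
  · exact (Over.w χ₁).trans (Over.w χ₂).symm
  · intro i
    cases i
    exact h

theorem comp_toA1 {T' T : Over S} (k : T' ⟶ T) (v : Γ(T.left, ⊤)) :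
    k ≫ toA1 T v = toA1 T' (k.left.appTop.hom v) := by
  apply A1_ext
  rw [toA1_coord]
  have h4 : (k ≫ toA1 T v).left.appTop.hom (AffineSpace.coord S PUnit.unit) =
      k.left.appTop.hom ((toA1 T v).left.appTop.hom (AffineSpace.coord S PUnit.unit)) := rfl
  rw [h4, toA1_coord]

variable {G X Y : Over S} [GrpObj G]

theorem secs_of_isCatQuot (a : AlgGrp.Action G X) (φ : X ⟶ Y) (hc : GIT.IsCatQuot a φ) :
    Function.Injective φ.left.appTop.hom ∧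
      ∀ f : Γ(X.left, ⊤), a.act.left.appTop.hom f = (snd G X).left.appTop.hom f →
        f ∈ Set.range φ.left.appTop.hom := by
  obtain ⟨hinv, huniv⟩ := hc
  have hinve : a.act ≫ φ = snd G X ≫ φ := hinv
  constructor
  · intro s t hst
    have e : φ ≫ toA1 Y s = φ ≫ toA1 Y t := by rw [comp_toA1, comp_toA1, hst]
    have hψ : GIT.IsInvariant a (φ ≫ toA1 Y s) := by
      show a.act ≫ φ ≫ toA1 Y s = snd G X ≫ φ ≫ toA1 Y s
      rw [← Category.assoc, hinve, Category.assoc]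
    obtain ⟨χ, -, hχ⟩ := huniv _ _ hψ
    have h1 : toA1 Y s = χ := hχ _ rfl
    have h2 : toA1 Y t = χ := hχ _ e.symm
    have h3 : (toA1 Y s).left.appTop.hom (AffineSpace.coord S PUnit.unit) =
        (toA1 Y t).left.appTop.hom (AffineSpace.coord S PUnit.unit) := by rw [h1, h2]
    rw [toA1_coord, toA1_coord] at h3
    exact h3
  · intro f hf
    have hψ : GIT.IsInvariant a (toA1 X f) := by
      show a.act ≫ toA1 X f = snd G X ≫ toA1 X f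
      rw [comp_toA1, comp_toA1, hf]
    obtain ⟨χ, hχ, -⟩ := huniv _ _ hψ
    have hχe : φ ≫ χ = toA1 X f := hχ
    refine ⟨χ.left.appTop.hom (AffineSpace.coord S PUnit.unit), ?_⟩
    have h4 : (φ ≫ χ).left.appTop.hom (AffineSpace.coord S PUnit.unit) =
        φ.left.appTop.hom (χ.left.appTop.hom (AffineSpace.coord S PUnit.unit)) := rfl
    rw [← h4, hχe, toA1_coord]

/-! ### scheme-level transfer of the sections property from an open piece -/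

section SchemeLevel

variable {GX GXU X₀ Y₀ XU YU : Scheme.{u}} {σ p : GX ⟶ X₀} {φ : X₀ ⟶ Y₀}
  {j : XU ⟶ X₀} {jY : YU ⟶ Y₀} [IsOpenImmersion j] [IsOpenImmersion jY]
  {φU : XU ⟶ YU} {ρ : GXU ⟶ GX} {σU pU : GXU ⟶ XU}

theorem sections_extend (hφU : φU ≫ jY = j ≫ φ)
    (hrange : ∀ x : X₀, φ.base x ∈ Set.range jY.base → x ∈ Set.range j.base)
    (hσ : σU ≫ j = ρ ≫ σ) (hp : pU ≫ j = ρ ≫ p) (hinv : σ ≫ φ = p ≫ φ)
    (V : YU.Opens)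
    (hsecU : Function.Injective (φU.app V).hom ∧ ∀ f' : Γ(XU, φU ⁻¹ᵁ V),
      (σU.appLE (φU ⁻¹ᵁ V) (σU ⁻¹ᵁ (φU ⁻¹ᵁ V) ⊓ pU ⁻¹ᵁ (φU ⁻¹ᵁ V)) inf_le_left).hom f' =
        (pU.appLE (φU ⁻¹ᵁ V) (σU ⁻¹ᵁ (φU ⁻¹ᵁ V) ⊓ pU ⁻¹ᵁ (φU ⁻¹ᵁ V)) inf_le_right).hom f' →
      f' ∈ Set.range (φU.app V).hom) :
    Function.Injective (φ.app (jY ''ᵁ V)).hom ∧ ∀ f : Γ(X₀, φ ⁻¹ᵁ (jY ''ᵁ V)),
      f ∈ Set.range (φ.app (jY ''ᵁ V)).hom ↔
        (σ.appLE (φ ⁻¹ᵁ (jY ''ᵁ V))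
          (σ ⁻¹ᵁ (φ ⁻¹ᵁ (jY ''ᵁ V)) ⊓ p ⁻¹ᵁ (φ ⁻¹ᵁ (jY ''ᵁ V))) inf_le_left).hom f =
          (p.appLE (φ ⁻¹ᵁ (jY ''ᵁ V))
            (σ ⁻¹ᵁ (φ ⁻¹ᵁ (jY ''ᵁ V)) ⊓ p ⁻¹ᵁ (φ ⁻¹ᵁ (jY ''ᵁ V))) inf_le_right).hom f := by
  have e1 : V ≤ jY ⁻¹ᵁ (jY ''ᵁ V) := (Scheme.Hom.preimage_image_eq jY V).ge
  have bU : Function.Bijective (jY.appLE (jY ''ᵁ V) V e1).hom :=
    appLE_bijective_of_image_eq jY _ _ e1 rfl
  have hXeq : j ''ᵁ (φU ⁻¹ᵁ V) = φ ⁻¹ᵁ (jY ''ᵁ V) := image_preimage_eq hφU hrange V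
  have e2 : φU ⁻¹ᵁ V ≤ j ⁻¹ᵁ (φ ⁻¹ᵁ (jY ''ᵁ V)) := by
    rw [← hXeq]; exact (Scheme.Hom.preimage_image_eq j _).ge
  have bX : Function.Bijective (j.appLE (φ ⁻¹ᵁ (jY ''ᵁ V)) (φU ⁻¹ᵁ V) e2).hom :=
    appLE_bijective_of_image_eq j _ _ e2 hXeq
  have hsq : φ.app (jY ''ᵁ V) ≫ j.appLE (φ ⁻¹ᵁ (jY ''ᵁ V)) (φU ⁻¹ᵁ V) e2 =
      jY.appLE (jY ''ᵁ V) V e1 ≫ φU.app V := by
    rw [Scheme.Hom.app_eq_appLE (f := φ), Scheme.Hom.app_eq_appLE (f := φU),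
      Scheme.Hom.appLE_comp_appLE, Scheme.Hom.appLE_comp_appLE]
    exact appLE_congr hφU.symm _ _ _ _
  have hinj : Function.Injective (φ.app (jY ''ᵁ V)).hom := by
    intro s₀ t₀ hst
    apply bU.1
    apply hsecU.1
    have es := congrArg (fun k => k.hom s₀) hsq
    have et := congrArg (fun k => k.hom t₀) hsq
    have h1 : (j.appLE (φ ⁻¹ᵁ (jY ''ᵁ V)) (φU ⁻¹ᵁ V) e2).hom ((φ.app (jY ''ᵁ V)).hom s₀) =
        (j.appLE (φ ⁻¹ᵁ (jY ''ᵁ V)) (φU ⁻¹ᵁ V) e2).hom ((φ.app (jY ''ᵁ V)).hom t₀) := by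
      rw [hst]
    exact es.symm.trans (h1.trans et)
  refine ⟨hinj, fun f => ⟨?_, fun hf => ?_⟩⟩
  · rintro ⟨t, rfl⟩
    have e : φ.app (jY ''ᵁ V) ≫ σ.appLE (φ ⁻¹ᵁ (jY ''ᵁ V))
        (σ ⁻¹ᵁ (φ ⁻¹ᵁ (jY ''ᵁ V)) ⊓ p ⁻¹ᵁ (φ ⁻¹ᵁ (jY ''ᵁ V))) inf_le_left =
        φ.app (jY ''ᵁ V) ≫ p.appLE (φ ⁻¹ᵁ (jY ''ᵁ V))
          (σ ⁻¹ᵁ (φ ⁻¹ᵁ (jY ''ᵁ V)) ⊓ p ⁻¹ᵁ (φ ⁻¹ᵁ (jY ''ᵁ V))) inf_le_right := by
      rw [Scheme.Hom.app_eq_appLE (f := φ), Scheme.Hom.appLE_comp_appLE,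
        Scheme.Hom.appLE_comp_appLE]
      exact appLE_congr hinv _ _ _ _
    exact congrArg (fun k => k.hom t) e
  · have hW : σU ⁻¹ᵁ (φU ⁻¹ᵁ V) ⊓ pU ⁻¹ᵁ (φU ⁻¹ᵁ V) ≤
        ρ ⁻¹ᵁ (σ ⁻¹ᵁ (φ ⁻¹ᵁ (jY ''ᵁ V)) ⊓ p ⁻¹ᵁ (φ ⁻¹ᵁ (jY ''ᵁ V))) := by
      rintro x ⟨hx1, hx2⟩
      have a1 : j.base (σU.base x) = σ.base (ρ.base x) :=
        congrArg (fun k : GXU ⟶ X₀ => k.base x) hσ
      have a2 : j.base (pU.base x) = p.base (ρ.base x) :=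
        congrArg (fun k : GXU ⟶ X₀ => k.base x) hp
      have b1 : j.base (σU.base x) ∈ φ ⁻¹ᵁ (jY ''ᵁ V) := e2 hx1
      have b2 : j.base (pU.base x) ∈ φ ⁻¹ᵁ (jY ''ᵁ V) := e2 hx2
      rw [a1] at b1; rw [a2] at b2
      exact ⟨b1, b2⟩
    have i1 : j.appLE (φ ⁻¹ᵁ (jY ''ᵁ V)) (φU ⁻¹ᵁ V) e2 ≫
        σU.appLE (φU ⁻¹ᵁ V) (σU ⁻¹ᵁ (φU ⁻¹ᵁ V) ⊓ pU ⁻¹ᵁ (φU ⁻¹ᵁ V)) inf_le_left =
        σ.appLE (φ ⁻¹ᵁ (jY ''ᵁ V))
          (σ ⁻¹ᵁ (φ ⁻¹ᵁ (jY ''ᵁ V)) ⊓ p ⁻¹ᵁ (φ ⁻¹ᵁ (jY ''ᵁ V))) inf_le_left ≫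
          ρ.appLE _ _ hW := by
      rw [Scheme.Hom.appLE_comp_appLE, Scheme.Hom.appLE_comp_appLE]
      exact appLE_congr hσ _ _ _ _
    have i2 : j.appLE (φ ⁻¹ᵁ (jY ''ᵁ V)) (φU ⁻¹ᵁ V) e2 ≫
        pU.appLE (φU ⁻¹ᵁ V) (σU ⁻¹ᵁ (φU ⁻¹ᵁ V) ⊓ pU ⁻¹ᵁ (φU ⁻¹ᵁ V)) inf_le_right =
        p.appLE (φ ⁻¹ᵁ (jY ''ᵁ V))
          (σ ⁻¹ᵁ (φ ⁻¹ᵁ (jY ''ᵁ V)) ⊓ p ⁻¹ᵁ (φ ⁻¹ᵁ (jY ''ᵁ V))) inf_le_right ≫
          ρ.appLE _ _ hW := by
      rw [Scheme.Hom.appLE_comp_appLE, Scheme.Hom.appLE_comp_appLE]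
      exact appLE_congr hp _ _ _ _
    have c1 := congrArg (fun k => k.hom f) i1
    have c2 := congrArg (fun k => k.hom f) i2
    have hf' : (σU.appLE (φU ⁻¹ᵁ V) (σU ⁻¹ᵁ (φU ⁻¹ᵁ V) ⊓ pU ⁻¹ᵁ (φU ⁻¹ᵁ V)) inf_le_left).hom
          ((j.appLE (φ ⁻¹ᵁ (jY ''ᵁ V)) (φU ⁻¹ᵁ V) e2).hom f) =
        (pU.appLE (φU ⁻¹ᵁ V) (σU ⁻¹ᵁ (φU ⁻¹ᵁ V) ⊓ pU ⁻¹ᵁ (φU ⁻¹ᵁ V)) inf_le_right).hom
          ((j.appLE (φ ⁻¹ᵁ (jY ''ᵁ V)) (φU ⁻¹ᵁ V) e2).hom f) := by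
      have h5 : (ρ.appLE _ _ hW).hom ((σ.appLE (φ ⁻¹ᵁ (jY ''ᵁ V))
            (σ ⁻¹ᵁ (φ ⁻¹ᵁ (jY ''ᵁ V)) ⊓ p ⁻¹ᵁ (φ ⁻¹ᵁ (jY ''ᵁ V))) inf_le_left).hom f) =
          (ρ.appLE _ _ hW).hom ((p.appLE (φ ⁻¹ᵁ (jY ''ᵁ V))
            (σ ⁻¹ᵁ (φ ⁻¹ᵁ (jY ''ᵁ V)) ⊓ p ⁻¹ᵁ (φ ⁻¹ᵁ (jY ''ᵁ V))) inf_le_right).hom f) := by
        rw [hf]
      exact c1.trans (h5.trans c2.symm)
    obtain ⟨t, ht⟩ := hsecU.2 _ hf'
    obtain ⟨t₀, rfl⟩ := bU.2 t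
    refine ⟨t₀, ?_⟩
    apply bX.1
    have c3 := congrArg (fun k => k.hom t₀) hsq
    exact c3.trans ht

theorem appTop_eq_of_appLE_eq {A B : Scheme.{u}} (k₁ k₂ : A ⟶ B) (W' : A.Opens) (hW' : W' = ⊤)
    (e₁ : W' ≤ k₁ ⁻¹ᵁ ⊤) (e₂ : W' ≤ k₂ ⁻¹ᵁ ⊤) (f' : Γ(B, ⊤))
    (h : (k₁.appLE ⊤ W' e₁).hom f' = (k₂.appLE ⊤ W' e₂).hom f') :
    k₁.appTop.hom f' = k₂.appTop.hom f' := by
  subst hW'
  have a1 : k₁.appLE ⊤ ⊤ e₁ = k₁.appTop := Scheme.Hom.appLE_eq_app k₁ (U := ⊤)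
  have a2 : k₂.appLE ⊤ ⊤ e₂ = k₂.appTop := Scheme.Hom.appLE_eq_app k₂ (U := ⊤)
  rw [a1, a2] at h
  exact h

theorem secU_of_appTop (h1 : Function.Injective φU.appTop.hom)
    (h2 : ∀ f : Γ(XU, ⊤), σU.appTop.hom f = pU.appTop.hom f → f ∈ Set.range φU.appTop.hom) :
    Function.Injective (φU.app ⊤).hom ∧ ∀ f' : Γ(XU, φU ⁻¹ᵁ ⊤),
      (σU.appLE (φU ⁻¹ᵁ ⊤) (σU ⁻¹ᵁ (φU ⁻¹ᵁ ⊤) ⊓ pU ⁻¹ᵁ (φU ⁻¹ᵁ ⊤)) inf_le_left).hom f' =
        (pU.appLE (φU ⁻¹ᵁ ⊤) (σU ⁻¹ᵁ (φU ⁻¹ᵁ ⊤) ⊓ pU ⁻¹ᵁ (φU ⁻¹ᵁ ⊤)) inf_le_right).hom f' →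
      f' ∈ Set.range (φU.app ⊤).hom := by
  refine ⟨h1, fun f' hf' => h2 f' ?_⟩
  have hW' : σU ⁻¹ᵁ (φU ⁻¹ᵁ ⊤) ⊓ pU ⁻¹ᵁ (φU ⁻¹ᵁ ⊤) = ⊤ := by
    ext x
    constructor
    · intro _; trivial
    · intro _; exact ⟨trivial, trivial⟩
  exact appTop_eq_of_appLE_eq σU pU _ hW' _ _ f' hf'

theorem orbit_bc {GX' X' Y' : Scheme.{u}} {g : Y' ⟶ Y₀} {pr : X' ⟶ X₀} {φ' : X' ⟶ Y'}
    {σ' p' : GX' ⟶ X'} {ρ' : GX' ⟶ GX}
    (hinv : σ ≫ φ = p ≫ φ) (hinv' : σ' ≫ φ' = p' ≫ φ')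
    (hpb : IsPullback pr φ' φ g) (hcart : IsPullback ρ' p' p pr)
    (hσ : σ' ≫ pr = ρ' ≫ σ)
    (h : Function.Surjective (pullback.lift σ p hinv).base) :
    Function.Surjective (pullback.lift σ' p' hinv').base := by
  intro z'
  have cc : (pullback.fst φ' φ' ≫ pr) ≫ φ = (pullback.snd φ' φ' ≫ pr) ≫ φ := by
    rw [Category.assoc, Category.assoc, hpb.w, ← Category.assoc, ← Category.assoc,
      pullback.condition]
  obtain ⟨c, hc1, hc2⟩ : ∃ c : pullback φ' φ' ⟶ pullback φ φ,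
      c ≫ pullback.fst φ φ = pullback.fst φ' φ' ≫ pr ∧
        c ≫ pullback.snd φ φ = pullback.snd φ' φ' ≫ pr :=
    ⟨pullback.lift _ _ cc, pullback.lift_fst _ _ _, pullback.lift_snd _ _ _⟩
  obtain ⟨q, hq⟩ := h (c.base z')
  obtain ⟨t₀, -, ht₀⟩ := Scheme.Pullback.exists_preimage_pullback
    (f := pullback.lift σ p hinv) (g := c) q z' hq
  obtain ⟨P, u, v, hw, t, htv⟩ : ∃ (P : Scheme.{u}) (u : P ⟶ GX) (v : P ⟶ pullback φ' φ')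
      (_ : u ≫ pullback.lift σ p hinv = v ≫ c) (t : P), v.base t = z' :=
    ⟨pullback (pullback.lift σ p hinv) c, pullback.fst _ _, pullback.snd _ _,
      pullback.condition, t₀, ht₀⟩
  have hu1 : u ≫ σ = v ≫ pullback.fst φ' φ' ≫ pr := by
    calc u ≫ σ = u ≫ pullback.lift σ p hinv ≫ pullback.fst φ φ := by rw [pullback.lift_fst]
      _ = (v ≫ c) ≫ pullback.fst φ φ := by rw [← Category.assoc, hw]
      _ = v ≫ pullback.fst φ' φ' ≫ pr := by rw [Category.assoc, hc1]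
  have hu2 : u ≫ p = (v ≫ pullback.snd φ' φ') ≫ pr := by
    calc u ≫ p = u ≫ pullback.lift σ p hinv ≫ pullback.snd φ φ := by rw [pullback.lift_snd]
      _ = (v ≫ c) ≫ pullback.snd φ φ := by rw [← Category.assoc, hw]
      _ = (v ≫ pullback.snd φ' φ') ≫ pr := by rw [Category.assoc, hc2, Category.assoc]
  obtain ⟨w, hw1, hw2⟩ : ∃ w : P ⟶ GX', w ≫ ρ' = u ∧ w ≫ p' = v ≫ pullback.snd φ' φ' :=
    ⟨hcart.lift _ _ hu2, hcart.lift_fst _ _ _, hcart.lift_snd _ _ _⟩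
  have hwv : w ≫ pullback.lift σ' p' hinv' = v := by
    apply pullback.hom_ext
    · rw [Category.assoc, pullback.lift_fst]
      apply hpb.hom_ext
      · calc (w ≫ σ') ≫ pr = (w ≫ ρ') ≫ σ := by rw [Category.assoc, hσ, Category.assoc]
          _ = u ≫ σ := by rw [hw1]
          _ = (v ≫ pullback.fst φ' φ') ≫ pr := by rw [hu1, Category.assoc]
      · calc (w ≫ σ') ≫ φ' = (w ≫ p') ≫ φ' := by rw [Category.assoc, hinv', Category.assoc]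
          _ = v ≫ pullback.snd φ' φ' ≫ φ' := by rw [hw2, Category.assoc]
          _ = (v ≫ pullback.fst φ' φ') ≫ φ' := by rw [← pullback.condition, Category.assoc]
    · rw [Category.assoc, pullback.lift_snd, hw2]
  refine ⟨w.base t, ?_⟩
  have e := congrArg (fun k : P ⟶ pullback φ' φ' => k.base t) hwv
  exact e.trans htv

end SchemeLevel

/-! ### universal categorical quotients -/

theorem isUnivCatQuot_bc {X' Y' : Over S} (a : AlgGrp.Action G X) (φ : X ⟶ Y)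
    (h : GIT.IsUnivCatQuot a φ) (pr : X' ⟶ X) (φ' : X' ⟶ Y') (g : Y' ⟶ Y)
    (hpb : IsPullback pr φ' φ g) (a' : AlgGrp.Action G X')
    (heq : a'.act ≫ pr = (G ◁ pr) ≫ a.act) (hinv' : GIT.IsInvariant a' φ') :
    GIT.IsUnivCatQuot a' φ' := by
  refine ⟨h.2 pr φ' g trivial hpb a' heq hinv', ?_⟩
  intro X'' Y'' pr' φ'' g' _ hpb' a'' heq' hinv''
  refine h.2 (pr' ≫ pr) φ'' (g' ≫ g) trivial (hpb'.paste_horiz hpb) a'' ?_ hinv''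
  rw [← Category.assoc, heq', Category.assoc, heq, MonoidalCategory.whiskerLeft_comp,
    Category.assoc]

theorem surj_of_isUnivCatQuot (a : AlgGrp.Action G X) (φ : X ⟶ Y) (h : GIT.IsUnivCatQuot a φ) :
    Function.Surjective φ.left.base := by
  intro y
  by_contra hy
  obtain ⟨Y', g, hne, hgy⟩ : ∃ (Y' : Over S) (g : Y' ⟶ Y), Nonempty Y'.left ∧
      ∀ z : Y'.left, g.left.base z = y :=
    ⟨Over.mk (Y.left.fromSpecResidueField y ≫ Y.hom),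
      Over.homMk (Y.left.fromSpecResidueField y) rfl,
      ⟨IsLocalRing.closedPoint (Y.left.residueField y)⟩,
      fun z => Scheme.fromSpecResidueField_apply y z⟩
  obtain ⟨X', pr, φ', hpb⟩ : ∃ (X' : Over S) (pr : X' ⟶ X) (φ' : X' ⟶ Y'),
      IsPullback pr φ' φ g := ⟨_, _, _, IsPullback.of_hasPullback φ g⟩
  obtain ⟨a', heq', hinv'⟩ := exists_induced_action a φ h.1.1 g pr φ' hpb
  have hc : GIT.IsCatQuot a' φ' := h.2 pr φ' g trivial hpb a' heq' hinv'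
  haveI hemp : IsEmpty X'.left := by
    refine ⟨fun x' => hy ⟨pr.left.base x', ?_⟩⟩
    have e := congrArg (fun k : X' ⟶ Y => k.left.base x') hpb.w
    exact e.trans (hgy _)
  have hinv'e : a'.act ≫ φ' = snd G X' ≫ φ' := hinv'
  have e01 : φ' ≫ toA1 Y' 0 = φ' ≫ toA1 Y' 1 := by
    apply Over.OverMorphism.ext
    exact (isInitialOfIsEmpty (X := X'.left)).hom_ext _ _
  have hψ : GIT.IsInvariant a' (φ' ≫ toA1 Y' 0) := by
    show a'.act ≫ φ' ≫ toA1 Y' 0 = snd G X' ≫ φ' ≫ toA1 Y' 0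
    rw [← Category.assoc, hinv'e, Category.assoc]
  obtain ⟨χ, -, hχ⟩ := hc.2 _ _ hψ
  have h1 : toA1 Y' 0 = χ := hχ _ rfl
  have h2 : toA1 Y' 1 = χ := hχ _ e01.symm
  have h3 : (toA1 Y' 0).left.appTop.hom (AffineSpace.coord S PUnit.unit) =
      (toA1 Y' 1).left.appTop.hom (AffineSpace.coord S PUnit.unit) := by rw [h1, h2]
  rw [toA1_coord, toA1_coord] at h3
  haveI : Nonempty (⊤ : Y'.left.Opens) := ⟨⟨hne.some, trivial⟩⟩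
  haveI : Nontrivial Γ(Y'.left, ⊤) := Scheme.component_nontrivial Y'.left ⊤
  exact zero_ne_one h3

theorem sections_of_isUnivCatQuot (a : AlgGrp.Action G X) (φ : X ⟶ Y)
    (h : GIT.IsUnivCatQuot a φ) (U : Y.left.Opens) :
    Function.Injective (φ.left.app U) ∧
      Set.range (φ.left.app U) = {f | GIT.IsInvSection a φ U f} := by
  let YU : Over S := Over.mk (U.ι ≫ Y.hom)
  let XU : Over S := Over.mk ((φ.left ⁻¹ᵁ U).ι ≫ X.hom)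
  let gU : YU ⟶ Y := Over.homMk U.ι rfl
  let jU : XU ⟶ X := Over.homMk (φ.left ⁻¹ᵁ U).ι rfl
  have wφ : (φ.left ∣_ U) ≫ U.ι ≫ Y.hom = (φ.left ⁻¹ᵁ U).ι ≫ X.hom := by
    rw [← Category.assoc, morphismRestrict_ι, Category.assoc, Over.w φ]
  let φU : XU ⟶ YU := Over.homMk (φ.left ∣_ U) wφ
  have hpbU : IsPullback jU φU φ gU :=
    IsPullback.of_map (Over.forget S)
      (Over.OverMorphism.ext (morphismRestrict_ι φ.left U).symm)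
      (isPullback_morphismRestrict φ.left U).flip
  obtain ⟨aU, heqU, hinvU⟩ := exists_induced_action a φ h.1.1 gU jU φU hpbU
  have hc : GIT.IsCatQuot aU φU := h.2 jU φU gU trivial hpbU aU heqU hinvU
  obtain ⟨hi, hs⟩ := secs_of_isCatQuot aU φU hc
  haveI : IsOpenImmersion jU.left := inferInstanceAs (IsOpenImmersion (φ.left ⁻¹ᵁ U).ι)
  have hφU' : φU.left ≫ U.ι = jU.left ≫ φ.left := morphismRestrict_ι φ.left U
  have hrange : ∀ x : X.left, φ.left.base x ∈ Set.range U.ι.base →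
      x ∈ Set.range jU.left.base := by
    intro x hx
    show x ∈ Set.range (φ.left ⁻¹ᵁ U).ι.base
    rw [Scheme.Opens.range_ι]
    rw [Scheme.Opens.range_ι] at hx
    exact hx
  have hσ : aU.act.left ≫ jU.left = (G ◁ jU).left ≫ a.act.left :=
    congrArg CommaMorphism.left heqU
  have hp : (snd G XU).left ≫ jU.left = (G ◁ jU).left ≫ (snd G X).left :=
    (congrArg CommaMorphism.left (whiskerLeft_snd G jU)).symm
  have key := sections_extend (j := jU.left) (jY := U.ι) hφU' hrange hσ hp h.1.1.left ⊤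
    (secU_of_appTop hi hs)
  have gen : ∀ V : Y.left.Opens, V = U →
      (Function.Injective (φ.left.app V) ∧
        Set.range (φ.left.app V) = {f | GIT.IsInvSection a φ V f}) →
      (Function.Injective (φ.left.app U) ∧
        Set.range (φ.left.app U) = {f | GIT.IsInvSection a φ U f}) := by
    intro V hV hPV
    subst hV
    exact hPV
  apply gen _ (Scheme.Opens.ι_image_top U)
  refine ⟨key.1, ?_⟩
  ext f
  exact key.2 f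

theorem result' (a : AlgGrp.Action G X) (φ : X ⟶ Y) (h : GIT.IsUnivCatQuot a φ) :
    Function.Surjective φ.left.base ∧
      (∀ U : Y.left.Opens,
        Function.Injective (φ.left.app U) ∧
          Set.range (φ.left.app U) = {f | GIT.IsInvSection a φ U f}) ∧
      (GIT.IsUnivGeomQuot a φ ↔
        GIT.IsUnivSubmersive φ.left ∧ Function.Surjective (GIT.PsiY a φ h.1.1).base) := by
  refine ⟨surj_of_isUnivCatQuot a φ h, sections_of_isUnivCatQuot a φ h,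
    ⟨fun hq => ⟨hq.1.subm, hq.1.orbit⟩, ?_⟩⟩
  rintro ⟨hsub, horb⟩
  refine ⟨⟨h.1.1, surj_of_isUnivCatQuot a φ h, horb, hsub, sections_of_isUnivCatQuot a φ h⟩, ?_⟩
  intro X' Y' pr φ' g _ hpb a' heq hinv'
  have h' := isUnivCatQuot_bc a φ h pr φ' g hpb a' heq hinv'
  have hpbL : IsPullback pr.left φ'.left φ.left g.left := hpb.map (Over.forget _)
  have hcart : IsPullback (G ◁ pr).left (snd G X').left (snd G X).left pr.left :=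
    (FpqcCov.isPullback_whiskerLeft G pr).map (Over.forget _)
  have hσ : a'.act.left ≫ pr.left = (G ◁ pr).left ≫ a.act.left :=
    congrArg CommaMorphism.left heq
  refine ⟨hinv', surj_of_isUnivCatQuot a' φ' h', ?_, ?_, sections_of_isUnivCatQuot a' φ' h'⟩
  · exact orbit_bc h.1.1.left hinv'.left hpbL hcart hσ horb
  · exact MorphismProperty.of_isPullback
      (P := MorphismProperty.universally (topologically @Topology.IsQuotientMap)) hpbL hsub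

end Groth.Agent.Lib.Helper40.UnivCatQuot
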